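import Mathlib.Data.List.Basic
import Mathlib.Data.Nat.Bitwise
/-
Finite searches for stabilisers of small pairs of vectors: bit masks, monomial data and operator
models, and certificates that a group of order prime to `p` cannot meet given sets.
-/
set_option autoImplicit false

namespace CfsgLib.BaseThree.Check

/-- all lists built by a candidate function -/
def leaves {α : Type} (cand : List α → List α) : Nat → List α → List (List α)
  | 0, pre => [pre]
  | n + 1, pre => (cand pre).flatMap fun a => leaves cand n (pre ++ [a])

theorem mem_leaves {α : Type} (cand : List α → List α) (f : Nat → α) (n : Nat)
    (h : ∀ k, k < n → f k ∈ cand ((List.range k).map f)) :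
    (List.range n).map f ∈ leaves cand n [] := by
  suffices ∀ m k, k + m = n → (List.range n).map f ∈ leaves cand m ((List.range k).map f) by
    simpa using this n 0 (Nat.zero_add n)
  intro m
  induction m with
  | zero => intro k hk; simp [leaves, show k = n by omega]
  | succ m ih =>
    intro k hk
    simp only [leaves, List.mem_flatMap]
    refine ⟨f k, h k (by omega), ?_⟩
    have := ih (k + 1) (by omega)
    simpa [List.range_succ] using this

/-- the image of a mask under the images of the unit masks -/
def imgOf : List Nat → Nat → Nat
  | [], _ => 0
  | a :: l, w => (if w % 2 == 1 then a else 0) ^^^ imgOf l (w / 2)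

/-- the parity of the number of bits -/
def parity : Nat → Nat → Bool
  | 0, _ => false
  | n + 1, w => (w % 2 == 1) != parity n (w / 2)

/-- table of a map of masks -/
def table (d : Nat) (l : List Nat) : List Nat := (List.range (2 ^ d)).map (imgOf l)

/-- product of tables, the second one first -/
def pmul (a b : List Nat) : List Nat := b.map fun i => a.getD i 0

/-- a proof tree: every branch ends in a product of order a multiple of `p`; `nil` and `cons` make
up the lists of branches -/
inductive Tree where
  | bad (word : List Nat) (j : Nat)
  | branch (idx : Nat) (kids : Tree)
  | nil
  | cons (head : Tree) (tail : Tree)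

/-- a node with a list of branches -/
def Tree.node (idx : Nat) (kids : List Tree) : Tree := .branch idx (kids.foldr Tree.cons Tree.nil)

/-- powers of a table -/
def ppow (a : List Nat) : Nat → List Nat
  | 0 => List.range a.length
  | n + 1 => pmul a (ppow a n)

/-- a table has a power of order `p` -/
def badWord (p : Nat) (path : List (List Nat)) (word : List Nat) (j : Nat) (size : Nat) : Bool :=
  let P := word.foldl (fun acc i => pmul acc (path.getD i [])) (List.range size)
  let Q := ppow P j
  Q != List.range size && ppow Q p == List.range size && word.all fun i => decide (i < path.length)

/-- validity of a tree (`false`) or of a list of branches (`true`) -/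
def walk (p size : Nat) (S : List (List (List Nat))) :
    Tree → Bool → List (List Nat) → List (List Nat) → Bool
  | .bad word j, m, path, _ => !m && badWord p path word j size
  | .branch idx kids, m, path, _ =>
      !m && (decide (idx < S.length) && walk p size S kids true path (S.getD idx []))
  | .nil, m, _, elems => m && elems.isEmpty
  | .cons t ts, m, path, elems => m && match elems with
    | [] => false
    | g :: gs => walk p size S t false (path ++ [g]) [] && walk p size S ts true path gs

/-- validity of a proof tree -/
def treeOK (p size : Nat) (S : List (List (List Nat))) (t : Tree) (path : List (List Nat)) : Bool :=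
  walk p size S t false path []

/-- monomial data: values form a group with neutral element `0` -/
structure Mono where
  /-- dimension -/
  d : Nat
  /-- number of values -/
  m : Nat
  /-- multiplication table -/
  mul : List (List Nat)
  /-- the sign -/
  neg : Nat
  /-- possible factors -/
  allowed : List Nat
  /-- the values -/
  val : List (Option Nat)

/-- multiplication of values -/
def Mono.op (D : Mono) (a b : Nat) : Nat := (D.mul.getD a []).getD b 0

/-- evaluate a number before using it -/
def withNat {α : Type} (n : Nat) (k : Nat → α) : α :=
  match n with
  | 0 => k 0
  | m + 1 => k (m + 1)

theorem withNat_eq {α : Type} (n : Nat) (k : Nat → α) : withNat n k = k n := by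
  cases n <;> rfl

/-- one step of the factor -/
def Mono.phaseStep (D : Mono) (w i : Nat) (e : Nat × Nat × Nat) (r : Nat) : Nat :=
  if w / 2 ^ i % 2 == 1 then
    if parity i (w &&& e.2.2 &&& (2 ^ i - 1)) then D.op (D.op r e.2.1) D.neg else D.op r e.2.1
  else r

/-- the factor of a mask, from the `i`-th image on -/
def Mono.phaseFrom (D : Mono) (w : Nat) : List (Nat × Nat × Nat) → Nat → Nat → Nat
  | [], _, r => r
  | e :: l, i, r => withNat (D.phaseStep w i e r) fun r' => D.phaseFrom w l (i + 1) r'

/-- the factor of a mask -/
def Mono.phase (D : Mono) (pre : List (Nat × Nat × Nat)) (w : Nat) : Nat := D.phaseFrom w pre 0 0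

/-- compatibility at one mask -/
def Mono.okAt (D : Mono) (pre : List (Nat × Nat × Nat)) (w : Nat) : Bool :=
  withNat (imgOf (pre.map fun e => e.1) w) fun im =>
    im != 0 && match D.val.getD w none, D.val.getD im none with
      | none, none => true
      | some a, some b => withNat (D.phase pre w) fun f => D.op f a == b
      | _, _ => false

/-- candidates for the next image -/
def Mono.cand (D : Mono) (pre : List (Nat × Nat × Nat)) : List (Nat × Nat × Nat) :=
  let k := pre.length
  let here := 2 ^ k
  (((List.range (2 ^ D.d)).filter fun img =>
      img != 0 && ((D.val.getD here none).isSome == (D.val.getD img none).isSome)).flatMap fun img =>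
    ((D.allowed.map fun p => (img, p, 0)).filter fun e => D.okAt (pre ++ [e]) here).flatMap fun e =>
      ((List.range (if D.neg == 0 then 1 else here)).map fun b => (e.1, e.2.1, b)).filter fun e' =>
        (List.range here).all fun w => D.okAt (pre ++ [e']) (here + w))

/-- the possible maps of a monomial datum other than the identity -/
def Mono.moves (D : Mono) : List (List Nat) :=
  ((leaves D.cand D.d []).map fun l => table D.d (l.map fun e => e.1)).filter
    fun t => t != List.range (2 ^ D.d)

/-- the support -/
def Mono.supp (D : Mono) (w : Nat) : Bool := w == 0 || (D.val.getD w none).isSome

/-- the span of a list of masks -/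
def span : List Nat → List Nat
  | [] => [0]
  | x :: l => let s := span l; if s.contains x then s else s ++ s.map fun y => y ^^^ x

/-- enough commutation in the support -/
def Mono.spans (D : Mono) : Bool :=
  let all := List.range (2 ^ D.d)
  let good := all.filter fun x => D.supp x &&
    let s := span (all.filter fun y => D.supp y && D.supp (x ^^^ y))
    all.all fun w => s.contains w
  let s := span good
  all.all fun w => s.contains w

/-- equations of the recursive definitions, made here once for all files using them -/
theorem checkEqnsHere : True := by
  have := @ppow.eq_def
  have := @walk.eq_def
  have := @imgOf.eq_def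
  have := @parity.eq_def
  have := @leaves.eq_def
  have := @span.eq_def
  have := @Mono.phaseFrom.eq_def
  trivial

end CfsgLib.BaseThree.Check
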