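import Cfsg.Agent.Lib.BaseCoprime.Check
/-
Search for the images of the generators of an operator group under an element fixing two vectors,
pruned by linear relations between translates of the two vectors. Vectors are packed, four bits for
each coordinate.
-/
set_option autoImplicit false

namespace CfsgLib.BaseThree.Check

/-- a generator: a sign change, a block swap, or one of two quaternion units on pairs -/
inductive Gen where
  | sgn (mask : Nat)
  | swp (shift mask : Nat)
  | unit1
  | unit2

/-- an operator model over a prime field -/
structure Model where
  /-- the characteristic -/
  q : Nat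
  /-- number of generators -/
  n : Nat
  /-- dimension -/
  e : Nat
  /-- the generators -/
  gens : List Gen
  /-- the first vector -/
  x : Nat
  /-- the second vector -/
  y : Nat
  /-- relations: terms with the newest generator and terms without -/
  rels : List (List (List (Nat × Nat) × List (Nat × Nat)))

/-- a one in each coordinate -/
def Model.ones (M : Model) : Nat := (2 ^ (4 * M.e) - 1) / 15

/-- reduce coordinates below twice the characteristic -/
def Model.red (M : Model) (v : Nat) : Nat :=
  v - M.q * (((v + (8 - M.q) * M.ones) &&& (8 * M.ones)) / 8)

/-- sum of vectors -/
def Model.add (M : Model) (v w : Nat) : Nat := M.red (v + w)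

/-- negation -/
def Model.neg (M : Model) (v : Nat) : Nat := M.red (M.q * M.ones - v)

/-- multiple of a vector -/
def Model.smul (M : Model) : Nat → Nat → Nat
  | 0, _ => 0
  | c + 1, v => M.add (M.smul c v) v

/-- the first coordinate of every pair -/
def Model.evens (M : Model) : Nat := (2 ^ (4 * M.e) - 1) / 255 * 15

/-- apply a generator -/
def Model.act (M : Model) : Gen → Nat → Nat
  | .sgn mask, v => (v - (v &&& mask)) + (M.neg v &&& mask)
  | .swp s mask, v => (v &&& mask) * 2 ^ s + (v / 2 ^ s &&& mask)
  | .unit1, v => (M.neg v / 16 &&& M.evens) + (v &&& M.evens) * 16
  | .unit2, v =>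
    M.red ((v &&& M.evens) + (v / 16 &&& M.evens)) +
      M.red ((v &&& M.evens) + (M.neg v / 16 &&& M.evens)) * 16

/-- apply the product belonging to a mask, higher generators outside -/
def Model.word (M : Model) (t : Nat) : List Gen → Nat → Nat → Nat
  | [], _, v => v
  | g :: l, i, v => withNat (if t / 2 ^ i % 2 == 1 then M.act g v else v) fun w => M.word t l (i + 1) w

/-- apply a scaled product -/
def Model.img (M : Model) (a : Nat × Nat) (v : Nat) : Nat :=
  withNat (M.word a.1 M.gens 0 v) fun w => M.smul a.2 w

/-- one doubling of a table -/
def Model.grow (M : Model) (a : Nat × Nat) (full : List Nat) : List Nat → List Nat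
  | [] => full
  | v :: l => withNat (M.img a v) fun w => M.grow a (full ++ [w]) l

/-- products of the given images applied to a vector, newer ones outside -/
def Model.table' (M : Model) (pre : List (Nat × Nat)) (v : Nat) : List Nat :=
  pre.foldl (fun tbl a => M.grow a tbl tbl) [v]

/-- a combination of table entries; an index `2 i + j` is entry `i` of table `j` -/
def Model.comb (M : Model) (tx ty : List Nat) : List (Nat × Nat) → Nat → Nat
  | [], acc => acc
  | r :: l, acc =>
    withNat (M.add acc (M.smul r.2 ((if r.1 % 2 == 0 then tx else ty).getD (r.1 / 2) 0))) fun a =>
      M.comb tx ty l a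

/-- the pairs to be matched by the next image -/
def Model.targets (M : Model) (tx ty : List Nat) :
    List (List (Nat × Nat) × List (Nat × Nat)) → List (Nat × Nat)
  | [] => []
  | r :: l => withNat (M.comb tx ty r.1 0) fun W => withNat (M.neg (M.comb tx ty r.2 0)) fun O =>
      (W, O) :: M.targets tx ty l

/-- candidates for the next image -/
def Model.cand (M : Model) (pre : List (Nat × Nat)) : List (Nat × Nat) :=
  let tg := M.targets (M.table' pre M.x) (M.table' pre M.y) (M.rels.getD pre.length [])
  ((List.range (2 ^ M.n)).flatMap fun t => (List.range (M.q - 1)).map fun c => (t, c + 1)).filter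
    fun a => tg.all fun e => M.img a e.1 == e.2

/-- the trivial images -/
def Model.std (M : Model) : List (Nat × Nat) := (List.range M.n).map fun i => (2 ^ i, 1)

/-- the moves: maps of masks from all solutions except the trivial one -/
def Model.moves (M : Model) : List (List Nat) :=
  ((leaves M.cand M.n []).filter fun l => l != M.std).map fun l => table M.n (l.map fun e => e.1)

/-- the moves are among the given ones, none of them trivial, and the model satisfies the relations -/
def Model.listed (M : Model) (L : List (List Nat)) : Bool :=
  (M.moves.all fun t => L.contains t && t != List.range (2 ^ M.n)) &&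
    (List.range M.n).all fun k =>
      (M.targets (M.table' (M.std.take k) M.x) (M.table' (M.std.take k) M.y) (M.rels.getD k [])).all
        fun e => M.img (M.std.getD k (0, 0)) e.1 == e.2

/-- equations of the recursive definitions, made here once for all files using them -/
theorem checkOpsEqnsHere : True := by
  have := @Model.smul.eq_def
  have := @Model.word.eq_def
  have := @Model.grow.eq_def
  have := @Model.comb.eq_def
  have := @Model.targets.eq_def
  have := @Model.act.eq_def
  trivial

end CfsgLib.BaseThree.Check
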