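import Cfsg.Agent.Lib.BaseCoprime.RigidSet
/-
A colouring with three colours and trivial stabiliser for every solvable permutation group of
order prime to three.
-/
set_option autoImplicit false

universe u

open scoped commutatorElement

namespace CfsgLib.BaseThree

open CfsgLib.BaseTwo (IsCR IsIrr)

/-- the shifts of a colouring with trivial stabiliser are inequivalent -/
theorem shift_free {G Ω : Type*} [Group G] [Finite G] [MulAction G Ω] [Nonempty Ω]
    (h3 : ¬ 3 ∣ Nat.card G) {c : Ω → ZMod 3}
    (hc : ∀ g : G, (∀ x, c (g • x) = c x) → ∀ x : Ω, g • x = x) {g : G} {i : ZMod 3}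
    (hg : ∀ x, c (g • x) = c x + i) : i = 0 := by
  have hn : ∀ (n : ℕ) (x : Ω), c (g ^ n • x) = c x + n • i := by
    intro n
    induction n with
    | zero => intro x; simp
    | succ n ih => intro x; rw [pow_succ, mul_smul, ih, hg, succ_nsmul']; abel
  have h := hc (g ^ 3) fun x => by rw [hn, ← Nat.cast_smul_eq_nsmul (ZMod 3)]; simp [show (3 : ZMod 3) = 0 from rfl]
  obtain ⟨m, hm⟩ := exists_pow_eq_self_of_coprime (Nat.Coprime.coprime_dvd_right (orderOf_dvd_natCard g)
    ((Nat.prime_three.coprime_iff_not_dvd).mpr h3))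
  have hfix : ∀ (j : ℕ) (x : Ω), (g ^ 3) ^ j • x = x := fun j => by
    induction j with
    | zero => intro x; simp
    | succ j ih => intro x; rw [pow_succ, mul_smul, h, ih]
  obtain ⟨x⟩ := (inferInstance : Nonempty Ω)
  have := hg x
  rw [← hm, hfix] at this
  exact left_eq_add.mp this

theorem primitive_three {G Ω : Type u} [Group G] [Finite G] [Finite Ω] [MulAction G Ω]
    [FaithfulSMul G Ω] [MulAction.IsPretransitive G Ω] [Nontrivial Ω]
    (hs : Group.IsSolvable G) (h3 : ¬ 3 ∣ Nat.card G)
    (a : Ω) (hmax : ∀ K : Subgroup G, MulAction.stabilizer G a < K → K = ⊤) :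
    ∃ c : Ω → ZMod 3, ∀ g : G, (∀ x, c (g • x) = c x) → g = 1 := by
  classical
  let H := MulAction.stabilizer G a
  have : Nontrivial G := by
    obtain ⟨x, y, hxy⟩ := exists_pair_ne Ω
    obtain ⟨g, rfl⟩ := MulAction.exists_smul_eq G x y
    exact ⟨⟨g, 1, fun h => hxy (by rw [h, one_smul])⟩⟩
  obtain ⟨N, hN, hNne, hcomm⟩ := exists_abelian_normal G hs
  have hcore : ∀ K : Subgroup G, K ≤ H → K.Normal → K = ⊥ := fun K hK hKn =>
    (Subgroup.eq_bot_iff_forall _).mpr fun k hk => FaithfulSMul.eq_of_smul_eq_smul fun x : Ω => by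
      obtain ⟨g, rfl⟩ := MulAction.exists_smul_eq G a x
      have h1 : g⁻¹ * k * g ∈ H := hK (by simpa using hKn.conj_mem k hk g⁻¹)
      rw [MulAction.mem_stabilizer_iff, mul_smul, mul_smul, inv_smul_eq_iff] at h1
      rw [h1, one_smul]
  -- nontrivial subgroups of N invariant under H are normal and transitive
  have hnormal : ∀ U : Subgroup G, U ≤ N → (∀ h ∈ H, ∀ x ∈ U, h * x * h⁻¹ ∈ U) → U.Normal := by
    intro U hU hUH
    have hle : H ⊔ N ≤ Subgroup.normalizer (U : Set G) := by
      refine sup_le (fun h hh => Subgroup.mem_normalizer_iff.mpr fun x => ⟨hUH h hh x, fun hx => ?_⟩)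
        fun n hn => Subgroup.mem_normalizer_iff.mpr fun x => ⟨fun hx => ?_, fun hx => ?_⟩
      · have := hUH h⁻¹ (inv_mem hh) _ hx
        simpa [mul_assoc] using this
      · rwa [hcomm n hn x (hU hx), mul_inv_cancel_right]
      · have hxN : x ∈ N := by
          have := hN.conj_mem _ (hU hx) n⁻¹
          simpa [mul_assoc] using this
        rwa [hcomm n hn x hxN, mul_inv_cancel_right] at hx
    have htop : H ⊔ N = ⊤ := hmax _ (lt_of_le_of_ne le_sup_left fun h =>
      hNne (hcore N (le_sup_right.trans h.ge) hN))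
    rw [htop, top_le_iff] at hle
    exact Subgroup.normalizer_eq_top_iff.mp hle
  have hgen : ∀ U : Subgroup G, U.Normal → U ≠ ⊥ → ∀ x : Ω, ∃ u ∈ U, u • a = x := by
    intro U hUn hUne x
    have htop : H ⊔ U = ⊤ := hmax _ (lt_of_le_of_ne le_sup_left fun h =>
      hUne (hcore U (le_sup_right.trans h.ge) hUn))
    obtain ⟨g, rfl⟩ := MulAction.exists_smul_eq G a x
    obtain ⟨u, hu, h, hh, rfl⟩ := Subgroup.mem_sup_of_normal_left.mp
      (show g ∈ U ⊔ H by rw [sup_comm, htop]; trivial)
    exact ⟨u, hu, by rw [mul_smul, show h • a = a from hh]⟩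
  have hreg : N ⊓ H = ⊥ := by
    refine hcore _ inf_le_right (hnormal _ inf_le_left fun h hh x hx => ⟨hN.conj_mem x hx.1 h, ?_⟩)
    exact H.mul_mem (H.mul_mem hh hx.2) (H.inv_mem hh)
  have hinj : ∀ x ∈ N, ∀ y ∈ N, x • a = y • a → x = y := fun x hx y hy h => by
    have : y⁻¹ * x ∈ N ⊓ H := ⟨N.mul_mem (N.inv_mem hy) hx, by
      show (y⁻¹ * x) • a = a
      rw [mul_smul, h, inv_smul_smul]⟩
    rw [hreg, Subgroup.mem_bot] at this
    exact (inv_mul_eq_one.mp this).symm
  let e : N ≃ Ω := Equiv.ofBijective (fun x => (x : G) • a)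
    ⟨fun x y h => Subtype.ext (hinj x x.2 y y.2 h), fun x => by
      obtain ⟨u, hu, h⟩ := hgen N hN hNne x; exact ⟨⟨u, hu⟩, h⟩⟩
  -- N as a module for H
  let : IsMulCommutative N := ⟨⟨fun x y => Subtype.ext (hcomm x x.2 y y.2)⟩⟩
  let : CommGroup N := { (inferInstance : Group N) with mul_comm := fun x y => Subtype.ext (hcomm x x.2 y y.2) }
  let : DistribMulAction H (Additive N) :=
    { smul := fun h x => Additive.ofMul ⟨h.1 * (Additive.toMul x : N) * h.1⁻¹, hN.conj_mem _ (Additive.toMul x).2 h.1⟩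
      one_smul := fun x => Additive.toMul.injective (Subtype.ext (by
        show (1 : G) * _ * (1 : G)⁻¹ = _
        simp))
      mul_smul := fun g h x => Additive.toMul.injective (Subtype.ext (by
        show (g.1 * h.1) * _ * (g.1 * h.1)⁻¹ = g.1 * (h.1 * _ * h.1⁻¹) * g.1⁻¹
        group))
      smul_zero := fun g => Additive.toMul.injective (Subtype.ext (by
        show g.1 * 1 * g.1⁻¹ = 1
        simp))
      smul_add := fun g x y => Additive.toMul.injective (Subtype.ext (by
        show g.1 * ((Additive.toMul x : N).1 * (Additive.toMul y : N).1) * g.1⁻¹ =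
          (g.1 * (Additive.toMul x : N).1 * g.1⁻¹) * (g.1 * (Additive.toMul y : N).1 * g.1⁻¹)
        group)) }
  have hequiv : ∀ (h : H) (x : Additive N), e (Additive.toMul (h • x)) = h.1 • e (Additive.toMul x) := by
    intro h x
    simp only [e]
    show (h.1 * (Additive.toMul x : N).1 * h.1⁻¹) • a = h.1 • (Additive.toMul x : N).1 • a
    rw [mul_smul, mul_smul]
    congr 2
    exact inv_smul_eq_iff.mpr h.2.symm
  have : FaithfulSMul H (Additive N) := ⟨fun {g h} hgh => Subtype.ext
    (FaithfulSMul.eq_of_smul_eq_smul fun x : Ω => by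
      obtain ⟨y, rfl⟩ := e.surjective x
      show g.1 • e (Additive.toMul (Additive.ofMul y)) = _
      rw [← hequiv g (Additive.ofMul y), hgh, hequiv]; rfl)⟩
  have hirr : CfsgLib.BaseTwo.IsIrr H (Additive N) := by
    intro U hU
    by_cases hU1 : U = ⊥
    · exact Or.inl hU1
    right
    let U' : Subgroup G :=
      { carrier := {g | ∃ hg : g ∈ N, Additive.ofMul (⟨g, hg⟩ : N) ∈ U}
        one_mem' := ⟨one_mem _, U.zero_mem⟩
        mul_mem' := fun {x y} ⟨hx, hx'⟩ ⟨hy, hy'⟩ => ⟨mul_mem hx hy, U.add_mem hx' hy'⟩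
        inv_mem' := fun {x} ⟨hx, hx'⟩ => ⟨inv_mem hx, U.neg_mem hx'⟩ }
    have hU'n : U'.Normal := hnormal U' (fun g hg => hg.1) fun h hh x hx =>
      ⟨hN.conj_mem x hx.1 h, hU ⟨h, hh⟩ _ hx.2⟩
    have hU'ne : U' ≠ ⊥ := by
      obtain ⟨u, hu⟩ := AddSubgroup.ne_bot_iff_exists_ne_zero.mp hU1
      intro h
      have hmem : (Additive.toMul u.1 : N).1 ∈ U' := ⟨(Additive.toMul u.1 : N).2, u.2⟩
      rw [h, Subgroup.mem_bot] at hmem
      exact hu (Subtype.ext (Additive.toMul.injective (Subtype.ext hmem)))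
    rw [eq_top_iff]
    intro x _
    obtain ⟨u, ⟨huN, hu⟩, he⟩ := hgen U' hU'n hU'ne (e (Additive.toMul x))
    have : Additive.toMul x = ⟨u, huN⟩ := Subtype.ext (hinj _ (Additive.toMul x).2 u huN he.symm)
    have hx : x = Additive.ofMul (⟨u, huN⟩ : N) := by rw [← this]; rfl
    exact hx ▸ hu
  have hcardN : Nat.card (Additive N) = Nat.card Ω := Nat.card_congr (Additive.toMul.trans e)
  have : Nontrivial (Additive N) := Finite.one_lt_card_iff_nontrivial.mp (by
    rw [hcardN]; exact Finite.one_lt_card)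
  have hW3 : ¬ 3 ∣ Nat.card (Additive N) := fun h => h3 (h.trans (by
    rw [Nat.card_congr Additive.toMul]; exact Subgroup.card_subgroup_dvd_card N))
  obtain ⟨Y, hY0, hY⟩ := exists_rigid_set (G := H) (W := Additive N) inferInstance hirr
    (fun h => h3 (h.trans (Subgroup.card_subgroup_dvd_card _))) hW3
  let c : Ω → ZMod 3 := fun x =>
    if x = a then 0 else if Additive.ofMul (e.symm x) ∈ Y then 1 else 2
  have hne : ∀ x, x ≠ a → c x ≠ 0 := fun x hx => by
    simp only [c, if_neg hx]
    split_ifs <;> decide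
  refine ⟨c, fun g hg => ?_⟩
  have ha : g • a = a := by
    by_contra h
    refine hne _ h ?_
    rw [hg a]
    exact if_pos rfl
  have he1 : e (Additive.toMul (0 : Additive N)) = a := one_smul G a
  have hY1 : ∀ w : Additive N, c (e (Additive.toMul w)) = 1 ↔ w ∈ Y := by
    intro w
    by_cases hw : e (Additive.toMul w) = a
    · have hw0 : w = 0 := Additive.toMul.injective (e.injective (hw.trans he1.symm))
      simp only [c, if_pos hw]
      exact iff_of_false (by decide) (hw0 ▸ hY0)
    · simp only [c, if_neg hw, Equiv.symm_apply_apply, ofMul_toMul]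
      by_cases hwY : w ∈ Y
      · simp [hwY]
      · simp only [if_neg hwY]
        exact iff_of_false (by decide) hwY
  have hfix := hY ⟨g, ha⟩ fun w => by
    rw [← hY1, ← hY1, hequiv, hg]
  refine FaithfulSMul.eq_of_smul_eq_smul fun x : Ω => ?_
  obtain ⟨y, rfl⟩ := e.surjective x
  rw [one_smul]
  show (⟨g, ha⟩ : H).1 • e (Additive.toMul (Additive.ofMul y)) = _
  rw [← hequiv, hfix, toMul_ofMul]

/-- three colours suffice for solvable groups of order prime to three -/
theorem colour_three (G Ω : Type u) [Group G] [Finite G] [Finite Ω] [MulAction G Ω]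
    (hs : Group.IsSolvable G) (h3 : ¬ 3 ∣ Nat.card G) :
    ∃ c : Ω → ZMod 3, ∀ g : G, (∀ x, c (g • x) = c x) → ∀ x : Ω, g • x = x := by
  classical
  obtain ⟨m, hΩ⟩ : ∃ m, Nat.card Ω = m := ⟨_, rfl⟩
  induction m using Nat.strong_induction_on generalizing G Ω with
  | _ m ih =>
    rcases subsingleton_or_nontrivial Ω with hsub | hnt
    · exact ⟨fun _ => 0, fun g _ x => Subsingleton.elim _ _⟩
    have small : ∀ S : Set Ω, S ≠ Set.univ → Nat.card S < m := fun S hS => by
      rw [← hΩ, Nat.card_coe_set_eq, ← Set.ncard_univ]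
      exact Set.ncard_lt_ncard (Set.ssubset_univ_iff.mpr hS) (Set.toFinite _)
    obtain ⟨a⟩ := (inferInstance : Nonempty Ω)
    by_cases htr : MulAction.orbit G a = Set.univ
    swap
    · let S1 : SubMulAction G Ω :=
        { carrier := MulAction.orbit G a
          smul_mem' := fun g {x} hx => MulAction.mem_orbit_of_mem_orbit g hx }
      let S2 : SubMulAction G Ω :=
        { carrier := (MulAction.orbit G a)ᶜ
          smul_mem' := fun g {x} hx hgx => hx (by
            simpa using MulAction.mem_orbit_of_mem_orbit g⁻¹ hgx) }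
      have h2 : (MulAction.orbit G a)ᶜ ≠ Set.univ := fun h => by
        have : a ∈ (MulAction.orbit G a)ᶜ := by rw [h]; trivial
        exact this (MulAction.mem_orbit_self a)
      obtain ⟨c1, hc1⟩ := ih _ (small _ htr) G S1 hs h3 rfl
      obtain ⟨c2, hc2⟩ := ih _ (small _ h2) G S2 hs h3 rfl
      let c : Ω → ZMod 3 := fun x =>
        if hx : x ∈ MulAction.orbit G a then c1 (⟨x, hx⟩ : S1) else c2 (⟨x, hx⟩ : S2)
      have e1 : ∀ y : S1, c y.1 = c1 y := fun y => dif_pos y.2
      have e2 : ∀ y : S2, c y.1 = c2 y := fun y => dif_neg y.2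
      refine ⟨c, fun g h x => ?_⟩
      by_cases hx : x ∈ MulAction.orbit G a
      · exact congrArg Subtype.val
          (hc1 g (fun y => by rw [← e1, ← e1]; exact h y.1) (⟨x, hx⟩ : S1))
      · exact congrArg Subtype.val
          (hc2 g (fun y => by rw [← e2, ← e2]; exact h y.1) (⟨x, hx⟩ : S2))
    have : MulAction.IsPretransitive G Ω := ⟨fun x y => by
      obtain ⟨g, rfl⟩ := (htr ▸ Set.mem_univ x : x ∈ MulAction.orbit G a)
      obtain ⟨h, rfl⟩ := (htr ▸ Set.mem_univ y : y ∈ MulAction.orbit G a)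
      exact ⟨h * g⁻¹, by simp [mul_smul]⟩⟩
    let H := MulAction.stabilizer G a
    by_cases hmax : ∀ K : Subgroup G, H < K → K = ⊤
    · let φ := MulAction.toPermHom G Ω
      let R := φ.range
      have : MulAction.IsPretransitive R Ω := ⟨fun x y => by
        obtain ⟨g, hg⟩ := MulAction.exists_smul_eq G x y
        exact ⟨φ.rangeRestrict g, hg⟩⟩
      have hsR : Group.IsSolvable R := Group.isSolvable_of_surjective φ.rangeRestrict_surjective
      have hmaxR : ∀ K : Subgroup R, MulAction.stabilizer R a < K → K = ⊤ := by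
        intro K hK
        have h := hmax (K.comap φ.rangeRestrict) (lt_of_le_of_ne (fun g hg => hK.le hg) fun he => by
          refine hK.ne (le_antisymm hK.le fun r hr => ?_)
          obtain ⟨g, rfl⟩ := φ.rangeRestrict_surjective r
          have : g ∈ H := he ▸ hr
          exact this)
        rw [eq_top_iff]
        intro r _
        obtain ⟨g, rfl⟩ := φ.rangeRestrict_surjective r
        exact (show g ∈ K.comap φ.rangeRestrict by rw [h]; trivial)
      obtain ⟨c, hc⟩ := primitive_three hsR (fun h => h3 (h.trans (Subgroup.card_range_dvd φ))) a hmaxR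
      refine ⟨c, fun g hg x => ?_⟩
      have h1 := hc (φ.rangeRestrict g) hg
      exact Equiv.congr_fun (congrArg Subtype.val h1 : φ g = 1) x
    · simp only [not_forall] at hmax
      obtain ⟨K, hHK, hK⟩ := hmax
      have h1 : Nat.card (G ⧸ K) < m := by
        rw [← hΩ, ← MulAction.index_stabilizer_of_transitive G a, ← Subgroup.index_eq_card]
        exact Subgroup.index_strictAnti hHK
      obtain ⟨cT, hcT⟩ := ih _ h1 G (G ⧸ K) hs h3 rfl
      let F : Set Ω := {x | ∃ k ∈ K, k • a = x}
      have hmemK : ∀ g : G, g • a ∈ F → g ∈ K := by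
        rintro g ⟨k, hk, he⟩
        have : k⁻¹ * g ∈ H := by
          show (k⁻¹ * g) • a = a
          rw [mul_smul, ← he, inv_smul_smul]
        simpa using mul_mem hk (hHK.le this)
      have hFne : F ≠ Set.univ := fun h => hK (eq_top_iff.mpr fun g _ =>
        hmemK g (by rw [h]; trivial))
      let FS : SubMulAction K Ω :=
        { carrier := F
          smul_mem' := by
            rintro k x ⟨k', hk', rfl⟩
            exact ⟨k.1 * k', mul_mem k.2 hk', mul_smul _ _ _⟩ }
      have : Nonempty FS := ⟨⟨a, 1, one_mem K, one_smul G a⟩⟩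
      obtain ⟨cF, hcF⟩ := ih _ (small F hFne) K FS inferInstance
        (fun h => h3 (h.trans (Subgroup.card_subgroup_dvd_card K))) rfl
      let r : G ⧸ K → G := Quotient.out
      have hr : ∀ c, (QuotientGroup.mk (r c) : G ⧸ K) = c := fun c => QuotientGroup.out_eq' c
      -- every point lies in exactly one translate of F
      have hcos : ∀ (c : G ⧸ K) (g : G), (r c)⁻¹ • g • a ∈ F ↔ (QuotientGroup.mk g : G ⧸ K) = c := by
        intro c g
        constructor
        · intro h
          have := hmemK ((r c)⁻¹ * g) (by rwa [mul_smul])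
          rw [← hr c]
          exact (QuotientGroup.eq.mpr this).symm
        · intro h
          refine ⟨(r c)⁻¹ * g, ?_, mul_smul _ _ _⟩
          rw [← QuotientGroup.eq]
          exact (hr c).trans h.symm
      have huniq : ∀ (x : Ω) (c c' : G ⧸ K), (r c)⁻¹ • x ∈ F → (r c')⁻¹ • x ∈ F → c = c' := by
        intro x c c' h h'
        obtain ⟨g, rfl⟩ := MulAction.exists_smul_eq G a x
        exact ((hcos c g).mp h).symm.trans ((hcos c' g).mp h')
      have hex : ∀ x : Ω, ∃ c : G ⧸ K, (r c)⁻¹ • x ∈ F := by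
        intro x
        obtain ⟨g', rfl⟩ := MulAction.exists_smul_eq G a x
        exact ⟨QuotientGroup.mk g', (hcos _ g').mpr rfl⟩
      choose blk hblk using hex
      let col : Ω → ZMod 3 := fun x => cF (⟨_, hblk x⟩ : FS) + cT (blk x)
      have hX : ∀ (c : G ⧸ K) (y : FS), col (r c • y.1) = cF y + cT c := by
        intro c y
        have hy : (r c)⁻¹ • r c • y.1 ∈ F := by rw [inv_smul_smul]; exact y.2
        have he := huniq _ _ _ (hblk (r c • y.1)) hy
        simp only [col]
        congr 1
        · congr 1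
          exact Subtype.ext (by
            show (r (blk (r c • y.1)))⁻¹ • r c • y.1 = y.1; rw [he, inv_smul_smul])
        · rw [he]
      refine ⟨col, fun g hg => ?_⟩
      let kk : G ⧸ K → K := fun c => ⟨(r (g • c))⁻¹ * g * r c, by
        rw [mul_assoc, ← QuotientGroup.eq, hr]
        conv_lhs => rw [← hr c]
        rfl⟩
      have hk : ∀ (c : G ⧸ K) (y : FS), cF (kk c • y) = cF y + (cT c - cT (g • c)) := by
        intro c y
        have : r (g • c) • (kk c • y).1 = g • r c • y.1 := by
          show r (g • c) • ((r (g • c))⁻¹ * g * r c) • y.1 = _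
          rw [mul_smul, mul_smul, smul_inv_smul]
        have h2 := hg (r c • y.1)
        rw [← this, hX, hX] at h2
        rw [eq_sub_of_add_eq h2]; abel
      have h30 : ∀ c, cT c - cT (g • c) = 0 := fun c => shift_free
        (fun h => h3 (h.trans (Subgroup.card_subgroup_dvd_card K))) hcF (hk c)
      have hc1 := hcT g fun c => (sub_eq_zero.mp (h30 c)).symm
      intro x
      obtain ⟨c, hxc⟩ : ∃ c : G ⧸ K, (r c)⁻¹ • x ∈ F := ⟨blk x, hblk x⟩
      have hfixy := hcF (kk c) (fun y => by rw [hk, h30, add_zero]) (⟨_, hxc⟩ : FS)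
      have h2 : ((r (g • c))⁻¹ * g * r c) • (r c)⁻¹ • x = (r c)⁻¹ • x := congrArg Subtype.val hfixy
      rw [hc1 c, mul_smul, mul_smul, smul_inv_smul] at h2
      exact MulAction.injective _ h2

end CfsgLib.BaseThree
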