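import Cfsg.Agent.Lib.BaseCoprime.EigenY
/-
Coordinates of prime order on the layer modulo the centraliser of an eigenline stabiliser, and the
action of a stabiliser of the line on the sums of translates.
-/
set_option autoImplicit false
set_option linter.unusedSectionVars false

universe u

open scoped commutatorElement

namespace CfsgLib.BaseThree

variable {K V H : Type u} [Field K] [Finite K] [AddCommGroup V] [Finite V] [Nontrivial V]
  [Module K V] [Group H] [Finite H] [DistribMulAction H V] [FaithfulSMul H V]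

/-- a finite abelian group of squarefree exponent is a product of groups of prime order -/
theorem exists_prime_coords (G : Type*) [AddCommGroup G] [Finite G] {N : ℕ} (hN : Squarefree N)
    (hG : ∀ x : G, N • x = 0) :
    ∃ (d : ℕ) (n : Fin d → ℕ), (∀ i, (n i).Prime ∧ n i ∣ N) ∧
      Nonempty (G ≃+ ((i : Fin d) → ZMod (n i))) := by
  classical
  obtain ⟨ι, hι, p, hp, e, ⟨φ⟩⟩ := AddCommGroup.equiv_directSum_zmod_of_finite G
  let ψ := φ.trans (DirectSum.addEquivProd _)
  have hdvd : ∀ i, p i ^ e i ∣ N := fun i => by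
    have h1 := hG (ψ.symm (Pi.single i 1))
    rw [← map_nsmul, AddEquiv.map_eq_zero_iff, ← Pi.single_smul, Pi.single_eq_zero_iff,
      nsmul_one, ZMod.natCast_eq_zero_iff] at h1
    exact h1
  have he : ∀ i, e i ≤ 1 := fun i => by
    by_contra h
    have h2 : p i * p i ∣ N := (dvd_trans (by rw [← sq]; exact pow_dvd_pow _ (by omega)) (hdvd i))
    exact (hp i).one_lt.ne' (Nat.isUnit_iff.mp (hN _ h2))
  let J := {i : ι // e i = 1}
  have hJ : ∀ j : J, p j.1 ^ e j.1 = p j.1 := fun j => by rw [j.2, pow_one]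
  have hnot : ∀ i, e i ≠ 1 → Subsingleton (ZMod (p i ^ e i)) := fun i h => by
    have h0 : e i = 0 := by have := he i; omega
    rw [h0, pow_zero]; infer_instance
  let f : ((i : ι) → ZMod (p i ^ e i)) →+ ((j : J) → ZMod (p j.1)) :=
    AddMonoidHom.mk' (fun x j => ZMod.ringEquivCongr (hJ j) (x j.1)) fun x y => by
      funext j; simp
  have hf : Function.Bijective f := by
    refine ⟨(injective_iff_map_eq_zero f).mpr fun x hx => funext fun i => ?_, fun y => ?_⟩
    · by_cases hi : e i = 1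
      · exact (ZMod.ringEquivCongr (hJ ⟨i, hi⟩)).injective
          ((congrFun hx ⟨i, hi⟩).trans (map_zero _).symm)
      · exact @Subsingleton.elim _ (hnot i hi) _ _
    · refine ⟨fun i => if h : e i = 1 then (ZMod.ringEquivCongr (hJ ⟨i, h⟩)).symm (y ⟨i, h⟩) else 0,
        funext fun j => ?_⟩
      show ZMod.ringEquivCongr (hJ j) (dite _ _ _) = y j
      rw [dif_pos j.2]
      exact RingEquiv.apply_symm_apply _ _
  let eq := Fintype.equivFin J
  refine ⟨Fintype.card J, fun k => p (eq.symm k).1, fun k => ⟨hp _, ?_⟩,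
    ⟨(ψ.trans (AddEquiv.ofBijective f hf)).trans
      (AddEquiv.mk' (Equiv.piCongrLeft' (fun j : J => ZMod (p j.1)) eq) fun x y => rfl)⟩⟩
  have := hdvd (eq.symm k).1
  rwa [hJ] at this

namespace Setup

variable (S : Setup K V H)

/-- coordinates of prime orders on the layer modulo `Y` with good representatives -/
structure Coords (u : V) where
  /-- number of coordinates -/
  d : ℕ
  /-- their orders -/
  n : Fin d → ℕ
  /-- the coordinate map -/
  f : H → ((i : Fin d) → ZMod (n i))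
  /-- representatives -/
  r : ((i : Fin d) → ZMod (n i)) → H
  prime : ∀ i, (n i).Prime
  dvd : ∀ i, n i ∣ Nat.card K - 1
  mem : ∀ w, r w ∈ S.B
  spec : ∀ w, f (r w) = w
  map_mul : ∀ a ∈ S.B, ∀ b ∈ S.B, f (a * b) = f a + f b
  ker : ∀ b ∈ S.B, (f b = 0 ↔ b ∈ S.Y u)
  rep_zero : r 0 = 1
  rep_pow : ∀ w, ∀ p : ℕ, p.Prime → p • w = 0 → r w ^ p ∈ S.A

theorem nonempty_coords (hC : S.C ≠ S.A) {u : V} (hu : u ≠ 0) : Nonempty (S.Coords u) := by
  classical
  obtain ⟨N, hN, hNK, hNB⟩ := S.exists_squarefree_exponent hC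
  let Q : Subgroup S.B := (S.Y u).subgroupOf S.B
  have hAY : S.A ≤ S.Y u := (S.A_le_X hC u).trans (S.X_le_Y hu)
  have hQ : Q.Normal := ⟨fun x hx g => by
    rw [Subgroup.mem_subgroupOf] at hx ⊢
    have h1 : ⁅(g : H), (x : H)⁆ ∈ S.Y u := hAY (S.B_comm _ g.2 _ x.2)
    have h2 : ((g * x * g⁻¹ : S.B) : H) = ⁅(g : H), (x : H)⁆ * x := by
      simp [commutatorElement_def, mul_assoc]
    rw [h2]; exact mul_mem h1 hx⟩
  let : CommGroup (S.B ⧸ Q) :=
    { (inferInstance : Group (S.B ⧸ Q)) with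
      mul_comm := fun a b => by
        induction a using QuotientGroup.induction_on with | _ a => ?_
        induction b using QuotientGroup.induction_on with | _ b => ?_
        rw [← QuotientGroup.mk_mul, ← QuotientGroup.mk_mul, QuotientGroup.eq, Subgroup.mem_subgroupOf]
        have h1 : ⁅(b : H)⁻¹, (a : H)⁻¹⁆ ∈ S.Y u :=
          hAY (S.B_comm _ (inv_mem b.2) _ (inv_mem a.2))
        simpa [commutatorElement_def, mul_assoc] using h1 }
  obtain ⟨d, n, hn, ⟨e⟩⟩ := exists_prime_coords (Additive (S.B ⧸ Q)) hN (fun x => by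
    obtain ⟨b, hb⟩ := QuotientGroup.mk_surjective (Additive.toMul x)
    apply Additive.toMul.injective
    rw [toMul_nsmul, ← hb, ← QuotientGroup.mk_pow, toMul_zero]
    refine (QuotientGroup.eq_one_iff _).mpr (Subgroup.mem_subgroupOf.mpr ?_)
    simpa using hAY (hNB b b.2))
  let f : H → ((i : Fin d) → ZMod (n i)) := fun h =>
    if hh : h ∈ S.B then e (Additive.ofMul (QuotientGroup.mk (⟨h, hh⟩ : S.B))) else 0
  have hfm : ∀ a ∈ S.B, ∀ b ∈ S.B, f (a * b) = f a + f b := fun a ha b hb => by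
    simp only [f, dif_pos ha, dif_pos hb, dif_pos (mul_mem ha hb), ← map_add, ← ofMul_mul,
      ← QuotientGroup.mk_mul]
    rfl
  have hfk : ∀ b ∈ S.B, (f b = 0 ↔ b ∈ S.Y u) := fun b hb => by
    simp only [f, dif_pos hb, AddEquiv.map_eq_zero_iff, ofMul_eq_zero, QuotientGroup.eq_one_iff]
    exact Subgroup.mem_subgroupOf
  have hfp : ∀ b ∈ S.B, ∀ m : ℕ, f (b ^ m) = m • f b := by
    intro b hb m
    induction m with
    | zero => rw [pow_zero, zero_smul, hfk 1 (one_mem _)]; exact one_mem _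
    | succ m ih => rw [pow_succ, hfm _ (pow_mem hb m) _ hb, ih, succ_nsmul]
  have hsurj : ∀ w, ∃ b ∈ S.B, f b = w := fun w => by
    obtain ⟨b, hb⟩ := QuotientGroup.mk_surjective (Additive.toMul (e.symm w))
    refine ⟨b, b.2, ?_⟩
    simp only [f, dif_pos b.2]
    rw [show (⟨(b : H), b.2⟩ : S.B) = b from rfl, hb]
    simp
  have hgood : ∀ w, ∃ b ∈ S.B, f b = w ∧ (w = 0 → b = 1) ∧
      ∀ p : ℕ, p.Prime → p • w = 0 → b ^ p ∈ S.A := by
    intro w
    obtain ⟨b, hb, hfb⟩ := hsurj w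
    by_cases hw : w = 0
    · exact ⟨1, one_mem _, hw ▸ (hfk 1 (one_mem _)).mpr (one_mem _), fun _ => rfl,
        fun p _ _ => by rw [one_pow]; exact one_mem _⟩
    by_cases hp : ∃ p : ℕ, p.Prime ∧ p • w = 0
    · obtain ⟨p, hp, hpw⟩ := hp
      have huniq : ∀ p' : ℕ, p'.Prime → p' • w = 0 → p' = p := by
        intro p' hp' h'
        by_contra hne
        have hc := (Nat.coprime_primes hp' hp).mpr hne
        obtain ⟨x, hx⟩ : ∃ x, x = addOrderOf w := ⟨_, rfl⟩
        have h1 : addOrderOf w ∣ 1 := hc ▸ Nat.dvd_gcd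
          (addOrderOf_dvd_of_nsmul_eq_zero h') (addOrderOf_dvd_of_nsmul_eq_zero hpw)
        exact hw (AddMonoid.addOrderOf_eq_one_iff.mp (Nat.dvd_one.mp h1))
      obtain ⟨i, hi⟩ : ∃ i, w i ≠ 0 := by
        by_contra h; push Not at h; exact hw (funext h)
      have hpi : p = n i := by
        have : Fact (n i).Prime := ⟨(hn i).1⟩
        have := congrFun hpw i
        rw [Pi.smul_apply, Pi.zero_apply, nsmul_eq_mul, mul_eq_zero] at this
        · exact ((Nat.prime_dvd_prime_iff_eq (hn i).1 hp).mp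
            ((ZMod.natCast_eq_zero_iff _ _).mp (this.resolve_right hi))).symm
      have hpN : p ∣ N := hpi ▸ (hn i).2
      obtain ⟨M, hM⟩ := hpN
      have hpM : Nat.Coprime p M := (hp.coprime_iff_not_dvd).mpr fun hd => by
        obtain ⟨M', rfl⟩ := hd
        exact hp.one_lt.ne' (Nat.isUnit_iff.mp (hN p (Dvd.intro M' (by rw [hM]; ring))))
      obtain ⟨m, hm1, hm2⟩ := Nat.chineseRemainder hpM 1 0
      refine ⟨b ^ m, pow_mem hb m, ?_, fun h => absurd h hw, fun p' hp' h' => ?_⟩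
      · have hmod : ∃ q, m = 1 + p * q ∨ m + p * q = 1 := by
          have h1 : m % p = 1 := by rw [hm1, Nat.one_mod_eq_one.mpr hp.one_lt.ne']
          exact ⟨m / p, Or.inl (by have := Nat.div_add_mod m p; omega)⟩
        obtain ⟨q, hq | hq⟩ := hmod
        · rw [hfp b hb, hfb, hq, add_nsmul, one_nsmul, mul_nsmul, hpw, nsmul_zero,
            add_zero]
        · rw [hfp b hb, hfb]
          have : m • w + (p * q) • w = w := by rw [← add_nsmul, hq, one_nsmul]
          rwa [mul_nsmul, hpw, nsmul_zero, add_zero] at this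
      · rw [huniq p' hp' h', ← pow_mul]
        obtain ⟨q, hq⟩ := Nat.modEq_zero_iff_dvd.mp hm2
        rw [hq, show M * q * p = N * q by rw [hM]; ring, pow_mul]
        exact pow_mem (hNB b hb) q
    · push Not at hp
      exact ⟨b, hb, hfb, fun h => absurd h hw, fun p h1 h2 => absurd h2 (hp p h1)⟩
  choose r hr hrf hr0 hrp using hgood
  exact ⟨⟨d, n, f, r, fun i => (hn i).1, fun i => hNK _ (hn i).1 (hn i).2, hr, hrf, hfm, hfk,
    hr0 0 rfl, hrp⟩⟩

namespace Coords

variable {S} {u : V} (co : S.Coords u)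

theorem map_one : co.f 1 = 0 := (co.ker 1 (one_mem _)).mpr (one_mem _)

theorem map_inv {b : H} (hb : b ∈ S.B) : co.f b⁻¹ = - co.f b := by
  refine eq_neg_of_add_eq_zero_left ?_
  rw [← co.map_mul _ (inv_mem hb) b hb, inv_mul_cancel, co.map_one]

theorem coset {b b' : H} (hb : b ∈ S.B) (hb' : b' ∈ S.B) (h : co.f b = co.f b') :
    b⁻¹ * b' ∈ S.Y u :=
  (co.ker _ (mul_mem (inv_mem hb) hb')).mp
    (by rw [co.map_mul _ (inv_mem hb) _ hb', co.map_inv hb, h, neg_add_cancel])

theorem translate_ne (hu : u ≠ 0) (w) : co.r w • u ≠ 0 := (smul_ne_zero_iff_ne _).mpr hu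

/-- sums of vectors from different eigenspaces -/
theorem indep [DecidableEq ((i : Fin co.d) → ZMod (co.n i))] (hu : u ≠ 0)
    (s : Finset ((i : Fin co.d) → ZMod (co.n i))) : ∀ F : ((i : Fin co.d) → ZMod (co.n i)) → V,
      (∀ w ∈ s, S.InEig u (co.r w) (F w)) → ∑ w ∈ s, F w = 0 → ∀ w ∈ s, F w = 0 := by
  induction s using Finset.induction with
  | empty => intro F _ _ w hw; simp at hw
  | insert a s has ih =>
    intro F hF hsum
    rw [Finset.sum_insert has] at hsum
    have hs : ∀ w ∈ s, F w = 0 := by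
      intro w hw
      obtain ⟨x, hx, hne⟩ : ∃ x ∈ S.X u, ⁅x, co.r w⁆ ≠ ⁅x, co.r a⁆ := by
        by_contra h
        push Not at h
        refine has ?_
        have hm : (co.r a)⁻¹ * co.r w ∈ S.Y u := by
          refine Subgroup.mem_inf.mpr ⟨mul_mem (inv_mem (co.mem a)) (co.mem w),
            Subgroup.mem_centralizer_iff.mpr fun x hx => ?_⟩
          refine commutatorElement_eq_one_iff_mul_comm.mp ?_
          have := S.comm_mul_right (x := x) (y := co.r a) (y' := (co.r a)⁻¹ * co.r w)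
            (S.B_le_C (co.mem a)) (S.B_comm _ hx.1 _ (mul_mem (inv_mem (co.mem a)) (co.mem w)))
          rw [mul_inv_cancel_left, h x hx] at this
          exact mul_left_cancel ((mul_one _).trans this).symm
        have := (co.ker _ (mul_mem (inv_mem (co.mem a)) (co.mem w))).mpr hm
        rw [co.map_mul _ (inv_mem (co.mem a)) _ (co.mem w), co.map_inv (co.mem a), co.spec, co.spec,
          neg_add_eq_zero] at this
        exact this ▸ hw
      obtain ⟨c, hc⟩ := hx.2
      have hμ : ∀ w', S.χ' ⁅x, co.r w'⁆ * c - S.χ' ⁅x, co.r a⁆ * c = 0 →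
          ⁅x, co.r w'⁆ = ⁅x, co.r a⁆ := by
        intro w' h
        have hc0 : c ≠ 0 := fun hc0 => hu ((smul_eq_zero_iff_eq _).mp (by rw [hc, hc0, zero_smul]))
        rw [← sub_mul, mul_eq_zero, sub_eq_zero] at h
        have hA := S.B_comm _ hx.1 _ (co.mem w')
        have hA' := S.B_comm _ hx.1 _ (co.mem a)
        refine inv_mul_eq_one.mp (S.χ'_eq_one (mul_mem (inv_mem hA') hA) ?_) |>.symm
        have h1 := S.χ'_mul hA' (mul_mem (inv_mem hA') hA)
        rw [mul_inv_cancel_left, h.resolve_right hc0] at h1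
        exact mul_left_cancel₀ (S.χ'_ne hA') (h1.symm.trans (mul_one _).symm)
      have hzero : ∑ w' ∈ s, (S.χ' ⁅x, co.r w'⁆ * c - S.χ' ⁅x, co.r a⁆ * c) • F w' = 0 := by
        have h1 := congrArg (fun v => x • v) hsum
        simp only [smul_add, smul_zero, Finset.smul_sum] at h1
        rw [hF a (Finset.mem_insert_self _ _) x hx c hc, Finset.sum_congr rfl fun w' hw' =>
          hF w' (Finset.mem_insert_of_mem hw') x hx c hc] at h1
        simp only [sub_smul, Finset.sum_sub_distrib, ← Finset.smul_sum]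
        rw [eq_neg_of_add_eq_zero_right hsum] at *
        rw [eq_neg_of_add_eq_zero_right h1, smul_neg, sub_self]
      have hIn : ∀ w' ∈ s,
          S.InEig u (co.r w') ((S.χ' ⁅x, co.r w'⁆ * c - S.χ' ⁅x, co.r a⁆ * c) • F w') :=
        fun w' hw' x' hx' c' hc' => by
          rw [S.C_linear (S.B_le_C hx'.1), hF w' (Finset.mem_insert_of_mem hw') x' hx' c' hc',
            smul_comm]
      exact (smul_eq_zero.mp (ih _ hIn hzero w hw)).resolve_left fun h => hne (hμ w h)
    intro w hw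
    rcases Finset.mem_insert.mp hw with rfl | hw
    · rwa [Finset.sum_eq_zero hs, add_zero] at hsum
    · exact hs w hw

/-- the map induced on coordinates by an element fixing the line -/
def M (g : H) (w : (i : Fin co.d) → ZMod (co.n i)) : (i : Fin co.d) → ZMod (co.n i) :=
  co.f (g * co.r w * g⁻¹)

theorem M_f {g : H} (hg : g • u = u) {b : H} (hb : b ∈ S.B) :
    co.M g (co.f b) = co.f (g * b * g⁻¹) := by
  have hy := co.coset hb (co.mem (co.f b)) (co.spec (co.f b)).symm
  show co.f (g * co.r (co.f b) * g⁻¹) = _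
  rw [show g * co.r (co.f b) * g⁻¹ = (g * b * g⁻¹) * (g * (b⁻¹ * co.r (co.f b)) * g⁻¹) by group,
    co.map_mul _ (S.B_normal.conj_mem b hb g) _ (S.conj_mem_Y hg hy).1,
    (co.ker _ (S.conj_mem_Y hg hy).1).mpr (S.conj_mem_Y hg hy), add_zero]

theorem M_add {g : H} (hg : g • u = u) (w w') : co.M g (w + w') = co.M g w + co.M g w' := by
  conv_lhs => rw [← co.spec w, ← co.spec w', ← co.map_mul _ (co.mem w) _ (co.mem w'),
    co.M_f hg (mul_mem (co.mem w) (co.mem w'))]
  show _ = co.f (g * co.r w * g⁻¹) + co.f (g * co.r w' * g⁻¹)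
  rw [← co.map_mul _ (S.B_normal.conj_mem _ (co.mem w) g) _ (S.B_normal.conj_mem _ (co.mem w') g)]
  congr 1
  group

theorem M_mul {g h : H} (hg : g • u = u) (w) : co.M (g * h) w = co.M g (co.M h w) := by
  show co.f (g * h * co.r w * (g * h)⁻¹) = co.M g (co.f (h * co.r w * h⁻¹))
  rw [co.M_f hg (S.B_normal.conj_mem _ (co.mem w) h)]
  congr 1
  group

theorem M_one (w) : co.M 1 w = w := by simp [Coords.M, co.spec]

theorem M_injective {g : H} (hg : g • u = u) : Function.Injective (co.M g) := by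
  have hg' : g⁻¹ • u = u := inv_smul_eq_iff.mpr hg.symm
  refine Function.LeftInverse.injective (g := co.M g⁻¹) fun w => ?_
  rw [← co.M_mul hg', inv_mul_cancel, co.M_one]

theorem inEig_map {g : H} (hg : g • u = u) {w} {v : V} (hv : S.InEig u (co.r w) v) :
    S.InEig u (co.r (co.M g w)) (g • v) := by
  intro x hx c hc
  have hg' : g⁻¹ • u = u := inv_smul_eq_iff.mpr hg.symm
  have hx' := S.conj_mem_X hg' hx
  rw [inv_inv] at hx'
  have hc' := S.σ_fix_conj hg' hc
  rw [inv_inv] at hc'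
  have hA := S.B_comm _ hx'.1 _ (co.mem w)
  rw [show x • g • v = g • (g⁻¹ * x * g) • v by
    rw [← mul_smul, ← mul_smul]; congr 1; group, hv _ hx' _ hc', S.smul_comm', S.σ_mul,
    S.σ_χ' g hA, ← S.σ_comp, mul_inv_cancel, S.σ_one]
  congr 3
  have hconj := S.B_normal.conj_mem _ (co.mem w) g
  have hy := co.coset (co.mem (co.M g w)) hconj (co.spec (co.M g w))
  rw [show g * ⁅g⁻¹ * x * g, co.r w⁆ * g⁻¹ =
      ⁅x, co.r (co.M g w) * ((co.r (co.M g w))⁻¹ * (g * co.r w * g⁻¹))⁆ by
    simp only [commutatorElement_def]; group,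
    S.comm_mul_right (S.B_le_C (co.mem (co.M g w))) (S.B_comm _ hx.1 _ hy.1),
    commutatorElement_eq_one_iff_mul_comm.mpr (Subgroup.mem_centralizer_iff.mp hy.2 x hx), mul_one]

/-- the components of the second vector -/
noncomputable def comp (c₀ : V) (a : ((i : Fin co.d) → ZMod (co.n i)) → K)
    (w : (i : Fin co.d) → ZMod (co.n i)) : V :=
  open Classical in if w = 0 then c₀ else a w • co.r w • u

open Classical in
/-- a fixed sum has matching components -/
theorem comp_map [Fintype ((i : Fin co.d) → ZMod (co.n i))] (hu : u ≠ 0) {c₀ : V}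
    (hc₀ : c₀ ∈ S.E u) (a : ((i : Fin co.d) → ZMod (co.n i)) → K) {g : H} (hg : g • u = u)
    (hfix : g • (∑ w, co.comp c₀ a w) = ∑ w, co.comp c₀ a w) :
    g • c₀ = c₀ ∧ ∀ w, w ≠ 0 →
      co.M g w ≠ 0 ∧ S.σ g (a w) • g • co.r w • u = a (co.M g w) • co.r (co.M g w) • u := by
  have hE : ∀ w, S.InEig u (co.r w) (co.comp c₀ a w) := by
    intro w
    simp only [comp]
    split_ifs with h0
    · exact h0 ▸ S.inEig_of_mem_E (by rw [co.rep_zero]; exact one_mem _) hc₀
    · intro x hx c hc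
      rw [S.C_linear (S.B_le_C hx.1),
        S.inEig_translate (co.mem w) (co.mem w) (by rw [inv_mul_cancel]; exact one_mem _) x hx c hc,
        smul_comm]
  let Me := Equiv.ofBijective (co.M g) ⟨co.M_injective hg,
    Finite.surjective_of_injective (co.M_injective hg)⟩
  have key : ∀ w, g • co.comp c₀ a w = co.comp c₀ a (co.M g w) := by
    intro w
    have hsum : ∑ w', (g • co.comp c₀ a (Me.symm w') - co.comp c₀ a w') = 0 := by
      rw [Finset.sum_sub_distrib, Equiv.sum_comp Me.symm (fun w' => g • co.comp c₀ a w'),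
        ← Finset.smul_sum, hfix, sub_self]
    have hIn : ∀ w', S.InEig u (co.r w') (g • co.comp c₀ a (Me.symm w') - co.comp c₀ a w') :=
      fun w' x hx c hc => by
        have h1 := co.inEig_map hg (hE (Me.symm w')) x hx c hc
        rw [show co.M g (Me.symm w') = w' from Me.apply_symm_apply w'] at h1
        rw [smul_sub, h1, hE w' x hx c hc, ← smul_sub]
    have := co.indep hu Finset.univ _ (fun w' _ => hIn w') hsum (co.M g w) (Finset.mem_univ _)
    rw [show Me.symm (co.M g w) = w from Me.symm_apply_apply w] at this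
    exact sub_eq_zero.mp this
  have hM0 : co.M g 0 = 0 := by
    have h := co.M_add hg 0 0
    rw [add_zero] at h
    simpa using h
  refine ⟨by simpa [comp, hM0] using key 0, fun w hw => ?_⟩
  have hMw : co.M g w ≠ 0 := fun h => hw (co.M_injective hg (h.trans hM0.symm))
  refine ⟨hMw, ?_⟩
  have := key w
  simp only [comp, if_neg hw, if_neg hMw] at this
  rwa [S.smul_comm'] at this

/-- fixed translates spread over a coset -/
theorem fix_coset {g : H} (hg : g • u = u) (hY : ∀ y ∈ S.Y u, g • y • u = y • u) {b : H}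
    (hb : b ∈ S.B) (h : g • co.r (co.f b) • u = co.r (co.f b) • u) : g • b • u = b • u := by
  have hy := co.coset (co.mem (co.f b)) hb (co.spec (co.f b))
  have := S.fix_mul_Y hg (co.mem (co.f b)) hy h (hY _ hy)
  rwa [mul_inv_cancel_left] at this

/-- an element fixing the translates at a spanning set with enough commutation is trivial -/
theorem finish (hC : S.C ≠ S.A) (hu : u ≠ 0) {g : H} (hgC : g ∈ S.C) (hg : g • u = u)
    (hY : ∀ y ∈ S.Y u, g • y • u = y • u) (T : Set ((i : Fin co.d) → ZMod (co.n i)))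
    (hT : AddSubgroup.closure T = ⊤) (hfixT : ∀ x ∈ T, g • co.r x • u = co.r x • u)
    (hcomm : ∀ x ∈ T, AddSubgroup.closure
      {y | ∃ b ∈ S.B, co.f b = y ∧ Commute ((co.r x)⁻¹ * (g * co.r x * g⁻¹)) b} = ⊤) :
    g = 1 := by
  have hgen : ∀ x : H, ∀ P : Set ((i : Fin co.d) → ZMod (co.n i)), AddSubgroup.closure P = ⊤ →
      (∀ w ∈ P, ∃ b ∈ S.B, co.f b = w ∧ Commute x b) → (∀ y ∈ S.Y u, Commute x y) →
      ∀ a ∈ S.B, Commute x a := by
    intro x P hP hxP hxy a ha
    let Q : AddSubgroup ((i : Fin co.d) → ZMod (co.n i)) :=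
      { carrier := {w | ∃ a ∈ S.B, co.f a = w ∧ Commute x a}
        zero_mem' := ⟨1, one_mem _, co.map_one, Commute.one_right x⟩
        add_mem' := fun {w w'} ⟨a, ha, hw, hc⟩ ⟨a', ha', hw', hc'⟩ =>
          ⟨a * a', mul_mem ha ha', by rw [co.map_mul a ha a' ha', hw, hw'], hc.mul_right hc'⟩
        neg_mem' := fun {w} ⟨a, ha, hw, hc⟩ =>
          ⟨a⁻¹, inv_mem ha, by rw [co.map_inv ha, hw], hc.inv_right⟩ }
    have hle : (⊤ : AddSubgroup _) ≤ Q := hP ▸ (AddSubgroup.closure_le Q).mpr hxP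
    obtain ⟨a', ha', hfa', hc'⟩ : co.f a ∈ Q := hle (AddSubgroup.mem_top _)
    have hy := co.coset ha' ha hfa'
    simpa using hc'.mul_right (hxy _ hy)
  let z : H → H := fun a => a⁻¹ * (g * a * g⁻¹)
  have hcg : ∀ a : H, z a = 1 → Commute g a := fun a h => by
    have h' : g * a * g⁻¹ = a := (inv_mul_eq_one.mp h).symm
    exact (mul_inv_eq_iff_eq_mul.mp h' : g * a = a * g)
  have hvanish : ∀ a ∈ S.B, g • a • u = a • u → (∀ b ∈ S.B, Commute (z a) b) → z a = 1 := by
    intro a ha hfix hc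
    obtain ⟨hzX, hzu⟩ := S.shift hg ha hfix
    exact S.A_fix_trivial (S.centralizer_B hC (S.B_le_C hzX.1)
      (Subgroup.mem_centralizer_iff.mpr fun b hb => (hc b hb).eq.symm)) hu hzu
  have hzT : ∀ x ∈ T, z (co.r x) = 1 := fun x hx => hvanish _ (co.mem x) (hfixT x hx)
    (hgen _ _ (hcomm x hx) (fun w hw => hw)
      (fun y hy => Subgroup.mem_centralizer_iff.mp hy.2 _ (S.shift hg (co.mem x) (hfixT x hx)).1))
  have hzY : ∀ y ∈ S.Y u, z y = 1 := fun y hy => hvanish y hy.1 (hY y hy) (hgen _ T hT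
    (fun w hw => ⟨co.r w, co.mem w, co.spec w, S.shift_comm hu hg hy.1 (co.mem w) (hY y hy)
      (hfixT w hw) (co.fix_coset hg hY (mul_mem hy.1 (co.mem w)) (by
        rw [co.map_mul _ hy.1 _ (co.mem w), (co.ker y hy.1).mpr hy, zero_add, co.spec]
        exact hfixT w hw))⟩)
    (fun y' hy' => Subgroup.mem_centralizer_iff.mp hy'.2 _ (S.shift hg hy.1 (hY y hy)).1))
  have hgB : ∀ a ∈ S.B, Commute g a := hgen g T hT
    (fun w hw => ⟨co.r w, co.mem w, co.spec w, hcg _ (hzT w hw)⟩)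
    (fun y hy => hcg _ (hzY y hy))
  exact S.A_fix_trivial (S.centralizer_B hC hgC
    (Subgroup.mem_centralizer_iff.mpr fun a ha => (hgB a ha).eq.symm)) hu hg

/-- commutation from three fixed translates -/
theorem commute_of_fixed (hu : u ≠ 0) {g : H} (hg : g • u = u)
    (hY : ∀ y ∈ S.Y u, g • y • u = y • u) {x y : (i : Fin co.d) → ZMod (co.n i)}
    (hx : g • co.r x • u = co.r x • u) (hy : g • co.r y • u = co.r y • u)
    (hxy : g • co.r (x + y) • u = co.r (x + y) • u) :
    ∃ b ∈ S.B, co.f b = y ∧ Commute ((co.r x)⁻¹ * (g * co.r x * g⁻¹)) b :=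
  ⟨co.r y, co.mem y, co.spec y, S.shift_comm hu hg (co.mem x) (co.mem y) hx hy
    (co.fix_coset hg hY (mul_mem (co.mem x) (co.mem y))
      (by rw [co.map_mul _ (co.mem x) _ (co.mem y), co.spec, co.spec]; exact hxy))⟩

/-- commutation for coordinates of coprime orders -/
theorem commute_of_coprime (hu : u ≠ 0) {g : H} (hgC : g ∈ S.C) (hg : g • u = u)
    {x y : (i : Fin co.d) → ZMod (co.n i)} {p q : ℕ} (hpq : p.Coprime q) (hp : p.Prime)
    (hq : q.Prime) (hpx : p • x = 0) (hqy : q • y = 0)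
    (hx : g • co.r x • u = co.r x • u) (hy : g • co.r y • u = co.r y • u) :
    ∃ b ∈ S.B, co.f b = y ∧ Commute ((co.r x)⁻¹ * (g * co.r x * g⁻¹)) b := by
  refine ⟨co.r y, co.mem y, co.spec y, ?_⟩
  set a := co.r x
  set b := co.r y
  obtain ⟨hz, -⟩ := S.shift hg (co.mem x) hx
  obtain ⟨hz', -⟩ := S.shift hg (co.mem y) hy
  set z := a⁻¹ * (g * a * g⁻¹) with hzdef
  set z' := b⁻¹ * (g * b * g⁻¹) with hz'def
  have hA1 : ⁅a, z'⁆ ∈ S.A := S.B_comm _ (co.mem x) _ hz'.1
  have hA2 : ⁅z, b⁆ ∈ S.A := S.B_comm _ hz.1 _ (co.mem y)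
  have hsym : ⁅z, b⁆ * ⁅a, z'⁆ = 1 := by
    have hab := S.B_comm _ (co.mem x) _ (co.mem y)
    have h1 : ⁅a * z, b * z'⁆ = ⁅a, b⁆ := by
      rw [show a * z = g * a * g⁻¹ by rw [hzdef]; group,
        show b * z' = g * b * g⁻¹ by rw [hz'def]; group,
        show ⁅g * a * g⁻¹, g * b * g⁻¹⁆ = g * ⁅a, b⁆ * g⁻¹ by
          simp only [commutatorElement_def]; group,
        show g * ⁅a, b⁆ = ⁅a, b⁆ * g from (S.A_central hab hgC).symm, mul_inv_cancel_right]
    have hzz : ⁅z, z'⁆ = 1 := commutatorElement_eq_one_iff_mul_comm.mpr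
      (S.X_comm hu z hz z' hz')
    rw [S.comm_mul_left (S.B_le_C (co.mem x)) (S.B_comm _ hz.1 _ (mul_mem (co.mem y) hz'.1)),
      S.comm_mul_right (S.B_le_C (co.mem y)) (S.B_comm _ hz.1 _ hz'.1),
      S.comm_mul_right (S.B_le_C (co.mem y)) hA1, hzz, mul_one,
      ← mul_assoc, S.comm _ hA2 _ hab, mul_assoc] at h1
    exact mul_left_cancel (a := ⁅a, b⁆) (h1.trans (mul_one _).symm)
  have hq1 : ⁅z, b⁆ ^ q = 1 := by
    rw [← S.comm_pow hz.1 (co.mem y)]
    exact commutatorElement_eq_one_iff_mul_comm.mpr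
      (S.A_central (co.rep_pow y q hq hqy) (S.B_le_C hz.1)).symm
  have hp1 : ⁅z, b⁆ ^ p = 1 := by
    rw [eq_inv_of_mul_eq_one_left hsym, commutatorElement_inv, ← S.comm_pow hz'.1 (co.mem x)]
    exact commutatorElement_eq_one_iff_mul_comm.mpr
      (S.A_central (co.rep_pow x p hp hpx) (S.B_le_C hz'.1)).symm
  refine commutatorElement_eq_one_iff_mul_comm.mp (orderOf_eq_one_iff.mp (Nat.dvd_one.mp ?_))
  rw [← hpq.gcd_eq_one]
  exact Nat.dvd_gcd (orderOf_dvd_of_pow_eq_one hp1) (orderOf_dvd_of_pow_eq_one hq1)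

end Coords

end Setup

end CfsgLib.BaseThree
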