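import Cfsg.Agent.Lib.BaseCoprime.CheckOps
import Mathlib
/-
Vectors packed four bits to a coordinate: digits of the packed operations.
-/
set_option autoImplicit false

namespace CfsgLib.BaseThree.Check

/-- a hexadecimal digit -/
def dig : ℕ → ℕ → ℕ
  | 0, v => v % 16
  | j + 1, v => dig j (v / 16)

theorem dig_lt : ∀ (j v : ℕ), dig j v < 16
  | 0, v => Nat.mod_lt _ (by norm_num)
  | j + 1, v => dig_lt j (v / 16)

theorem dig_zero_right : ∀ j : ℕ, dig j 0 = 0
  | 0 => rfl
  | j + 1 => by simp only [dig, Nat.zero_div]; exact dig_zero_right j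

theorem dig_ext {v w : ℕ} (h : ∀ j, dig j v = dig j w) : v = w := by
  induction v using Nat.strong_induction_on generalizing w with
  | _ v ih =>
    rcases Nat.eq_zero_or_pos v with rfl | hv
    · induction w using Nat.strong_induction_on with
      | _ w ih' =>
        rcases Nat.eq_zero_or_pos w with rfl | hw
        · rfl
        have h0 := h 0
        simp only [dig] at h0
        have := ih' (w / 16) (Nat.div_lt_self hw (by norm_num)) fun j => by
          simpa [dig, dig_zero_right] using h (j + 1)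
        omega
    · have h0 := h 0
      simp only [dig] at h0
      have := ih (v / 16) (Nat.div_lt_self hv (by norm_num)) (w := w / 16) fun j => h (j + 1)
      omega

theorem dig_add : ∀ (j v w : ℕ), (∀ i, dig i v + dig i w < 16) → dig j (v + w) = dig j v + dig j w
  | 0, v, w, h => by
    have := h 0
    simp only [dig] at this ⊢
    omega
  | j + 1, v, w, h => by
    have := h 0
    simp only [dig] at this ⊢
    rw [show (v + w) / 16 = v / 16 + w / 16 by omega]
    exact dig_add j _ _ fun i => h (i + 1)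

theorem le_of_dig {v w : ℕ} (h : ∀ i, dig i w ≤ dig i v) : w ≤ v := by
  induction w using Nat.strong_induction_on generalizing v with
  | _ w ih =>
    rcases Nat.eq_zero_or_pos w with rfl | hw
    · exact Nat.zero_le _
    have h0 := h 0
    simp only [dig] at h0
    have := ih (w / 16) (Nat.div_lt_self hw (by norm_num)) (v := v / 16) fun i => h (i + 1)
    omega

theorem dig_sub : ∀ (j v w : ℕ), (∀ i, dig i w ≤ dig i v) → dig j (v - w) = dig j v - dig j w
  | 0, v, w, h => by
    have h1 := le_of_dig h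
    have := h 0
    simp only [dig] at this ⊢
    omega
  | j + 1, v, w, h => by
    have h1 := le_of_dig h
    have := h 0
    simp only [dig] at this ⊢
    rw [show (v - w) / 16 = v / 16 - w / 16 by omega]
    exact dig_sub j _ _ fun i => h (i + 1)

theorem dig_const_mul : ∀ (j c v : ℕ), (∀ i, c * dig i v < 16) → dig j (c * v) = c * dig j v
  | 0, c, v, h => by
    have := h 0
    simp only [dig] at this ⊢
    rw [Nat.mul_mod]
    rcases Nat.lt_or_ge c 16 with hc | hc
    · rw [Nat.mod_eq_of_lt hc, Nat.mod_eq_of_lt this]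
    · have : v % 16 = 0 := by
        by_contra hne
        have : 16 * 1 ≤ c * (v % 16) := Nat.mul_le_mul hc (Nat.pos_of_ne_zero hne)
        omega
      simp [this]
  | j + 1, c, v, h => by
    have := h 0
    simp only [dig] at this ⊢
    rw [show c * v / 16 = c * (v / 16) by
      conv_lhs => rw [← Nat.div_add_mod v 16, Nat.mul_add, Nat.mul_left_comm,
        Nat.mul_add_div (by norm_num : 16 > 0), Nat.div_eq_of_lt this, Nat.add_zero]]
    exact dig_const_mul j c _ fun i => h (i + 1)

theorem dig_and : ∀ (j v w : ℕ), dig j (v &&& w) = dig j v &&& dig j w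
  | 0, v, w => by
    simp only [dig]
    exact Nat.and_mod_two_pow (n := 4)
  | j + 1, v, w => by
    simp only [dig]
    rw [show (v &&& w) / 16 = v / 16 &&& w / 16 from Nat.and_div_two_pow (n := 4)]
    exact dig_and j _ _

theorem dig_div_pow : ∀ (s j v : ℕ), dig j (v / 16 ^ s) = dig (j + s) v
  | 0, j, v => by simp
  | s + 1, j, v => by
    rw [pow_succ', ← Nat.div_div_eq_div_mul, dig_div_pow s j]
    rfl

theorem dig_mul_pow : ∀ (s j v : ℕ), dig j (v * 16 ^ s) = if j < s then 0 else dig (j - s) v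
  | 0, j, v => by simp
  | s + 1, 0, v => by
    simp only [dig, pow_succ, ← mul_assoc, Nat.mul_mod_left]
    simp
  | s + 1, j + 1, v => by
    simp only [dig, pow_succ, ← mul_assoc, Nat.mul_div_cancel _ (show 0 < 16 by norm_num),
      dig_mul_pow s j, Nat.succ_sub_succ_eq_sub, Nat.succ_lt_succ_iff]

theorem dig_div_eight : ∀ (j v : ℕ), (∀ i, dig i v % 8 = 0) → dig j (v / 8) = dig j v / 8
  | 0, v, h => by
    have h0 := h 0
    have h1 := h 1
    simp only [dig] at h0 h1 ⊢
    omega
  | j + 1, v, h => by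
    simp only [dig]
    rw [show v / 8 / 16 = v / 16 / 8 by omega]
    exact dig_div_eight j _ fun i => h (i + 1)

/-- all digits within range -/
def Model.Valid (M : Model) (v : ℕ) : Prop :=
  (∀ j, j < M.e → dig j v < M.q) ∧ ∀ j, M.e ≤ j → dig j v = 0

/-- the packed constants of the model are as expected -/
def Model.constOK (M : Model) : Bool :=
  (M.q == 3 || M.q == 5) && decide (M.ones < 16 ^ M.e) && decide (M.evens < 16 ^ M.e) &&
    (List.range M.e).all fun j => dig j M.ones == 1 && dig j M.evens == if j % 2 == 0 then 15 else 0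

theorem dig_eq_zero_of_lt : ∀ {j e v : ℕ}, v < 16 ^ e → e ≤ j → dig j v = 0
  | j, 0, v, h, _ => by
    rw [show v = 0 by simpa using h, dig_zero_right]
  | 0, e + 1, v, h, h' => absurd h' (by omega)
  | j + 1, e + 1, v, h, h' => by
    simp only [dig]
    exact dig_eq_zero_of_lt (e := e) (by rw [pow_succ] at h; omega) (by omega)

variable {M : Model}

theorem constOK_spec (h : M.constOK = true) : (M.q = 3 ∨ M.q = 5) ∧
    (∀ j, dig j M.ones = if j < M.e then 1 else 0) ∧
    ∀ j, dig j M.evens = if j < M.e ∧ j % 2 = 0 then 15 else 0 := by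
  simp only [Model.constOK, Bool.and_eq_true, Bool.or_eq_true, beq_iff_eq, decide_eq_true_eq,
    List.all_eq_true, List.mem_range] at h
  obtain ⟨⟨⟨hq, ho⟩, he⟩, hd⟩ := h
  refine ⟨hq, fun j => ?_, fun j => ?_⟩
  · split_ifs with hj
    · exact (hd j hj).1
    · exact dig_eq_zero_of_lt ho (Nat.le_of_not_lt hj)
  · by_cases hj : j < M.e
    · rw [(hd j hj).2]
      simp [hj]
    · simp [hj, dig_eq_zero_of_lt he (Nat.le_of_not_lt hj)]

theorem dig_red (h : M.constOK = true) {v : ℕ} (hv : ∀ i, dig i v < 2 * M.q)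
    (hv0 : ∀ i, M.e ≤ i → dig i v = 0) (j : ℕ) : dig j (M.red v) = dig j v % M.q := by
  obtain ⟨hq, ho, -⟩ := constOK_spec h
  have h0 : ∀ i, dig i ((8 - M.q) * M.ones) = if i < M.e then 8 - M.q else 0 := fun i => by
    rw [dig_const_mul i _ _ fun k => by rw [ho]; split_ifs <;> omega, ho]
    split_ifs <;> simp
  have h1 : ∀ i, dig i (8 * M.ones) = if i < M.e then 8 else 0 := fun i => by
    rw [dig_const_mul i _ _ fun k => by rw [ho]; split_ifs <;> omega, ho]
    split_ifs <;> simp
  have h2 : ∀ i, dig i ((v + (8 - M.q) * M.ones) &&& (8 * M.ones)) =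
      if M.q ≤ dig i v then 8 else 0 := fun i => by
    rw [dig_and, h1, dig_add i _ _ fun k => by rw [h0]; have := hv k; split_ifs <;> omega, h0]
    by_cases hi : i < M.e
    · rw [if_pos hi, if_pos hi]
      have hk := hv i
      generalize dig i v = k at hk ⊢
      rcases hq with e | e <;> rw [e] at hk ⊢ <;> interval_cases k <;> rfl
    · have := hv0 i (Nat.le_of_not_lt hi)
      rw [if_neg hi, if_neg hi, Nat.and_zero, if_neg (by omega)]
  have h3 : ∀ i, dig i (((v + (8 - M.q) * M.ones) &&& (8 * M.ones)) / 8) =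
      if M.q ≤ dig i v then 1 else 0 := fun i => by
    rw [dig_div_eight i _ fun k => by rw [h2]; split_ifs <;> rfl, h2]
    split_ifs <;> rfl
  have h4 : ∀ i, dig i (M.q * (((v + (8 - M.q) * M.ones) &&& (8 * M.ones)) / 8)) =
      if M.q ≤ dig i v then M.q else 0 := fun i => by
    rw [dig_const_mul i _ _ fun k => by rw [h3]; split_ifs <;> omega, h3]
    split_ifs <;> simp
  unfold Model.red
  rw [dig_sub j _ _ fun k => by rw [h4]; split_ifs <;> omega, h4]
  have hj := hv j
  split_ifs with hle
  · rw [Nat.mod_eq_sub_mod hle, Nat.mod_eq_of_lt (by omega)]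
  · rw [Nat.sub_zero, Nat.mod_eq_of_lt (by omega)]

theorem Valid.lt (h : M.constOK = true) {v : ℕ} (hv : M.Valid v) (i : ℕ) : dig i v < M.q := by
  obtain ⟨hq, -, -⟩ := constOK_spec h
  by_cases hi : i < M.e
  · exact hv.1 i hi
  · rw [hv.2 i (Nat.le_of_not_lt hi)]; omega

theorem valid_red (h : M.constOK = true) {v : ℕ} (hv : ∀ i, dig i v < 2 * M.q)
    (hv0 : ∀ i, M.e ≤ i → dig i v = 0) : M.Valid (M.red v) := by
  obtain ⟨hq, -, -⟩ := constOK_spec h
  refine ⟨fun j _ => ?_, fun j hj => ?_⟩
  · rw [dig_red h hv hv0]; exact Nat.mod_lt _ (by omega)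
  · rw [dig_red h hv hv0, hv0 j hj, Nat.zero_mod]

theorem valid_zero (h : M.constOK = true) : M.Valid 0 := by
  obtain ⟨hq, -, -⟩ := constOK_spec h
  exact ⟨fun j _ => by rw [dig_zero_right]; omega, fun j _ => dig_zero_right j⟩

theorem dig_vadd (h : M.constOK = true) {v w : ℕ} (hv : M.Valid v) (hw : M.Valid w) (j : ℕ) :
    dig j (M.add v w) = (dig j v + dig j w) % M.q := by
  have hq := (constOK_spec h).1
  have hs : ∀ i, dig i (v + w) = dig i v + dig i w := fun i => dig_add i v w fun k => by
    have := Valid.lt h hv k; have := Valid.lt h hw k; omega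
  rw [Model.add, dig_red h (fun i => by have := Valid.lt h hv i; have := Valid.lt h hw i; rw [hs]; omega)
    (fun i hi => by rw [hs, hv.2 i hi, hw.2 i hi]), hs]

theorem valid_add (h : M.constOK = true) {v w : ℕ} (hv : M.Valid v) (hw : M.Valid w) :
    M.Valid (M.add v w) := by
  obtain ⟨hq, -, -⟩ := constOK_spec h
  exact ⟨fun j _ => by rw [dig_vadd h hv hw]; exact Nat.mod_lt _ (by omega),
    fun j hj => by rw [dig_vadd h hv hw, hv.2 j hj, hw.2 j hj]; exact Nat.zero_mod _⟩

theorem dig_vneg (h : M.constOK = true) {v : ℕ} (hv : M.Valid v) (j : ℕ) :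
    dig j (M.neg v) = (if j < M.e then M.q - dig j v else 0) % M.q := by
  obtain ⟨hq, ho, -⟩ := constOK_spec h
  have h0 : ∀ i, dig i (M.q * M.ones) = if i < M.e then M.q else 0 := fun i => by
    rw [dig_const_mul i _ _ fun k => by rw [ho]; split_ifs <;> omega, ho]
    split_ifs <;> simp
  have h1 : ∀ i, dig i (M.q * M.ones - v) = if i < M.e then M.q - dig i v else 0 := fun i => by
    rw [dig_sub i _ _ fun k => by
      rw [h0]; split_ifs with hk
      · exact Nat.le_of_lt (Valid.lt h hv k)
      · rw [hv.2 k (Nat.le_of_not_lt hk)], h0]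
    split_ifs <;> omega
  rw [Model.neg, dig_red h (fun i => by rw [h1]; split_ifs <;> omega)
    (fun i hi => by rw [h1, if_neg (Nat.not_lt.mpr hi)]), h1]

theorem valid_neg (h : M.constOK = true) {v : ℕ} (hv : M.Valid v) : M.Valid (M.neg v) := by
  obtain ⟨hq, -, -⟩ := constOK_spec h
  exact ⟨fun j _ => by rw [dig_vneg h hv]; exact Nat.mod_lt _ (by omega),
    fun j hj => by rw [dig_vneg h hv, if_neg (Nat.not_lt.mpr hj)]; exact Nat.zero_mod _⟩

theorem and_fifteen {x : ℕ} (hx : x < 16) : x &&& 15 = x := by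
  rw [show (15 : ℕ) = 2 ^ 4 - 1 by norm_num, Nat.and_two_pow_sub_one_eq_mod, Nat.mod_eq_of_lt]
  simpa using hx

end CfsgLib.BaseThree.Check
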