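import Cfsg.Agent.Lib.BaseThree.Primitive
/-
Two-point bases in coprime action: a well chosen eigenline `K u` and one further vector of its
eigenspace fixing the field automorphism and the centraliser `Y` of the line stabiliser.
-/
set_option autoImplicit false
set_option linter.unusedSectionVars false

universe u

open scoped commutatorElement

namespace CfsgLib.BaseThree

variable {K V H : Type u} [Field K] [Finite K] [AddCommGroup V] [Finite V] [Nontrivial V]
  [Module K V] [Group H] [Finite H] [DistribMulAction H V] [FaithfulSMul H V]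

namespace Setup

variable (S : Setup K V H)

/-- `Y` is `X`, or generated over it by two elements acting on a plane through `u` -/
def GoodLine (u : V) : Prop :=
  S.Y u = S.X u ∨ ∃ y1 ∈ S.Y u, ∃ y2 ∈ S.Y u, y1 ∉ S.X u ∧ y2 ∉ S.X u ∧ y2⁻¹ * y1 ∉ S.X u ∧
    (∀ b ∈ S.Y u, b ∈ S.X u ∨ y1⁻¹ * b ∈ S.X u ∨ y2⁻¹ * b ∈ S.X u ∨ (y2 * y1)⁻¹ * b ∈ S.X u) ∧
    S.χ' ⁅y1, y2⁆ = -1 ∧ ∃ a b : K, y2 • u = a • u + b • y1 • u

theorem two_dvd_of_Y_ne (hC : S.C ≠ S.A) {u : V} (hu : S.IsBest u) (hne : S.Y u ≠ S.X u) :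
    2 ∣ Nat.card K - 1 := by
  obtain ⟨y1, hy1, hy1X⟩ := SetLike.exists_of_lt (lt_of_le_of_ne (S.X_le_Y hu.1) (Ne.symm hne))
  obtain ⟨N, -, hNK, hNB⟩ := S.exists_squarefree_exponent hC
  refine hNK 2 Nat.prime_two ?_
  rcases Nat.even_or_odd N with he | ⟨m, hm⟩
  · exact even_iff_two_dvd.mp he
  · exfalso
    refine hy1X ?_
    have h1 := S.A_le_X hC u (hNB y1 hy1.1)
    rw [hm, pow_succ, pow_mul] at h1
    exact (Subgroup.mul_mem_cancel_left _ (pow_mem (S.sq_mem_X hC hu hy1) m)).mp h1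

theorem χ'_comm_Y (hC : S.C ≠ S.A) {u : V} (hu : S.IsBest u) {y y' : H} (hy : y ∈ S.Y u)
    (hy' : y' ∈ S.Y u) (hne : y * y' ≠ y' * y) : S.χ' ⁅y, y'⁆ = -1 := by
  have hA := S.B_comm _ hy.1 _ hy'.1
  have h2 : ⁅y, y'⁆ ^ 2 = 1 := by
    rw [← S.comm_pow hy.1 hy'.1]
    exact commutatorElement_eq_one_iff_mul_comm.mpr
      (Subgroup.mem_centralizer_iff.mp hy.2 _ (S.sq_mem_X hC hu hy')).symm
  have : S.χ' ⁅y, y'⁆ * S.χ' ⁅y, y'⁆ = 1 := by rw [← S.χ'_mul hA hA, ← sq, h2, S.χ'_one]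
  exact (mul_self_eq_one_iff.mp this).resolve_left fun h =>
    hne (commutatorElement_eq_one_iff_mul_comm.mp (S.χ'_eq_one hA h))

theorem anticomm_smul {y y' : H} (hy : y ∈ S.B) (hy' : y' ∈ S.B) (h : S.χ' ⁅y, y'⁆ = -1) (v : V) :
    y • y' • v = -(y' • y • v) := by
  have e : y * y' = ⁅y, y'⁆ * (y' * y) := by simp only [commutatorElement_def]; group
  rw [← mul_smul, e, mul_smul, S.χ'_spec (S.B_comm y hy y' hy'), h, neg_one_smul, mul_smul]

theorem exists_goodLine (hC : S.C ≠ S.A) : ∃ u, S.IsBest u ∧ S.GoodLine u := by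
  classical
  obtain ⟨u, hu⟩ := S.exists_best
  by_cases hXY : S.Y u = S.X u
  · exact ⟨u, hu, Or.inl hXY⟩
  obtain ⟨y1, hy1, y2, hy2, hy1X, hy2X, hy12, hgen⟩ := S.Y_structure hC hu hXY
  obtain ⟨c1, hc1⟩ := (S.sq_mem_X hC hu hy1).2
  obtain ⟨c2, hc2⟩ := (S.sq_mem_X hC hu hy2).2
  have h2K := S.two_dvd_of_Y_ne hC hu hXY
  have hne : y1 * y2 ≠ y2 * y1 := by
    intro hc
    obtain ⟨k, hk⟩ := S.exists_pow_mem Nat.prime_two h2K hu hy1 hy2 (S.sq_mem_X hC hu hy1)
      (S.sq_mem_X hC hu hy2) hy1X (Or.inr hc) hC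
    obtain ⟨m, rfl | rfl⟩ := Nat.even_or_odd' k
    · rw [pow_mul] at hk
      exact hy2X ((Subgroup.mul_mem_cancel_right _ (pow_mem (S.sq_mem_X hC hu hy1) m)).mp hk)
    · rw [pow_succ, pow_mul, ← mul_assoc] at hk
      refine hy12 ?_
      have h0 : y1 ^ 2 ∈ S.X u := S.sq_mem_X hC hu hy1
      have h1 := mul_mem (inv_mem hk) (mul_mem (pow_mem h0 m) h0)
      have hcy : Commute y2⁻¹ y1 := (Commute.inv_left (show Commute y2 y1 from hc.symm))
      have e : (y2 * (y1 ^ 2) ^ m * y1)⁻¹ * ((y1 ^ 2) ^ m * y1 ^ 2) = y2⁻¹ * y1 := by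
        have hp : ∀ j : ℕ, y2⁻¹ * y1 ^ j = y1 ^ j * y2⁻¹ := fun j => (hcy.pow_right j).eq
        calc _ = y1⁻¹ * (((y1 ^ 2) ^ m)⁻¹ * (y2⁻¹ * y1 ^ (2 * m))) * y1 ^ 2 := by
              rw [← pow_mul]; group
          _ = y1⁻¹ * (y2⁻¹ * y1 ^ 2) := by rw [hp, ← pow_mul, inv_mul_cancel_left, mul_assoc]
          _ = y1 * y2⁻¹ := by rw [hp]; group
          _ = y2⁻¹ * y1 := hcy.eq.symm
      rwa [e] at h1
  have hχ := S.χ'_comm_Y hC hu hy1 hy2 hne
  -- a sum of two squares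
  have : Fintype K := Fintype.ofFinite K
  have hodd : Fintype.card K % 2 = 1 := by
    rw [← Nat.card_eq_fintype_card]
    have : 1 < Nat.card K := Finite.one_lt_card
    omega
  have hc10 : c1 ≠ 0 := fun h => hu.1 ((smul_eq_zero_iff_eq _).mp (by rw [hc1, h, zero_smul]))
  obtain ⟨a, b, hab⟩ : ∃ a b : K, a ^ 2 = c2 + b ^ 2 * c1 := by
    obtain ⟨a, b, hab⟩ := FiniteField.exists_root_sum_quadratic (R := K)
      (f := Polynomial.X ^ 2) (g := Polynomial.C (-c1) * Polynomial.X ^ 2 - Polynomial.C c2)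
      (Polynomial.degree_X_pow 2) (by
        rw [Polynomial.degree_sub_eq_left_of_degree_lt]
        · rw [Polynomial.degree_C_mul_X_pow 2 (neg_ne_zero.mpr hc10)]; rfl
        · rw [Polynomial.degree_C_mul_X_pow 2 (neg_ne_zero.mpr hc10)]
          exact lt_of_le_of_lt Polynomial.degree_C_le (by norm_num)) hodd
    simp at hab
    exact ⟨a, b, by linear_combination hab⟩
  let T : V → V := fun v => y2 • v - b • y1 • v
  have hTE : T u ∈ S.E u := sub_mem (S.Y_preserves_E hy2 (S.mem_E_self u))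
    ((S.E u).smul_mem _ (S.Y_preserves_E hy1 (S.mem_E_self u)))
  have hlin : ∀ y ∈ S.Y u, ∀ (k : K) (v : V), y • (k • v) = k • y • v :=
    fun y hy k v => S.C_linear (S.B_le_C hy.1) k v
  have hTT : T (T u) = a ^ 2 • u := by
    have hsq : ∀ (y : H) (c : K), (y ^ 2) • u = c • u → y • y • u = c • u :=
      fun y c h => by rw [← mul_smul, ← sq, h]
    simp only [T, smul_sub, hlin _ hy2, hlin _ hy1, hsq y2 c2 hc2, hsq y1 c1 hc1,
      S.anticomm_smul hy1.1 hy2.1 hχ u]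
    rw [hab]
    generalize y2 • y1 • u = p
    module
  by_cases hw : T u + a • u = 0
  · refine ⟨u, hu, Or.inr ⟨y1, hy1, y2, hy2, hy1X, hy2X, hy12, hgen, hχ, -a, b, ?_⟩⟩
    have : y2 • u = -(a • u) + b • y1 • u := by
      rw [← sub_eq_zero, ← hw]; simp only [T]; abel
    rw [this, neg_smul]
  set w := T u + a • u with hwdef
  have hwE : w ∈ S.E u := add_mem hTE ((S.E u).smul_mem _ (S.mem_E_self u))
  have hle : S.X u ≤ S.X w := fun x hx => by
    obtain ⟨d, hd⟩ := hx.2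
    exact ⟨hx.1, d, hwE x hx d hd⟩
  have hX : S.X w = S.X u := (Subgroup.eq_of_le_of_card_ge hle (hu.2 w hw)).symm
  have hY : S.Y w = S.Y u := by simp only [Setup.Y, hX]
  refine ⟨w, ⟨hw, fun v hv => hX ▸ hu.2 v hv⟩, Or.inr ?_⟩
  rw [hX, hY]
  refine ⟨y1, hy1, y2, hy2, hy1X, hy2X, hy12, hgen, hχ, a, b, ?_⟩
  have h1 : T w = a • w := by
    have hadd : T w = T (T u) + a • T u := by
      simp only [hwdef, T, smul_add, hlin _ hy2, hlin _ hy1, smul_sub]
      generalize y1 • y2 • u = p1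
      generalize y2 • y1 • u = p2
      generalize y1 • y1 • u = p3
      generalize y2 • y2 • u = p4
      generalize y1 • u = p5
      generalize y2 • u = p6
      module
    rw [hadd, hTT, hwdef, smul_add, smul_smul, ← sq]
    abel
  rw [← h1]
  simp only [T]
  abel

/-- one vector of `E u` controlling field automorphisms and `Y` -/
theorem exists_centre_vector (hC : S.C ≠ S.A) {u : V} (hu : S.IsBest u) (hgood : S.GoodLine u) :
    ∃ c₀ ∈ S.E u, ∀ g : H, g • u = u → g • c₀ = c₀ →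
      g ∈ S.C ∧ ∀ y ∈ S.Y u, g • y • u = y • u := by
  classical
  obtain ⟨θ, hθ⟩ := exists_generator (K := K)
  have hX : ∀ g ∈ S.C, g • u = u → ∀ x ∈ S.X u, g • x • u = x • u := by
    intro g hgC hg x hx
    obtain ⟨c, hc⟩ := hx.2
    rw [hc, S.C_linear hgC, hg]
  rcases hgood with hXY | ⟨y1, hy1, y2, hy2, hy1X, hy2X, hy12, hgen, hχ, a, b, hab⟩
  · refine ⟨θ • u, (S.E u).smul_mem _ (S.mem_E_self u), fun g hg h => ?_⟩
    rw [S.smul_comm', hg] at h
    have hgC := S.σ_eq_of_generator hθ (smul_left_injective K hu.1 h)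
    exact ⟨hgC, hXY ▸ hX g hgC hg⟩
  obtain ⟨c1, hc1⟩ := (S.sq_mem_X hC hu hy1).2
  obtain ⟨c2, hc2⟩ := (S.sq_mem_X hC hu hy2).2
  have h2K := S.two_dvd_of_Y_ne hC hu fun h => hy1X (h ▸ hy1)
  have hroot : ∀ y ∈ S.Y u, y ∉ S.X u → ∀ c : K, (y ^ 2) • u = c • u → ¬ IsSquare c := by
    rintro y hy hyX c hc ⟨s, rfl⟩
    exact hyX (S.mem_X_of_root hu Nat.prime_two h2K hy (s := s) (by rw [hc, sq]))
  have hc1n := hroot y1 hy1 hy1X c1 hc1
  have hc2n := hroot y2 hy2 hy2X c2 hc2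
  have : Fintype K := Fintype.ofFinite K
  have hsq : ∀ y : H, ∀ c : K, (y ^ 2) • u = c • u → y • y • u = c • u :=
    fun y c h => by rw [← mul_smul, ← sq, h]
  have hlinY : ∀ y ∈ S.Y u, ∀ (k : K) (v : V), y • (k • v) = k • y • v :=
    fun y hy k v => S.C_linear (S.B_le_C hy.1) k v
  have hns : ∀ p q : K, ¬ IsSquare p → ¬ IsSquare q → IsSquare (p * q) := by
    intro p q hp hq
    rcases eq_or_ne p 0 with rfl | hp0
    · exact absurd (IsSquare.zero) hp
    rcases eq_or_ne q 0 with rfl | hq0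
    · exact absurd (IsSquare.zero) hq
    have hp' := (quadraticChar_neg_one_iff_not_isSquare (a := p)).mpr hp
    have hq' := (quadraticChar_neg_one_iff_not_isSquare (a := q)).mpr hq
    rw [← quadraticChar_one_iff_isSquare (mul_ne_zero hp0 hq0), map_mul, hp', hq']
    rfl
  have hneg1 : ¬ IsSquare (-1 : K) := by
    intro h
    have h21 : y2 * y1 ∉ S.X u := by
      intro h'
      refine hy12 ?_
      have := mul_mem (inv_mem (S.sq_mem_X hC hu hy2)) h'
      rwa [show (y2 ^ 2)⁻¹ * (y2 * y1) = y2⁻¹ * y1 by rw [sq]; group] at this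
    refine hroot _ (mul_mem hy2 hy1) h21 (-1 * (c1 * c2)) ?_ (h.mul (hns _ _ hc1n hc2n))
    rw [sq, mul_smul, mul_smul, mul_smul, S.anticomm_smul hy1.1 hy2.1 hχ, smul_neg,
      hsq y1 c1 hc1, hlinY _ hy2, hlinY _ hy2, hsq y2 c2 hc2, smul_smul, ← neg_smul]
    congr 1
    ring
  obtain ⟨μ, hμ⟩ : ∃ μ : K, μ ^ 2 * c1 = -1 := by
    obtain ⟨s, hs⟩ := hns _ _ hneg1 hc1n
    have hc10 : c1 ≠ 0 := fun h => hc1n (h ▸ IsSquare.zero)
    refine ⟨s / c1, ?_⟩
    rw [div_pow, sq s, ← hs]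
    field_simp
  have hμ0 : μ ≠ 0 := fun h => by rw [h] at hμ; simp at hμ
  -- automorphisms
  have hσpow : ∀ g : H, ∃ j : ℕ, S.σ g θ = θ ^ j := by
    intro g
    rcases hθ (S.σ g θ) with h | h
    · rcases eq_or_ne θ 0 with h0 | h0
      · exact ⟨1, by rw [pow_one, h, h0]⟩
      · exfalso
        refine h0 ?_
        have := congrArg (S.σ g⁻¹) h
        rwa [← S.σ_comp, inv_mul_cancel, S.σ_one, S.σ_zero] at this
    · exact h
  have hσadd : ∀ (g : H) (p q : K), S.σ g (p + q) = S.σ g p + S.σ g q := by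
    intro g p q
    refine scal_eq (V := V) fun v => ?_
    obtain ⟨w, rfl⟩ := MulAction.surjective g v
    rw [← S.smul_comm', add_smul, add_smul, smul_add, S.smul_comm', S.smul_comm']
  have hσneg : ∀ (g : H) (p : K), S.σ g (-p) = - S.σ g p := fun g p =>
    eq_neg_of_add_eq_zero_left (by rw [← hσadd, neg_add_cancel, S.σ_zero])
  have hσsub : ∀ (g : H) (p q : K), S.σ g (p - q) = S.σ g p - S.σ g q := fun g p q => by
    rw [sub_eq_add_neg, hσadd, hσneg, ← sub_eq_add_neg]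
  have hcomm : ∀ g g' : H, ∀ x : K, S.σ g (S.σ g' x) = S.σ g' (S.σ g x) := by
    intro g g' x
    obtain ⟨j, hj⟩ := hσpow g
    obtain ⟨l, hl⟩ := hσpow g'
    rcases hθ x with rfl | ⟨i, rfl⟩
    · simp only [S.σ_zero]
    · simp only [S.σ_pow, hj, hl, ← pow_mul]
      congr 1
      ring
  -- a fixed square makes a fixed element
  have hfix : ∀ (g : H) (x : K), S.σ g (x ^ 2) = x ^ 2 → S.σ g x = x := by
    intro g x h
    rw [S.σ_pow] at h
    rcases sq_eq_sq_iff_eq_or_eq_neg.mp h with h1 | h1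
    · exact h1
    by_cases hx : x = 0
    · rw [hx, S.σ_zero]
    exfalso
    obtain ⟨j, hj⟩ := hσpow g
    have hneg : (-1 : K) ≠ 0 := neg_ne_zero.mpr one_ne_zero
    obtain ⟨n, hn⟩ := (hθ (-1)).resolve_left hneg
    have hσ1 : S.σ g (-1) = -1 := by rw [hσneg, S.σ_unit]
    rcases Nat.even_or_odd j with ⟨t, ht⟩ | ⟨t, ht⟩
    · refine hneg1 ⟨θ ^ (t * n), ?_⟩
      rw [← hσ1, hn, S.σ_pow, hj, ← pow_mul, ← pow_add, ht, add_mul]
    · obtain ⟨i, hi⟩ := (hθ x).resolve_left hx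
      refine hneg1 ⟨θ ^ (t * i), ?_⟩
      rw [hi, S.σ_pow, hj, ← pow_mul, ht] at h1
      refine mul_right_cancel₀ (show θ ^ i ≠ 0 from hi ▸ hx) ?_
      rw [neg_one_mul, ← h1, ← pow_add, ← pow_add]
      congr 1
      ring
  obtain ⟨l, hl⟩ : ∃ l : K, ∀ g : H, (S.σ g l = l → g ∈ S.C) ∧ (l - S.σ g l) ^ 2 ≠ -2 := by
    by_cases hb : ∃ g : H, (θ - S.σ g θ) ^ 2 = -2
    swap
    · push Not at hb
      exact ⟨θ, fun g => ⟨S.σ_eq_of_generator hθ, hb g⟩⟩
    obtain ⟨g, hg⟩ := hb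
    have hp2 : ∀ h : H, S.σ h (-2) = -2 := fun h => by
      rw [show (-2 : K) = -(1 + 1) by norm_num, hσneg, hσadd, S.σ_unit]
    set δ := θ - S.σ g θ with hδ
    have hσθ : S.σ g θ = θ - δ := by rw [hδ]; ring
    have h20 : (2 : K) ≠ 0 := fun h => hneg1 ⟨1, by linear_combination (h : (2:K) = 0) * (-1)⟩
    have hδ0 : δ ≠ 0 := fun h => h20 (neg_eq_zero.mp (by rw [← hg, h]; ring))
    have key : ∀ h : H, ∀ κ : K, θ ^ 2 - S.σ h (θ ^ 2) = κ → S.σ g κ = κ → S.σ h θ = θ := by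
      intro h κ hκ hgκ
      have e1 := hcomm g h (θ ^ 2)
      have e2 : S.σ h (θ ^ 2) = θ ^ 2 - κ := by linear_combination -hκ
      have hδh : S.σ h δ = δ := hfix h δ (by rw [hg, hp2])
      rw [e2, hσsub, hgκ] at e1
      simp only [S.σ_pow, hσθ] at e1
      rw [← S.σ_pow, show (θ - δ) ^ 2 = θ ^ 2 + (-(θ * δ) + (-(θ * δ) + δ ^ 2)) by ring] at e1
      simp only [hσadd, hσneg, S.σ_mul, hδh] at e1
      rw [e2, show S.σ h (δ ^ 2) = δ ^ 2 by rw [S.σ_pow, hδh]] at e1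
      have : 2 * δ * (S.σ h θ - θ) = 0 := by linear_combination e1
      exact sub_eq_zero.mp ((mul_eq_zero.mp this).resolve_left (mul_ne_zero h20 hδ0))
    refine ⟨θ ^ 2, fun h => ⟨fun he => S.σ_eq_of_generator hθ
      (key h 0 (by rw [he, sub_self]) (S.σ_zero g)), fun he => ?_⟩⟩
    have hh := key h _ rfl (hfix g _ (by rw [he, hp2]))
    rw [S.σ_pow, hh, sub_self, zero_pow two_ne_zero] at he
    exact h20 (neg_eq_zero.mp he.symm)
  refine ⟨l • u + μ • y1 • u, add_mem ((S.E u).smul_mem _ (S.mem_E_self u))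
    ((S.E u).smul_mem _ (S.Y_preserves_E hy1 (S.mem_E_self u))), fun g hg h => ?_⟩
  have hg' : g⁻¹ • u = u := inv_smul_eq_iff.mpr hg.symm
  set t := g * y1 * g⁻¹ with ht
  have htu : g • y1 • u = t • u := by rw [ht, mul_smul, mul_smul, hg']
  have htY : t ∈ S.Y u := S.conj_mem_Y hg hy1
  rw [smul_add, S.smul_comm', S.smul_comm', hg, htu] at h
  set ν := S.σ g μ
  set δ := l - S.σ g l
  have h1 : ν • t • u = δ • u + μ • y1 • u := by
    rw [sub_smul, sub_add_eq_add_sub, ← h, add_sub_cancel_left]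
  have ht2 : t • t • u = S.σ g c1 • u := by
    refine hsq t _ ?_
    rw [ht, conj_pow]
    exact S.σ_fix_conj hg hc1
  have hindep : ∀ p q : K, p • u + q • y1 • u = 0 → p = 0 ∧ q = 0 := by
    intro p q hpq
    by_cases hq : q = 0
    · exact ⟨(smul_eq_zero.mp (by simpa [hq] using hpq)).resolve_right hu.1, hq⟩
    · refine absurd ⟨hy1.1, -(q⁻¹ * p), ?_⟩ hy1X
      rw [neg_smul, ← smul_smul, eq_neg_of_add_eq_zero_left hpq, smul_neg, smul_smul,
        inv_mul_cancel₀ hq, one_smul, neg_neg]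
  have hanti : S.χ' ⁅y1, t⁆ = -1 → False := by
    intro hat
    refine (hl g).2 ?_
    have h2 := congrArg (fun v => ν • t • v) h1
    simp only [hlinY _ htY, ht2, smul_smul, smul_add] at h2
    have h3 : y1 • t • u = -(t • y1 • u) := S.anticomm_smul hy1.1 htY.1 hat u
    have h4 : ν • y1 • t • u = δ • y1 • u + (μ * c1) • u := by
      rw [← hlinY _ hy1, h1, smul_add, hlinY _ hy1, hlinY _ hy1, hsq y1 c1 hc1, smul_smul]
    have e : (ν * ν * S.σ g c1) = -1 := by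
      show S.σ g μ * S.σ g μ * _ = _
      rw [← S.σ_mul, ← S.σ_mul, ← sq, hμ, hσneg, S.σ_unit]
    have h5 : ν • t • y1 • u = -(δ • y1 • u + (μ * c1) • u) := by
      rw [← h4, h3, smul_neg, neg_neg]
    rw [← mul_assoc, e, mul_comm ν δ, mul_comm ν μ, ← smul_smul δ, h1, ← smul_smul μ, mul_smul t y1, h5] at h2
    have h6 : (δ ^ 2 + 2) • u + (0 : K) • y1 • u = 0 := by
      have e' : (δ ^ 2 + 2 : K) = (δ * δ - μ * (μ * c1)) + 1 := by linear_combination hμ
      rw [e', zero_smul, add_zero, add_smul, one_smul, ← sub_eq_zero.mpr h2.symm]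
      simp only [smul_add, smul_neg, smul_smul, neg_smul, one_smul, sub_neg_eq_add]
      generalize y1 • u = p
      module
    exact eq_neg_of_add_eq_zero_left (hindep _ _ h6).1
  rcases hgen t htY with hk | hk | hk | hk
  · exfalso
    have := S.conj_mem_X hg' hk
    rw [ht, show g⁻¹ * (g * y1 * g⁻¹) * g⁻¹⁻¹ = y1 by group] at this
    exact hy1X this
  · obtain ⟨c, hc⟩ := hk.2
    have htc : t • u = c • y1 • u := by
      rw [← hlinY _ hy1, ← hc, ← mul_smul, mul_inv_cancel_left]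
    have h7 : (-δ) • u + (ν * c - μ) • y1 • u = 0 := by
      have := sub_eq_zero.mpr h1
      rw [htc, smul_smul] at this
      rw [← this]
      generalize y1 • u = p
      module
    obtain ⟨hd, hc'⟩ := hindep _ _ h7
    have hgC := (hl g).1 (sub_eq_zero.mp (neg_eq_zero.mp hd)).symm
    have hνμ : ν = μ := S.gen g hgC μ
    have hc1' : c = 1 := mul_left_cancel₀ hμ0 (by rw [mul_one, ← hνμ]; linear_combination hc' - hνμ)
    have e1 : g • y1 • u = y1 • u := by rw [htu, htc, hc1', one_smul]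
    have e2 : g • y2 • u = y2 • u := by
      rw [hab, smul_add, S.C_linear hgC, S.C_linear hgC, hg, e1]
    refine ⟨hgC, fun y hy => ?_⟩
    rcases hgen y hy with h' | h' | h' | h'
    · exact hX g hgC hg y h'
    · have := S.fix_mul_Y hg hy1.1 (S.X_le_Y hu.1 h') e1 (hX g hgC hg _ h')
      rwa [mul_inv_cancel_left] at this
    · have := S.fix_mul_Y hg hy2.1 (S.X_le_Y hu.1 h') e2 (hX g hgC hg _ h')
      rwa [mul_inv_cancel_left] at this
    · have := S.fix_mul_Y hg (mul_mem hy2.1 hy1.1) (S.X_le_Y hu.1 h')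
        (S.fix_mul_Y hg hy2.1 hy1 e2 e1) (hX g hgC hg _ h')
      rwa [mul_inv_cancel_left] at this
  all_goals
    exfalso
    apply hanti
    apply S.χ'_comm_Y hC hu hy1 htY
    intro hc
    -- commuting with `y1` forces the coset of `y1`
    obtain ⟨k, hk'⟩ := S.exists_pow_mem Nat.prime_two h2K hu hy1 htY (S.sq_mem_X hC hu hy1)
      (S.sq_mem_X hC hu htY) hy1X (Or.inr hc) hC
    have hne' : y1 * y2 ≠ y2 * y1 := fun h' => by
      rw [commutatorElement_eq_one_iff_mul_comm.mpr h', S.χ'_one] at hχ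
      exact hneg1 ⟨1, by rw [← hχ, one_mul]⟩
    have hx : ∀ x ∈ S.X u, y1 * x = x * y1 := fun x hx =>
      (Subgroup.mem_centralizer_iff.mp hy1.2 x hx).symm
    apply hne'
    first
      | (have hy : y2 = t * (y2⁻¹ * t)⁻¹ := by group
         rw [hy]; exact ((show Commute y1 t from hc).mul_right (Commute.inv_right (hx _ hk))).eq)
      | (have hy : y2 = t * ((y2 * y1)⁻¹ * t)⁻¹ * y1⁻¹ := by group
         rw [hy]; exact (((show Commute y1 t from hc).mul_right (Commute.inv_right (hx _ hk))).mul_right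
           (Commute.inv_right (Commute.refl y1))).eq)

end Setup

end CfsgLib.BaseThree
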