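import Cfsg.Agent.Lib.BaseCoprime.Ops
/-
Normalised operators for binary coordinates: commuting involutions moving the coordinates and
commuting involutions fixing the line, in duality.
-/
set_option autoImplicit false
set_option linter.unusedSectionVars false

universe u

open scoped commutatorElement

namespace CfsgLib.BaseThree

variable {K V H : Type u} [Field K] [Finite K] [AddCommGroup V] [Finite V] [Nontrivial V]
  [Module K V] [Group H] [Finite H] [DistribMulAction H V] [FaithfulSMul H V]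

namespace Setup

variable (S : Setup K V H)

namespace Coords

variable {S} {u : V} (co : S.Coords u)

/-- the normalised operators -/
structure Frame (htwo : ∀ i, co.n i = 2) (ys : Set H) where
  /-- moving operators -/
  R : (Fin co.d → ZMod 2) → Module.End K V
  /-- operators fixing the line -/
  X : Fin co.d → Module.End K V
  R_zero : R 0 = 1
  R_add : ∀ a b, R (a + b) = R a * R b
  R_op : ∀ w, ∃ c b, S.IsOp (R w) c b ∧ co.toBin htwo (co.f b) = w ∧ ∀ y ∈ ys, ⁅b, y⁆ = 1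
  X_op : ∀ i, ∃ c b, S.IsOp (X i) c b ∧ b ∈ S.X u
  X_fix : ∀ i, X i u = u
  X_sq : ∀ i, X i * X i = 1
  X_comm : ∀ i j, Commute (X i) (X j)
  X_R : ∀ i w, X i * R w = (if w i = 0 then (1 : K) else -1) • (R w * X i)

theorem frame_square (hC : S.C ≠ S.A) (hu : S.IsBest u) (htwo : ∀ i, co.n i = 2)
    (hYX : IsSquare (-1 : K) → S.Y u = S.X u) (hneg : (-1 : K) ≠ 1) {b : H} (hb : b ∈ S.B) :
    IsSquare (S.χ' (b ^ 2)) ∨ IsSquare (-(S.χ' (b ^ 2))) ∧ ¬ IsSquare (-1 : K) := by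
  classical
  have hsqA : ∀ c ∈ S.B, c ^ 2 ∈ S.A := fun c hc => co.sq_mem_A hC hu htwo hc
  by_cases h1 : IsSquare (-1 : K)
  swap
  · have : Fintype K := Fintype.ofFinite K
    by_cases hs : IsSquare (S.χ' (b ^ 2))
    · exact Or.inl hs
    right
    refine ⟨?_, h1⟩
    have hne : S.χ' (b ^ 2) ≠ 0 := S.χ'_ne (hsqA b hb)
    have hp := (quadraticChar_neg_one_iff_not_isSquare (a := S.χ' (b ^ 2))).mpr hs
    have hq := (quadraticChar_neg_one_iff_not_isSquare (a := (-1 : K))).mpr h1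
    rw [← quadraticChar_one_iff_isSquare (neg_ne_zero.mpr hne), neg_eq_neg_one_mul, _root_.map_mul, hp, hq]
    rfl
  left
  -- a homomorphism to signs vanishing on `Y = X`
  have : Fintype K := Fintype.ofFinite K
  let ψ : H → K := fun c => if IsSquare (S.χ' (c ^ 2)) then 1 else -1
  have hψm : ∀ c ∈ S.B, ∀ c' ∈ S.B, ψ (c * c') = ψ c * ψ c' := by
    intro c hc c' hc'
    have e : S.χ' ((c * c') ^ 2) = S.χ' (c ^ 2) * S.χ' (c' ^ 2) * S.χ' ⁅c', c⁆ := by
      rw [S.mul_pow_comm hc hc', show Nat.choose 2 2 = 1 from rfl, pow_one,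
        S.χ'_mul (mul_mem (hsqA c hc) (hsqA c' hc')) (S.B_comm _ hc' _ hc), S.χ'_mul (hsqA c hc) (hsqA c' hc')]
    have hs : IsSquare (S.χ' ((c * c') ^ 2)) ↔ IsSquare (S.χ' (c ^ 2) * S.χ' (c' ^ 2)) := by
      rw [e]
      rcases co.comm_sign hC hu htwo hc' hc with h | h <;> rw [h]
      · rw [mul_one]
      · refine ⟨fun hh => ?_, fun hh => hh.mul h1⟩
        simpa [mul_assoc] using hh.mul h1
    have p0 := S.χ'_ne (hsqA c hc)
    have q0 := S.χ'_ne (hsqA c' hc')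
    simp only [ψ]
    rw [show (if IsSquare (S.χ' ((c * c') ^ 2)) then (1 : K) else -1) =
      if quadraticChar K (S.χ' (c ^ 2) * S.χ' (c' ^ 2)) = 1 then 1 else -1 from
        if_congr (hs.trans (quadraticChar_one_iff_isSquare (mul_ne_zero p0 q0)).symm) rfl rfl, _root_.map_mul]
    rcases quadraticChar_dichotomy p0 with h | h <;> rcases quadraticChar_dichotomy q0 with h' | h' <;>
      simp only [h, h', ← quadraticChar_one_iff_isSquare p0, ← quadraticChar_one_iff_isSquare q0] <;>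
      norm_num
  have hψY : ∀ y ∈ S.Y u, ψ y = 1 := by
    intro y hy
    rw [hYX h1] at hy
    obtain ⟨k, hk⟩ := hy.2
    refine if_pos ⟨k, smul_left_injective K hu.1 ?_⟩
    show S.χ' (y ^ 2) • u = (k * k) • u
    rw [← S.χ'_spec (hsqA y hy.1), sq, mul_smul, hk, S.C_linear (S.B_le_C hy.1), hk, smul_smul]
  let W := Fin co.d → ZMod 2
  let e := co.toBin htwo
  let lψ : W → ZMod 2 := fun w => if ψ (co.r (e.symm w)) = 1 then 0 else 1
  have hψval : ∀ c, ψ c = 1 ∨ ψ c = -1 := fun c => by simp only [ψ]; split_ifs <;> simp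
  have hfact : ∀ c ∈ S.B, ψ c = if lψ (e (co.f c)) = 0 then 1 else -1 := by
    intro c hc
    have hy := co.coset (co.mem (co.f c)) hc (co.spec _)
    have h2 : ψ c = ψ (co.r (co.f c)) := by
      have := hψm _ (co.mem (co.f c)) _ hy.1
      rwa [mul_inv_cancel_left, hψY _ hy, mul_one] at this
    simp only [lψ, AddEquiv.symm_apply_apply, h2]
    rcases hψval (co.r (co.f c)) with h | h <;> rw [h] <;> simp [hneg]
  have hlψ : ∀ w w', lψ (w + w') = lψ w + lψ w' := by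
    intro w w'
    have h := hfact _ (mul_mem (co.mem (e.symm w)) (co.mem (e.symm w')))
    rw [hψm _ (co.mem _) _ (co.mem _), co.map_mul _ (co.mem _) _ (co.mem _), co.spec, co.spec,
      map_add, AddEquiv.apply_symm_apply, AddEquiv.apply_symm_apply] at h
    have hw : ∀ v, ψ (co.r (e.symm v)) = if lψ v = 0 then 1 else -1 := fun v => by
      rcases hψval (co.r (e.symm v)) with h | h <;> simp [lψ, h, hneg]
    rw [hw, hw] at h
    rcases zmod2_cases (lψ w) with a | a <;> rcases zmod2_cases (lψ w') with b | b <;>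
      rcases zmod2_cases (lψ (w + w')) with c | c <;>
      simp [a, b, c, hneg, Ne.symm hneg] at h ⊢ <;> first | rfl | decide
  let lam : Fin co.d → ZMod 2 := fun i => lψ (Pi.single i 1)
  have hsum : ∀ v : W, ∑ i, lam i * v i = lψ v := by
    intro v
    let Lh := AddMonoidHom.mk' lψ hlψ
    conv_rhs => rw [← Finset.univ_sum_single v, show lψ (∑ i, Pi.single i (v i)) =
      Lh (∑ i, Pi.single i (v i)) from rfl, map_sum]
    refine Finset.sum_congr rfl fun i _ => ?_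
    rcases zmod2_cases (v i) with h | h <;> rw [h]
    · rw [mul_zero, Pi.single_zero, map_zero]
    · rw [mul_one]; rfl
  obtain ⟨x, hx, hxs⟩ := co.exists_X hC hu htwo hneg lam
  have hxB := hx.1
  have hxψ : ∀ c ∈ S.B, S.χ' ⁅x, c⁆ = ψ c := fun c hc => by
    rw [hxs c hc, hsum, hfact c hc]
  -- `A` and `x` generate a commutative normal subgroup
  have := S.normal
  let D : Subgroup H := S.A ⊔ Subgroup.zpowers x
  have hDB : D ≤ S.B := sup_le (S.A_le_B hC) (Subgroup.zpowers_le.mpr hxB)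
  have hψh : ∀ (h : H), ∀ c ∈ S.B, ψ (h * c * h⁻¹) = ψ c := by
    intro h c hc
    simp only [ψ]
    refine if_congr ?_ rfl rfl
    rw [conj_pow, ← S.σ_χ' h (hsqA c hc)]
    constructor
    · rintro ⟨k, hk⟩
      refine ⟨S.σ h⁻¹ k, ?_⟩
      rw [← S.σ_mul, ← hk, ← S.σ_comp, inv_mul_cancel, S.σ_one]
    · rintro ⟨k, hk⟩
      exact ⟨S.σ h k, by rw [hk, S.σ_mul]⟩
  have hσneg : ∀ h : H, S.σ h (-1) = -1 := by
    intro h
    refine scal_eq (V := V) fun v => ?_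
    obtain ⟨w, rfl⟩ := MulAction.surjective h v
    rw [← S.smul_comm', neg_one_smul, smul_neg, neg_one_smul]
  have hconjx : ∀ h : H, h * x * h⁻¹ ∈ D := by
    intro h
    have hhB := S.B_normal.conj_mem x hxB h
    have hA : x⁻¹ * (h * x * h⁻¹) ∈ S.A := by
      refine S.centralizer_B hC (S.B_le_C (mul_mem (inv_mem hxB) hhB))
        (Subgroup.mem_centralizer_iff.mpr fun c hc => ?_)
      have h1' : S.χ' ⁅h * x * h⁻¹, c⁆ = S.χ' ⁅x, c⁆ := by
        have hc' : h⁻¹ * c * h ∈ S.B := by simpa using S.B_normal.conj_mem c hc h⁻¹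
        have e0 : ⁅h * x * h⁻¹, c⁆ = h * ⁅x, h⁻¹ * c * h⁆ * h⁻¹ := by
          simp only [commutatorElement_def]; group
        rw [e0, ← S.σ_χ' h (S.B_comm _ hxB _ hc'), hxψ _ hc', hxψ c hc]
        rw [show ψ (h⁻¹ * c * h) = ψ c by simpa using hψh h⁻¹ c hc]
        rcases hψval c with a | a <;> rw [a]
        · exact S.σ_unit h
        · exact hσneg h
      have h2 : ⁅x⁻¹ * (h * x * h⁻¹), c⁆ = 1 := by
        refine S.χ'_eq_one (S.B_comm _ (mul_mem (inv_mem hxB) hhB) _ hc) ?_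
        rw [S.comm_mul_left (S.B_le_C (inv_mem hxB)) (S.B_comm _ hhB _ hc),
          S.χ'_mul (S.B_comm _ hhB _ hc) (S.B_comm _ (inv_mem hxB) _ hc), h1',
          ← S.χ'_mul (S.B_comm _ hxB _ hc) (S.B_comm _ (inv_mem hxB) _ hc),
          ← S.comm_mul_left (S.B_le_C (inv_mem hxB)) (S.B_comm _ hxB _ hc), inv_mul_cancel,
          commutatorElement_one_left, S.χ'_one]
      exact (commutatorElement_eq_one_iff_mul_comm.mp h2).symm
    have := D.mul_mem (le_sup_right (a := S.A) (Subgroup.mem_zpowers x)) (le_sup_left (b := Subgroup.zpowers x) hA)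
    rwa [mul_inv_cancel_left] at this
  have hDn : D.Normal := ⟨fun d hd h => by
    have hle : D ≤ D.comap (MulAut.conj h).toMonoidHom := sup_le
      (fun a ha => le_sup_left (b := Subgroup.zpowers x) (S.normal.conj_mem a ha h))
      (Subgroup.zpowers_le.mpr (hconjx h))
    exact hle hd⟩
  have hDc : ∀ a ∈ D, ∀ a' ∈ D, a * a' = a' * a := by
    have hxc : D ≤ Subgroup.centralizer {x} := sup_le
      (fun a ha => Subgroup.mem_centralizer_iff.mpr fun y hy => by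
        rw [Set.mem_singleton_iff] at hy; subst hy
        exact (S.A_central ha (S.B_le_C hxB)).symm)
      (Subgroup.zpowers_le.mpr (Subgroup.mem_centralizer_iff.mpr fun y hy => by
        rw [Set.mem_singleton_iff] at hy; subst hy; rfl))
    intro a ha a' ha'
    have hle : D ≤ Subgroup.centralizer {a} := sup_le
      (fun z hz => Subgroup.mem_centralizer_iff.mpr fun y hy => by
        rw [Set.mem_singleton_iff] at hy; subst hy
        exact (S.A_central hz (S.B_le_C (hDB ha))).symm)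
      (Subgroup.zpowers_le.mpr (Subgroup.mem_centralizer_iff.mpr fun y hy => by
        rw [Set.mem_singleton_iff] at hy; subst hy
        exact (Subgroup.mem_centralizer_iff.mp (hxc ha) x rfl).symm))
    exact Subgroup.mem_centralizer_iff.mp (hle ha') a rfl
  have hxA : x ∈ S.A := S.max D hDn le_sup_left hDc ▸ (le_sup_right (a := S.A) (Subgroup.mem_zpowers x))
  have h0 : ψ b = 1 := by
    rw [← hxψ b hb, commutatorElement_eq_one_iff_mul_comm.mpr (S.A_central hxA (S.B_le_C hb)), S.χ'_one]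
  by_contra hs
  simp [ψ, hs, hneg] at h0

theorem exists_frame (hC : S.C ≠ S.A) (hu : S.IsBest u) (htwo : ∀ i, co.n i = 2)
    (hneg : (-1 : K) ≠ 1) (hYX : IsSquare (-1 : K) → S.Y u = S.X u) (ys : Set H)
    (hys : ys ⊆ S.Y u) (hadj : ∀ b ∈ S.B, ∃ y ∈ S.Y u, ∀ z ∈ ys, ⁅b * y, z⁆ = 1) :
    Nonempty (co.Frame htwo ys) := by
  classical
  let W := Fin co.d → ZMod 2
  let e := co.toBin htwo
  let δ : Fin co.d → W := fun i => Pi.single i 1
  have hsgn : ∀ {b c : H}, b ∈ S.B → c ∈ S.B → (S.χ' ⁅b, c⁆ = 1 ∨ S.χ' ⁅b, c⁆ = -1) :=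
    fun hb hc => co.comm_sign hC hu htwo hb hc
  have hχsymm : ∀ {b c : H}, b ∈ S.B → c ∈ S.B → S.χ' ⁅c, b⁆ = S.χ' ⁅b, c⁆ := by
    intro b c hb hc
    have hA := S.B_comm b hb c hc
    have h : S.χ' ⁅c, b⁆ * S.χ' ⁅b, c⁆ = 1 := by
      rw [← S.χ'_mul (S.B_comm c hc b hb) hA, ← commutatorElement_inv, inv_mul_cancel, S.χ'_one]
    rcases hsgn hb hc with h' | h' <;> rw [h'] at h ⊢
    · simpa using h
    · linear_combination -h
  -- first lifts, commuting with `ys`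
  have hb0 : ∀ i, ∃ b ∈ S.B, e (co.f b) = δ i ∧ ∀ z ∈ ys, ⁅b, z⁆ = 1 := fun i => by
    obtain ⟨y, hy, hyz⟩ := hadj _ (co.mem (e.symm (δ i)))
    exact ⟨_, mul_mem (co.mem _) hy.1, by
      rw [co.map_mul _ (co.mem _) _ hy.1, co.spec, (co.ker y hy.1).mpr hy, add_zero,
        AddEquiv.apply_symm_apply], hyz⟩
  choose b hbB hbf hbz using hb0
  let anti : Fin co.d → Fin co.d → ZMod 2 := fun i j =>
    if j < i ∧ S.χ' ⁅b i, b j⁆ ≠ 1 then 1 else 0
  choose x hxX hxs using fun i => co.exists_X hC hu htwo hneg (anti i)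
  choose xc hxcX hxcs using fun i => co.exists_X hC hu htwo hneg (δ i)
  let sg : ZMod 2 → K := fun t => if t = 0 then 1 else -1
  have hxb : ∀ i j, S.χ' ⁅x i, b j⁆ = sg (anti i j) := fun i j => by
    rw [hxs i _ (hbB j), hbf j]
    simp only [sg, δ]
    rw [Finset.sum_eq_single j (fun l _ hl => by rw [Pi.single_eq_of_ne hl, mul_zero]) (by simp),
      Pi.single_eq_same, mul_one]
  have hxcb : ∀ i, ∀ c ∈ S.B, S.χ' ⁅xc i, c⁆ = sg (e (co.f c) i) := fun i c hc => by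
    rw [hxcs i c hc]
    simp only [sg, δ]
    rw [Finset.sum_eq_single i (fun l _ hl => by rw [Pi.single_eq_of_ne hl, zero_mul]) (by simp),
      Pi.single_eq_same, one_mul]
  have hXX : ∀ {p q : H}, p ∈ S.X u → q ∈ S.X u → S.χ' ⁅p, q⁆ = 1 := fun hp hq => by
    rw [commutatorElement_eq_one_iff_mul_comm.mpr (S.X_comm hu.1 _ hp _ hq), S.χ'_one]
  -- second lifts, commuting with each other
  let b1 : Fin co.d → H := fun i => b i * x i
  have hb1B : ∀ i, b1 i ∈ S.B := fun i => mul_mem (hbB i) (hxX i).1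
  have hmulL : ∀ {p q r : H}, p ∈ S.B → q ∈ S.B → r ∈ S.B →
      S.χ' ⁅p * q, r⁆ = S.χ' ⁅p, r⁆ * S.χ' ⁅q, r⁆ := fun hp hq hr => by
    rw [S.comm_mul_left (S.B_le_C hp) (S.B_comm _ hq _ hr),
      S.χ'_mul (S.B_comm _ hq _ hr) (S.B_comm _ hp _ hr), mul_comm]
  have hmulR : ∀ {p q r : H}, p ∈ S.B → q ∈ S.B → r ∈ S.B →
      S.χ' ⁅p, q * r⁆ = S.χ' ⁅p, q⁆ * S.χ' ⁅p, r⁆ := fun hp hq hr => by
    rw [S.comm_mul_right (S.B_le_C hq) (S.B_comm _ hp _ hr),
      S.χ'_mul (S.B_comm _ hp _ hq) (S.B_comm _ hp _ hr)]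
  have hb1c : ∀ i j, S.χ' ⁅b1 i, b1 j⁆ = 1 := by
    intro i j
    rw [hmulL (hbB i) (hxX i).1 (hb1B j), hmulR (hbB i) (hbB j) (hxX j).1,
      hmulR (hxX i).1 (hbB j) (hxX j).1, hχsymm (hxX j).1 (hbB i), hXX (hxX i) (hxX j), hxb, hxb, mul_one]
    rcases lt_trichotomy i j with h | h | h
    · rw [show anti i j = 0 from if_neg fun h' => lt_asymm h h'.1]
      rcases hsgn (hbB i) (hbB j) with hc | hc
      · rw [hc, show anti j i = 0 from if_neg fun h' => h'.2 (by rw [hχsymm (hbB i) (hbB j), hc])]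
        simp [sg]
      · rw [hc, show anti j i = 1 from if_pos ⟨h, by rw [hχsymm (hbB i) (hbB j), hc]; exact hneg⟩]
        simp [sg]
    · subst h
      rw [show anti i i = 0 from if_neg fun h' => lt_irrefl _ h'.1, commutatorElement_self, S.χ'_one]
      simp [sg]
    · rw [show anti j i = 0 from if_neg fun h' => lt_asymm h h'.1]
      rcases hsgn (hbB i) (hbB j) with hc | hc
      · rw [hc, show anti i j = 0 from if_neg fun h' => h'.2 hc]
        simp [sg]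
      · rw [hc, show anti i j = 1 from if_pos ⟨h, by rw [hc]; exact hneg⟩]
        simp [sg]
  have hXY : ∀ {p z : H}, p ∈ S.X u → z ∈ S.Y u → ⁅p, z⁆ = 1 := fun hp hz =>
    commutatorElement_eq_one_iff_mul_comm.mpr (Subgroup.mem_centralizer_iff.mp hz.2 _ hp)
  have hfX : ∀ {p : H}, p ∈ S.X u → co.f p = 0 := fun hp =>
    (co.ker _ hp.1).mpr (S.X_le_Y hu.1 hp)
  have hb1f : ∀ i, e (co.f (b1 i)) = δ i := fun i => by
    rw [co.map_mul _ (hbB i) _ (hxX i).1, hfX (hxX i), add_zero, hbf]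
  have hsqx : ∀ {p : H}, p ∈ S.X u → ∃ k : K, k ≠ 0 ∧ p • u = k • u ∧ S.χ' (p ^ 2) = k ^ 2 := by
    intro p hp
    obtain ⟨k, hk⟩ := hp.2
    refine ⟨k, fun h => hu.1 ((smul_eq_zero_iff_eq _).mp (by rw [hk, h, zero_smul])), hk,
      smul_left_injective K hu.1 ?_⟩
    show S.χ' (p ^ 2) • u = k ^ 2 • u
    rw [← S.χ'_spec (co.sq_mem_A hC hu htwo hp.1), sq, mul_smul, hk, S.C_linear (S.B_le_C hp.1), hk,
      smul_smul, ← sq]
  -- third lifts with square scalars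
  have hb2 : ∀ i, ∃ ε : ℕ, IsSquare (S.χ' ((b1 i * xc i ^ ε) ^ 2)) ∧ ε ≤ 1 := by
    intro i
    rcases co.frame_square hC hu htwo hYX hneg (hb1B i) with h | ⟨h, -⟩
    · exact ⟨0, by rwa [pow_zero, mul_one], by omega⟩
    refine ⟨1, ?_, le_rfl⟩
    obtain ⟨k, -, -, hk⟩ := hsqx (hxcX i)
    rw [pow_one, S.mul_pow_comm (hb1B i) (hxcX i).1, show Nat.choose 2 2 = 1 from rfl, pow_one,
      S.χ'_mul (mul_mem (co.sq_mem_A hC hu htwo (hb1B i)) (co.sq_mem_A hC hu htwo (hxcX i).1))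
        (S.B_comm _ (hxcX i).1 _ (hb1B i)),
      S.χ'_mul (co.sq_mem_A hC hu htwo (hb1B i)) (co.sq_mem_A hC hu htwo (hxcX i).1), hk,
      hxcb i _ (hb1B i), hb1f i]
    have : sg (δ i i) = -1 := by simp [sg, δ]
    rw [this]
    obtain ⟨l, hl⟩ := h
    exact ⟨l * k, by linear_combination (k ^ 2) * hl⟩
  choose ε hε hε1 using hb2
  let b2 : Fin co.d → H := fun i => b1 i * xc i ^ ε i
  have hxcp : ∀ i, xc i ^ ε i ∈ S.X u := fun i => pow_mem (hxcX i) _
  have hb2B : ∀ i, b2 i ∈ S.B := fun i => mul_mem (hb1B i) (hxcp i).1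
  have hcpow : ∀ i j, i ≠ j → S.χ' ⁅xc i ^ ε i, b1 j⁆ = 1 := fun i j hij => by
    rcases (show ε i = 0 ∨ ε i = 1 by have := hε1 i; omega) with h | h <;> rw [h]
    · simp [S.χ'_one]
    · rw [pow_one, hxcb i _ (hb1B j), hb1f]
      simp [sg, δ, Pi.single_eq_of_ne hij]
  have hb2c : ∀ i j, ⁅b2 i, b2 j⁆ = 1 := by
    intro i j
    by_cases hij : i = j
    · rw [hij, commutatorElement_self]
    refine S.χ'_eq_one (S.B_comm _ (hb2B i) _ (hb2B j)) ?_
    rw [hmulL (hb1B i) (hxcp i).1 (hb2B j), hmulR (hb1B i) (hb1B j) (hxcp j).1,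
      hmulR (hxcp i).1 (hb1B j) (hxcp j).1, hb1c, hXX (hxcp i) (hxcp j), hcpow i j hij,
      hχsymm (hxcp j).1 (hb1B i), hcpow j i (Ne.symm hij)]
    simp
  have hb2f : ∀ i, e (co.f (b2 i)) = δ i := fun i => by
    rw [co.map_mul _ (hb1B i) _ (hxcp i).1, hfX (hxcp i), add_zero, hb1f]
  have hb2z : ∀ i, ∀ z ∈ ys, ⁅b2 i, z⁆ = 1 := fun i z hz => by
    have hzY := hys hz
    have h1 : ⁅b1 i, z⁆ = 1 := by
      rw [S.comm_mul_left (S.B_le_C (hbB i)) (S.B_comm _ (hxX i).1 _ hzY.1), hXY (hxX i) hzY, hbz i z hz,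
        one_mul]
    rw [S.comm_mul_left (S.B_le_C (hb1B i)) (S.B_comm _ (hxcp i).1 _ hzY.1), hXY (hxcp i) hzY, h1,
      one_mul]
  -- operators
  choose s hs using fun i => hε i
  have hs0 : ∀ i, s i ≠ 0 := fun i h => by
    have := hs i
    rw [h, mul_zero] at this
    exact S.χ'_ne (co.sq_mem_A hC hu htwo (hb2B i)) this
  let f : Fin co.d → Module.End K V := fun i => (s i)⁻¹ • S.lin (S.B_le_C (hb2B i))
  have hf : ∀ i, S.IsOp (f i) ((s i)⁻¹ * 1) (b2 i) := fun i =>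
    S.isOp_smul (S.isOp_lin (hb2B i)) (inv_ne_zero (hs0 i))
  have hf2 : ∀ i, f i * f i = 1 := fun i => by
    rw [S.op_sq (hf i) (co.sq_mem_A hC hu htwo (hb2B i)), hs i]
    have := hs0 i
    rw [show ((s i)⁻¹ * 1) ^ 2 * (s i * s i) = 1 by field_simp, one_smul]
  obtain ⟨Φ, hΦ0, hΦm, hΦs, -⟩ := exists_binary_word f hf2
    (fun i j => S.op_commute (hf i) (hf j) (hb2c i j))
  have hop : ∀ w : W, ∃ c b, S.IsOp (Φ w) c b ∧ e (co.f b) = w ∧ ∀ y ∈ ys, ⁅b, y⁆ = 1 := by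
    intro w
    let P : AddSubgroup W :=
      { carrier := {w | ∃ c b, S.IsOp (Φ w) c b ∧ e (co.f b) = w ∧ ∀ y ∈ ys, ⁅b, y⁆ = 1}
        zero_mem' := ⟨1, 1, hΦ0 ▸ S.isOp_one, by rw [co.map_one, map_zero],
          fun y _ => commutatorElement_one_left y⟩
        add_mem' := fun {w w'} ⟨c, p, h, hw, hy⟩ ⟨c', p', h', hw', hy'⟩ =>
          ⟨c * c', p * p', (hΦm w w').symm ▸ S.isOp_mul h h',
            by rw [co.map_mul _ h.2.1 _ h'.2.1, map_add, hw, hw'],
            fun y hy'' => by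
              rw [S.comm_mul_left (S.B_le_C h.2.1) (S.B_comm _ h'.2.1 _ (hys hy'').1), hy y hy'',
                hy' y hy'', one_mul]⟩
        neg_mem' := fun {w} hw => by
          rwa [show -w = w from funext fun l => ZMod.neg_eq_self_mod_two (w l)] }
    show w ∈ P
    rw [← Finset.univ_sum_single w]
    refine sum_mem fun i _ => ?_
    rcases zmod2_cases (w i) with h | h <;> rw [h]
    · rw [Pi.single_zero]; exact P.zero_mem
    · exact ⟨_, b2 i, (hΦs i).symm ▸ hf i, hb2f i, hb2z i⟩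
  choose k hk0 hku hk2 using fun i => hsqx (hxcX i)
  let X : Fin co.d → Module.End K V := fun i => (k i)⁻¹ • S.lin (S.B_le_C (hxcX i).1)
  have hX : ∀ i, S.IsOp (X i) ((k i)⁻¹ * 1) (xc i) := fun i =>
    S.isOp_smul (S.isOp_lin (hxcX i).1) (inv_ne_zero (hk0 i))
  refine ⟨⟨Φ, X, hΦ0, hΦm, hop, fun i => ⟨_, _, hX i, hxcX i⟩, fun i => ?_, fun i => ?_,
    fun i j => S.op_commute (hX i) (hX j) (commutatorElement_eq_one_iff_mul_comm.mpr
      (S.X_comm hu.1 _ (hxcX i) _ (hxcX j))), fun i w => ?_⟩⟩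
  · show (k i)⁻¹ • xc i • u = u
    rw [hku, smul_smul, inv_mul_cancel₀ (hk0 i), one_smul]
  · rw [S.op_sq (hX i) (co.sq_mem_A hC hu htwo (hxcX i).1), hk2]
    have := hk0 i
    rw [show ((k i)⁻¹ * 1) ^ 2 * k i ^ 2 = 1 by field_simp, one_smul]
  · obtain ⟨c, p, hp, hpw, -⟩ := hop w
    rw [S.op_comm (hX i) hp, hxcb i p hp.2.1, hpw]

/-- two quaternion units when `Y` is larger than `X` -/
theorem exists_adjust (hC : S.C ≠ S.A) (hu : S.IsBest u) (htwo : ∀ i, co.n i = 2) {y1 y2 : H}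
    (hy1 : y1 ∈ S.Y u) (hy2 : y2 ∈ S.Y u) (hχ : S.χ' ⁅y1, y2⁆ = -1) :
    ∀ b ∈ S.B, ∃ y ∈ S.Y u, ∀ z ∈ ({y1, y2} : Set H), ⁅b * y, z⁆ = 1 := by
  intro b hb
  have hsgn : ∀ {p q : H}, p ∈ S.B → q ∈ S.B → (S.χ' ⁅p, q⁆ = 1 ∨ S.χ' ⁅p, q⁆ = -1) :=
    fun hp hq => co.comm_sign hC hu htwo hp hq
  have hm : ∀ {p q z : H}, p ∈ S.B → q ∈ S.B → z ∈ S.B →
      S.χ' ⁅p * q, z⁆ = S.χ' ⁅p, z⁆ * S.χ' ⁅q, z⁆ := fun hp hq hz => by
    rw [S.comm_mul_left (S.B_le_C hp) (S.B_comm _ hq _ hz),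
      S.χ'_mul (S.B_comm _ hq _ hz) (S.B_comm _ hp _ hz), mul_comm]
  have hχ' : S.χ' ⁅y2, y1⁆ = -1 := by
    have h : S.χ' ⁅y2, y1⁆ * S.χ' ⁅y1, y2⁆ = 1 := by
      rw [← S.χ'_mul (S.B_comm _ hy2.1 _ hy1.1) (S.B_comm _ hy1.1 _ hy2.1), ← commutatorElement_inv,
        inv_mul_cancel, S.χ'_one]
    rw [hχ] at h
    linear_combination -h
  have hself : ∀ z : H, S.χ' ⁅z, z⁆ = 1 := fun z => by rw [commutatorElement_self, S.χ'_one]
  have finish : ∀ y ∈ S.Y u, S.χ' ⁅b * y, y1⁆ = 1 → S.χ' ⁅b * y, y2⁆ = 1 →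
      ∃ y ∈ S.Y u, ∀ z ∈ ({y1, y2} : Set H), ⁅b * y, z⁆ = 1 := fun y hy h1 h2 => by
    refine ⟨y, hy, fun z hz => ?_⟩
    rcases hz with rfl | rfl
    · exact S.χ'_eq_one (S.B_comm _ (mul_mem hb hy.1) _ hy1.1) h1
    · exact S.χ'_eq_one (S.B_comm _ (mul_mem hb hy.1) _ hy2.1) h2
  rcases hsgn hb hy1.1 with h1 | h1 <;> rcases hsgn hb hy2.1 with h2 | h2
  · exact finish 1 (one_mem _) (by rw [mul_one]; exact h1) (by rw [mul_one]; exact h2)
  · exact finish y1 hy1 (by rw [hm hb hy1.1 hy1.1, h1, hself, mul_one])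
      (by rw [hm hb hy1.1 hy2.1, h2, hχ]; ring)
  · exact finish y2 hy2 (by rw [hm hb hy2.1 hy1.1, h1, hχ']; ring)
      (by rw [hm hb hy2.1 hy2.1, h2, hself, mul_one])
  · exact finish (y1 * y2) (mul_mem hy1 hy2)
      (by rw [hm hb (mul_mem hy1.1 hy2.1) hy1.1, hm hy1.1 hy2.1 hy1.1, h1, hself, hχ']; ring)
      (by rw [hm hb (mul_mem hy1.1 hy2.1) hy2.1, hm hy1.1 hy2.1 hy2.1, h2, hself, hχ]; ring)

end Coords

end Setup

end CfsgLib.BaseThree
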