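import Mathlib
/-
A coloured family of vectors in a product of groups of prime order with trivial stabiliser: unit
vectors, sums of two of them and sums over initial segments, prime by prime.
-/
set_option autoImplicit false

namespace CfsgLib.BaseThree

variable {d : ℕ} (n : Fin d → ℕ)

/-- the position among the coordinates of the same order -/
def rank (i : Fin d) : ℕ := (Finset.univ.filter fun j : Fin d => n j = n i ∧ j < i).card

/-- the number of coordinates of an order -/
def mult (r : ℕ) : ℕ := (Finset.univ.filter fun j : Fin d => n j = r).card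

theorem rank_lt_mult (i : Fin d) : rank n i < mult n (n i) := by
  refine Finset.card_lt_card ⟨fun j hj => ?_, fun h => ?_⟩
  · simp only [Finset.mem_filter] at hj ⊢
    exact ⟨hj.1, hj.2.1⟩
  · have := h (Finset.mem_filter.mpr ⟨Finset.mem_univ i, rfl⟩)
    simp at this

theorem rank_strictMono {i j : Fin d} (h : n i = n j) (hij : i < j) : rank n i < rank n j := by
  refine Finset.card_lt_card ⟨fun l hl => ?_, fun hc => ?_⟩
  · simp only [Finset.mem_filter] at hl ⊢
    exact ⟨hl.1, hl.2.1.trans h, hl.2.2.trans hij⟩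
  · have := hc (Finset.mem_filter.mpr ⟨Finset.mem_univ i, h, hij⟩)
    simp at this

theorem rank_inj {i j : Fin d} (h : n i = n j) (hr : rank n i = rank n j) : i = j := by
  rcases lt_trichotomy i j with h1 | h1 | h1
  · exact absurd hr (rank_strictMono n h h1).ne
  · exact h1
  · exact absurd hr.symm (rank_strictMono n h.symm h1).ne

theorem exists_rank {r k : ℕ} (hk : k < mult n r) : ∃ i, n i = r ∧ rank n i = k := by
  let s := Finset.univ.filter fun j : Fin d => n j = r
  have hsurj : s.image (rank n) = Finset.range (mult n r) := by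
    refine Finset.eq_of_subset_of_card_le (fun x hx => ?_) ?_
    · obtain ⟨i, hi, rfl⟩ := Finset.mem_image.mp hx
      simp only [s, Finset.mem_filter] at hi
      exact Finset.mem_range.mpr (hi.2 ▸ rank_lt_mult n i)
    · rw [Finset.card_range, Finset.card_image_of_injOn]
      · exact le_of_eq rfl
      · intro i hi j hj h
        simp only [s, Finset.coe_filter, Set.mem_setOf_eq] at hi hj
        exact rank_inj n (hi.2.trans hj.2.symm) h
  have : k ∈ s.image (rank n) := by rw [hsurj]; exact Finset.mem_range.mpr hk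
  obtain ⟨i, hi, h⟩ := Finset.mem_image.mp this
  exact ⟨i, (Finset.mem_filter.mp hi).2, h⟩

/-- the initial segment of the coordinates of one order -/
def seg (r k : ℕ) : Finset (Fin d) := Finset.univ.filter fun i => n i = r ∧ rank n i < k

theorem card_seg {r k : ℕ} (hk : k ≤ mult n r) : (seg n r k).card = k := by
  conv_rhs => rw [← Finset.card_range k]
  refine Finset.card_bij (fun i _ => rank n i) (fun i hi => ?_) (fun i hi j hj h => ?_) fun l hl => ?_
  · exact Finset.mem_range.mpr (Finset.mem_filter.mp hi).2.2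
  · exact rank_inj n ((Finset.mem_filter.mp hi).2.1.trans (Finset.mem_filter.mp hj).2.1.symm) h
  · obtain ⟨i, h1, h2⟩ := exists_rank n (lt_of_lt_of_le (Finset.mem_range.mp hl) hk)
    exact ⟨i, Finset.mem_filter.mpr ⟨Finset.mem_univ _, h1, h2 ▸ Finset.mem_range.mp hl⟩, h2⟩

/-- the sum of the unit vectors of a set -/
def usum (T : Finset (Fin d)) : (i : Fin d) → ZMod (n i) := ∑ i ∈ T, Pi.single i 1

theorem usum_apply (T : Finset (Fin d)) (i : Fin d) :
    usum n T i = if i ∈ T then 1 else 0 := by
  rw [usum, Finset.sum_apply, Finset.sum_pi_single]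

/-- first colour: unit vectors, but the first of order two -/
def Col0 (w : (i : Fin d) → ZMod (n i)) : Prop :=
  ∃ i, (n i = 2 → rank n i ≠ 0) ∧ w = Pi.single i 1

/-- second colour -/
def Col2 (w : (i : Fin d) → ZMod (n i)) : Prop :=
  ∃ i, n i = 2 ∧ rank n i = 0 ∧ w = Pi.single i 1

/-- third colour -/
def Col1 (w : (i : Fin d) → ZMod (n i)) : Prop :=
  (∃ i j, n i = n j ∧ (n i = 2 → i ≠ j ∧ ¬ (rank n i = 0 ∧ rank n j = 2) ∧
      ¬ (rank n i = 2 ∧ rank n j = 0)) ∧ w = Pi.single i 1 + Pi.single j 1) ∨
  (∃ i j, n i = n j ∧ n i ≠ 2 ∧ rank n i = 0 ∧ rank n j = 1 ∧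
      w = Pi.single i 1 + (Pi.single i 1 + Pi.single j 1)) ∨
  ∃ r k, 3 ≤ k ∧ k ≤ mult n r ∧ w = usum n (seg n r k)

variable {n}

theorem col_ne_single (hn : ∀ i, (n i).Prime) {w} (hw : Col1 n w) (l : Fin d) :
    w ≠ Pi.single l 1 := by
  have : ∀ i, Fact (1 < n i) := fun i => ⟨(hn i).one_lt⟩
  intro h
  rcases hw with ⟨i, j, hij, hc, rfl⟩ | ⟨i, j, hij, hne2, hi, hj, rfl⟩ | ⟨r, k, hk, hkm, rfl⟩
  · by_cases e : i = j
    · subst e
      have h1 := congrFun h i
      simp only [Pi.add_apply, Pi.single_eq_same] at h1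
      by_cases el : i = l
      · subst el; simp at h1
      · rw [Pi.single_eq_of_ne el] at h1
        have h2 : ((2 : ℕ) : ZMod (n i)) = 0 := by rw [← h1]; norm_num
        rw [ZMod.natCast_eq_zero_iff, Nat.prime_dvd_prime_iff_eq (hn i) Nat.prime_two] at h2
        exact (hc h2).1 rfl
    · have h1 := congrFun h i
      have h2 := congrFun h j
      simp only [Pi.add_apply, Pi.single_eq_same, Pi.single_eq_of_ne e, Pi.single_eq_of_ne (Ne.symm e),
        add_zero, zero_add] at h1 h2
      by_cases el : i = l
      · subst el; rw [Pi.single_eq_of_ne (Ne.symm e)] at h2; exact one_ne_zero h2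
      · rw [Pi.single_eq_of_ne el] at h1; exact one_ne_zero h1
  · have e : i ≠ j := fun e => by rw [e, hj] at hi; exact one_ne_zero hi
    have h2 := congrFun h j
    simp only [Pi.add_apply, Pi.single_eq_same, Pi.single_eq_of_ne (Ne.symm e), zero_add] at h2
    by_cases el : j = l
    · subst el
      have h1 := congrFun h i
      simp only [Pi.add_apply, Pi.single_eq_same, Pi.single_eq_of_ne e, add_zero] at h1
      have h3 : ((2 : ℕ) : ZMod (n i)) = 0 := by rw [← h1]; norm_num
      rw [ZMod.natCast_eq_zero_iff, Nat.prime_dvd_prime_iff_eq (hn i) Nat.prime_two] at h3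
      exact hne2 h3
    · rw [Pi.single_eq_of_ne el] at h2; exact one_ne_zero h2
  · have hsub : seg n r k ⊆ {l} := fun i hi => by
      rw [Finset.mem_singleton]
      by_contra e
      have := congrFun h i
      rw [usum_apply, if_pos hi, Pi.single_eq_of_ne e] at this
      exact one_ne_zero this
    have := Finset.card_le_card hsub
    rw [card_seg n hkm, Finset.card_singleton] at this
    omega

/-- shapes in the third colour -/
theorem col1_usum (hn : ∀ i, (n i).Prime) {T : Finset (Fin d)} (hT : 3 ≤ T.card)
    (h : Col1 n (usum n T)) : ∃ r k, k ≤ mult n r ∧ T = seg n r k := by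
  classical
  have : ∀ i, Fact (1 < n i) := fun i => ⟨(hn i).one_lt⟩
  have hmem : ∀ l, l ∈ T ↔ usum n T l ≠ 0 := fun l => by
    rw [usum_apply]; by_cases hl : l ∈ T <;> simp [hl]
  have small : ∀ i j : Fin d, (∀ l, usum n T l ≠ 0 → l = i ∨ l = j) → False := fun i j hs => by
    have hsub : T ⊆ {i, j} := fun l hl => by simpa using hs l ((hmem l).mp hl)
    have h1 := Finset.card_le_card hsub
    have h2 := Finset.card_insert_le i ({j} : Finset (Fin d))
    rw [Finset.card_singleton] at h2
    omega
  rcases h with ⟨i, j, -, -, e⟩ | ⟨i, j, -, -, -, -, e⟩ | ⟨r, k, -, hkm, e⟩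
  · refine (small i j fun l hl => ?_).elim
    rw [e] at hl
    by_contra hc
    push Not at hc
    simp [hc.1, hc.2] at hl
  · refine (small i j fun l hl => ?_).elim
    rw [e] at hl
    by_contra hc
    push Not at hc
    simp [hc.1, hc.2] at hl
  · refine ⟨r, k, hkm, Finset.ext fun l => ?_⟩
    rw [hmem, e, usum_apply]
    by_cases hl : l ∈ seg n r k <;> simp [hl]

theorem col1_pair (hn : ∀ i, (n i).Prime) {i j : Fin d} (hij : i ≠ j)
    (h : Col1 n (Pi.single i 1 + Pi.single j 1)) (h2 : n i = 2) :
    ¬ (rank n i = 0 ∧ rank n j = 2) := by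
  classical
  have : ∀ i, Fact (1 < n i) := fun i => ⟨(hn i).one_lt⟩
  rintro ⟨hi, hj⟩
  have hl : ∀ l, (Pi.single i 1 + Pi.single j 1 : (i : Fin d) → ZMod (n i)) l ≠ 0 ↔ l = i ∨ l = j := by
    intro l
    by_cases h1 : l = i
    · subst h1; simp [hij]
    · by_cases h3 : l = j
      · subst h3; simp [h1]
      · simp [h1, h3]
  rcases h with ⟨a, b, hab, hc, e⟩ | ⟨a, b, hab, hne, ha, hb, e⟩ | ⟨r, k, hk, hkm, e⟩
  · by_cases eab : a = b
    · subst eab
      have hh : ∀ l, l = i ∨ l = j → l = a := fun l hl' => by
        have := (hl l).mpr hl'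
        rw [e] at this
        by_contra hne'
        simp [hne'] at this
      exact hij ((hh i (Or.inl rfl)).trans (hh j (Or.inr rfl)).symm)
    have ha' : a = i ∨ a = j := (hl a).mp (by rw [e]; simp [eab])
    have hb' : b = i ∨ b = j := (hl b).mp (by rw [e]; simp [Ne.symm eab])
    rcases ha' with rfl | rfl <;> rcases hb' with rfl | rfl
    · exact eab rfl
    · exact (hc h2).2.1 ⟨hi, hj⟩
    · exact (hc (hab.trans h2)).2.2 ⟨hj, hi⟩
    · exact eab rfl
  · have eab : a ≠ b := fun e' => by rw [e', hb] at ha; exact one_ne_zero ha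
    have hb' : b = i ∨ b = j := (hl b).mp (by rw [e]; simp [Ne.symm eab])
    rcases hb' with rfl | rfl <;> omega
  · have hsub : seg n r k ⊆ {i, j} := fun l hl' => by
      have : (Pi.single i 1 + Pi.single j 1 : (i : Fin d) → ZMod (n i)) l ≠ 0 := by
        rw [e, usum_apply, if_pos hl']; exact one_ne_zero
      simpa using (hl l).mp this
    have := Finset.card_le_card hsub
    rw [card_seg n hkm, Finset.card_pair hij] at this
    omega

theorem col1_marker (hn : ∀ i, (n i).Prime) {i j : Fin d} (hij : i ≠ j) (h2 : n i ≠ 2)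
    (h : Col1 n (Pi.single i 1 + (Pi.single i 1 + Pi.single j 1))) :
    rank n i = 0 ∧ rank n j = 1 := by
  classical
  have : ∀ i, Fact (1 < n i) := fun i => ⟨(hn i).one_lt⟩
  have h20 : (1 + 1 : ZMod (n i)) ≠ 0 := fun h0 => by
    have h3 : ((2 : ℕ) : ZMod (n i)) = 0 := by rw [← h0]; norm_num
    rw [ZMod.natCast_eq_zero_iff, Nat.prime_dvd_prime_iff_eq (hn i) Nat.prime_two] at h3
    exact h2 h3
  set w : (i : Fin d) → ZMod (n i) := Pi.single i 1 + (Pi.single i 1 + Pi.single j 1) with hw
  have wi : w i = 1 + 1 := by simp [w, hij]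
  have wj : w j = 1 := by simp [w, Ne.symm hij]
  have hl : ∀ l, w l ≠ 0 → l = i ∨ l = j := fun l hl' => by
    by_contra hc
    push Not at hc
    simp [w, hc.1, hc.2] at hl'
  rcases h with ⟨a, b, hab, hc, e⟩ | ⟨a, b, hab, hne, ha, hb, e⟩ | ⟨r, k, hk, hkm, e⟩
  · exfalso
    by_cases eab : a = b
    · subst eab
      have hia : i = a := by
        by_contra hne'; rw [e] at wi; simp [hne'] at wi; exact h20 wi.symm
      have hja : j = a := by
        by_contra hne'; rw [e] at wj; simp [hne'] at wj
      exact hij (hia.trans hja.symm)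
    · rw [e] at wi
      by_cases h1 : i = a
      · subst h1; simp [eab] at wi
      · by_cases h3 : i = b
        · subst h3; simp [h1] at wi
        · simp [h1, h3] at wi; exact h20 wi.symm
  · have eab : a ≠ b := fun e' => by rw [e', hb] at ha; exact one_ne_zero ha
    have hb' : b = i ∨ b = j := hl b (by rw [e]; simp [Ne.symm eab])
    rcases hb' with rfl | rfl
    · rw [e] at wi; simp [Ne.symm eab] at wi
    · have ha' : a = i := by
        by_contra hne'
        rw [e] at wi
        simp [Ne.symm hne', hij] at wi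
        exact h20 wi.symm
      subst ha'
      exact ⟨ha, hb⟩
  · exfalso
    have hsub : seg n r k ⊆ {i, j} := fun l hl' => by
      simpa using hl l (by rw [e, usum_apply, if_pos hl']; exact one_ne_zero)
    have := Finset.card_le_card hsub
    rw [card_seg n hkm, Finset.card_pair hij] at this
    omega

/-- only the identity preserves the three colours -/
theorem colours_fix (hn : ∀ i, (n i).Prime) (π : Fin d → Fin d) (hinj : Function.Injective π)
    (hord : ∀ i, n (π i) = n i)
    (h0 : ∀ i, n i = 2 → rank n i = 0 → rank n (π i) = 0)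
    (h1 : ∀ i j, Col1 n (Pi.single i 1 + Pi.single j 1) →
      Col1 n (Pi.single (π i) 1 + Pi.single (π j) 1))
    (h1' : ∀ i j, Col1 n (Pi.single i 1 + (Pi.single i 1 + Pi.single j 1)) →
      Col1 n (Pi.single (π i) 1 + (Pi.single (π i) 1 + Pi.single (π j) 1)))
    (h1'' : ∀ T : Finset (Fin d), Col1 n (usum n T) → Col1 n (usum n (T.image π))) :
    ∀ i, π i = i := by
  classical
  have hsurj : Function.Surjective π := Finite.surjective_of_injective hinj
  have fix : ∀ i, rank n (π i) = rank n i → π i = i := fun i h => rank_inj n (hord i) h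
  have hseg : ∀ i k, 3 ≤ k → k ≤ mult n (n i) → rank n i < k → rank n (π i) < k := by
    intro i k hk hkm hi
    obtain ⟨r', k', hk', he⟩ := col1_usum hn (T := (seg n (n i) k).image π)
      (by rw [Finset.card_image_of_injective _ hinj, card_seg n hkm]; exact hk)
      (h1'' _ (Or.inr (Or.inr ⟨_, k, hk, hkm, rfl⟩)))
    have hk'k : k' = k := by
      have h := congrArg Finset.card he
      rw [Finset.card_image_of_injective _ hinj, card_seg n hkm, card_seg n hk'] at h
      exact h.symm
    have hm : π i ∈ (seg n (n i) k).image π :=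
      Finset.mem_image_of_mem π (Finset.mem_filter.mpr ⟨Finset.mem_univ _, rfl, hi⟩)
    rw [he] at hm
    exact hk'k ▸ (Finset.mem_filter.mp hm).2.2
  have htwo : ∀ i, n i = 2 → rank n i = 2 → π i = i := by
    intro i h2 hi
    by_contra hne
    obtain ⟨i', hi'⟩ := hsurj i
    obtain ⟨o, ho, hor⟩ := exists_rank n (r := 2) (k := 0) (by
      have := rank_lt_mult n i; rw [h2] at this; omega)
    have hn' : n i' = 2 := by rw [← hord i', hi', h2]
    have hπo : π o = o := fix o ((h0 o ho hor).trans hor.symm)
    have hoi : o ≠ i := fun e => by rw [e, hi] at hor; omega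
    have hoi' : o ≠ i' := fun e => hoi (by rw [← hi', ← e, hπo])
    have hc : Col1 n (Pi.single o 1 + Pi.single i' 1) :=
      Or.inl ⟨o, i', ho.trans hn'.symm, fun _ => ⟨hoi', fun h => hne (by
        rw [rank_inj n (hn'.trans h2.symm) (h.2.trans hi.symm)] at hi'; exact hi'), fun h => by omega⟩, rfl⟩
    have := h1 o i' hc
    rw [hπo, hi'] at this
    exact col1_pair hn hoi this ho ⟨hor, hi⟩
  have hmark : ∀ i j, n i = n j → n i ≠ 2 → rank n i = 0 → rank n j = 1 →
      π i = i ∧ π j = j := by
    intro i j hij h2 hi hj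
    have hne : i ≠ j := fun e => by rw [e, hj] at hi; exact one_ne_zero hi
    obtain ⟨a, b⟩ := col1_marker hn (fun e => hne (hinj e)) (by rwa [hord])
      (h1' i j (Or.inr (Or.inl ⟨i, j, hij, h2, hi, hj, rfl⟩)))
    exact ⟨fix i (a.trans hi.symm), fix j (b.trans hj.symm)⟩
  intro i
  induction hv : rank n i using Nat.strong_induction_on generalizing i with
  | _ v ih =>
    subst hv
    have hge : rank n i ≤ rank n (π i) := by
      by_contra hlt
      push Not at hlt
      obtain ⟨j, hj, hjr⟩ := exists_rank n (r := n i) (k := rank n (π i))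
        (lt_trans hlt (rank_lt_mult n i))
      have hπj : π j = j := ih _ (hjr.symm ▸ hlt) j rfl
      have hji : j = π i := rank_inj n (hj.trans (hord i).symm) hjr
      have : j = i := hinj (hπj.trans hji)
      rw [this] at hjr
      omega
    by_cases hlast : rank n i + 1 = mult n (n i)
    · have := rank_lt_mult n (π i)
      rw [hord] at this
      exact fix i (by omega)
    have hm : rank n i + 1 < mult n (n i) := by have := rank_lt_mult n i; omega
    by_cases hbig : 2 ≤ rank n i
    · have := hseg i (rank n i + 1) (by omega) (by omega) (by omega)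
      exact fix i (by omega)
    by_cases h2 : n i = 2
    · by_cases hr0 : rank n i = 0
      · exact fix i ((h0 i h2 hr0).trans hr0.symm)
      have := hseg i 3 le_rfl (by omega) (by omega)
      by_cases hb : rank n (π i) = 2
      · exfalso
        have hb' : π (π i) = π i := htwo (π i) (by rw [hord]; exact h2) hb
        have := hinj hb'
        rw [this] at hb
        omega
      · exact fix i (by omega)
    · rcases Nat.lt_or_ge (rank n i) 1 with hr | hr
      · obtain ⟨j, hj, hjr⟩ := exists_rank n (r := n i) (k := 1) (by omega)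
        exact (hmark i j hj.symm h2 (by omega) hjr).1
      · obtain ⟨o, ho, hor⟩ := exists_rank n (r := n i) (k := 0) (by omega)
        exact (hmark o i ho (by rwa [ho]) hor (by omega)).2

end CfsgLib.BaseThree
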