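import Cfsg.Agent.Lib.BaseCoprime.Coords
import Cfsg.Agent.Lib.BaseCoprime.Rank
/-
Two vectors when the field has enough powers: colours attached to translates of the eigenline.
-/
set_option autoImplicit false
set_option linter.unusedSectionVars false

universe u

open scoped commutatorElement

namespace CfsgLib.BaseThree

variable {K V H : Type u} [Field K] [Finite K] [AddCommGroup V] [Finite V] [Nontrivial V]
  [Module K V] [Group H] [Finite H] [DistribMulAction H V] [FaithfulSMul H V]

theorem generator_dvd {θ : K} (hθ : ∀ c : K, c = 0 ∨ ∃ j : ℕ, c = θ ^ j) {j : ℕ}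
    (hj : θ ^ j = 1) : Nat.card K - 1 ∣ j := by
  rcases eq_or_ne θ 0 with h0 | h0
  · rcases Nat.eq_zero_or_pos j with rfl | hp
    · exact dvd_zero _
    · rw [h0, zero_pow hp.ne'] at hj; exact absurd hj zero_ne_one
  have hgen : ∀ x : Kˣ, x ∈ Subgroup.zpowers (Units.mk0 θ h0) := fun x => by
    obtain ⟨i, hi⟩ := (hθ x).resolve_left x.ne_zero
    exact Subgroup.mem_zpowers_iff.mpr ⟨i, Units.ext (by simp [hi])⟩
  rw [← Nat.card_units, ← orderOf_eq_card_of_forall_mem_zpowers hgen]
  exact orderOf_dvd_of_pow_eq_one (Units.ext (by simpa using hj))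

namespace Setup

variable (S : Setup K V H)

namespace Coords

variable {S} {u : V} (co : S.Coords u)

/-- one translate suffices with at most one coordinate -/
theorem pair_small (hC : S.C ≠ S.A) (hu : u ≠ 0) (hd : co.d ≤ 1)
    (htwo : ∀ i, co.n i = 2) {c₀ : V} (hc₀ : c₀ ∈ S.E u)
    (hctl : ∀ g : H, g • u = u → g • c₀ = c₀ → g ∈ S.C ∧ ∀ y ∈ S.Y u, g • y • u = y • u) :
    ∃ v w : V, ∀ g : H, g • v = v → g • w = w → g = 1 := by
  classical
  have : ∀ i, NeZero (co.n i) := fun i => ⟨(co.prime i).ne_zero⟩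
  refine ⟨u, ∑ w, co.comp c₀ (fun _ => 1) w, fun g hg hgv => ?_⟩
  obtain ⟨h0, hw⟩ := co.comp_map hu hc₀ _ hg hgv
  obtain ⟨hgC, hY⟩ := hctl g hg h0
  have hval : ∀ (i : Fin co.d) (x : ZMod (co.n i)), x = 0 ∨ x = 1 := by
    intro i
    rw [htwo i]
    decide
  have huniq : ∀ (w w' : (i : Fin co.d) → ZMod (co.n i)), w ≠ 0 → w' ≠ 0 → w = w' := by
    intro w w' h1 h2
    funext i
    have key : ∀ v : (i : Fin co.d) → ZMod (co.n i), v ≠ 0 → v i = 1 := fun v hv =>
      (hval i (v i)).resolve_left fun h => hv (funext fun j => by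
        rw [show j = i from Fin.ext (by have := i.2; have := j.2; omega)]; exact h)
    rw [key w h1, key w' h2]
  have hfix : ∀ w : (i : Fin co.d) → ZMod (co.n i), w ≠ 0 → g • co.r w • u = co.r w • u := by
    intro w hw0
    obtain ⟨hM, h⟩ := hw w hw0
    rwa [S.gen g hgC, one_smul, one_smul, huniq _ _ hM hw0] at h
  have hfix' : ∀ w : (i : Fin co.d) → ZMod (co.n i), g • co.r w • u = co.r w • u := fun w => by
    by_cases h : w = 0
    · rw [h, co.rep_zero, one_smul, hg]
    · exact hfix w h
  refine co.finish hC hu hgC hg hY Set.univ (AddSubgroup.closure_univ) (fun x _ => hfix' x)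
    fun x _ => ?_
  rw [eq_top_iff]
  intro y _
  exact AddSubgroup.subset_closure (co.commute_of_fixed hu hg hY (hfix' x) (hfix' y) (hfix' _))

/-- the pairing of colours with translates -/
theorem pair_colours (hC : S.C ≠ S.A) (hu : u ≠ 0) (hodd : 2 ∣ Nat.card K - 1)
    (hbig : ∀ i, co.n i = 2 → ¬ Nat.card K - 1 ∣ 8) {c₀ : V} (hc₀ : c₀ ∈ S.E u)
    (hctl : ∀ g : H, g • u = u → g • c₀ = c₀ → g ∈ S.C ∧ ∀ y ∈ S.Y u, g • y • u = y • u) :
    ∃ v w : V, ∀ g : H, g • v = v → g • w = w → g = 1 := by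
  classical
  have : ∀ i, Fact (1 < co.n i) := fun i => ⟨(co.prime i).one_lt⟩
  have : ∀ i, NeZero (co.n i) := fun i => ⟨(co.prime i).ne_zero⟩
  obtain ⟨θ, hθ⟩ := exists_generator (K := K)
  have hθ0 : θ ≠ 0 := by
    intro h
    have h1 : 2 < Nat.card K := by
      have : 1 < Nat.card K := Finite.one_lt_card
      obtain ⟨m, hm⟩ := hodd
      omega
    have key : ∀ x : K, x ≠ 0 → x = 1 := fun x hx => by
      obtain ⟨j, hj⟩ := (hθ x).resolve_left hx
      rcases Nat.eq_zero_or_pos j with rfl | hp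
      · simpa using hj
      · rw [h, zero_pow hp.ne'] at hj; exact absurd hj hx
    have hinj : Function.Injective (fun x : K => decide (x = 0)) := fun x y hxy => by
      simp only [decide_eq_decide] at hxy
      by_cases hx : x = 0
      · rw [hx, hxy.mp hx]
      · rw [key x hx, key y fun hy => hx (hxy.mpr hy)]
    have := Nat.card_le_card_of_injective _ hinj
    rw [Nat.card_eq_fintype_card (α := Bool), Fintype.card_bool] at this
    omega
  let ord : ((i : Fin co.d) → ZMod (co.n i)) → ℕ := addOrderOf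
  let L : ((i : Fin co.d) → ZMod (co.n i)) → ℕ := fun w => if ord w = 2 then 4 else ord w
  let χL : ((i : Fin co.d) → ZMod (co.n i)) → K := fun w => S.χ' (co.r w ^ L w)
  have hP : ∀ w, ({x : K | ∃ s : K, s ≠ 0 ∧ x = s ^ L w * χL w}).Nonempty :=
    fun w => ⟨_, 1, one_ne_zero, rfl⟩
  choose t ht0 ht using fun w => (hP w).some_mem
  let a : ((i : Fin co.d) → ZMod (co.n i)) → K := fun w =>
    if Col0 co.n w then t w else if Col1 co.n w then t w * θ else
      if Col2 co.n w then t w * θ ^ 2 else 0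
  -- orders
  have hordsingle : ∀ i, ord (Pi.single i 1) = co.n i := fun i => by
    have : Fact (co.n i).Prime := ⟨co.prime i⟩
    refine addOrderOf_eq_prime ?_ (by simp)
    rw [← Pi.single_smul, nsmul_one, ZMod.natCast_self, Pi.single_zero]
  have hzero : ∀ i, co.n i • (Pi.single i 1 : (i : Fin co.d) → ZMod (co.n i)) = 0 := fun i => by
    rw [← Pi.single_smul, nsmul_one, ZMod.natCast_self, Pi.single_zero]
  have hne0 : ∀ w, Col0 co.n w ∨ Col1 co.n w ∨ Col2 co.n w → w ≠ 0 := by
    rintro w hw rfl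
    rcases hw with ⟨i, -, h⟩ | hw | ⟨i, -, -, h⟩
    · simpa using congrFun h i
    · rcases hw with ⟨i, j, hij, hc, h⟩ | ⟨i, j, hij, h2, hi, hj, h⟩ | ⟨r, k, hk, hkm, h⟩
      · by_cases e : i = j
        · subst e
          have h' := congrFun h i
          simp only [Pi.zero_apply, Pi.add_apply, Pi.single_eq_same] at h'
          have h3 : ((2 : ℕ) : ZMod (co.n i)) = 0 := by rw [h']; norm_num
          rw [ZMod.natCast_eq_zero_iff, Nat.prime_dvd_prime_iff_eq (co.prime i) Nat.prime_two] at h3
          exact (hc h3).1 rfl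
        · have h' := congrFun h j
          simp [Ne.symm e] at h'
      · have h' := congrFun h j
        have e : i ≠ j := fun e => by rw [e, hj] at hi; exact one_ne_zero hi
        simp [Ne.symm e] at h'
      · obtain ⟨i, hi⟩ : (seg co.n r k).Nonempty := Finset.card_pos.mp (by rw [card_seg _ hkm]; omega)
        have h' := congrFun h i
        rw [usum_apply, if_pos hi] at h'
        exact one_ne_zero h'.symm
    · simpa using congrFun h i
  have hord : ∀ w, Col0 co.n w ∨ Col1 co.n w ∨ Col2 co.n w →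
      ∃ i, ord w = co.n i := by
    intro w hw
    obtain ⟨i, hi⟩ : ∃ i, co.n i • w = 0 := by
      rcases hw with ⟨i, -, rfl⟩ | hw | ⟨i, -, -, rfl⟩
      · exact ⟨i, hzero i⟩
      · rcases hw with ⟨i, j, hij, -, rfl⟩ | ⟨i, j, hij, -, -, -, rfl⟩ | ⟨r, k, hk, hkm, rfl⟩
        · exact ⟨i, by rw [nsmul_add, hzero, hij, hzero, add_zero]⟩
        · exact ⟨i, by rw [nsmul_add, nsmul_add, hzero, hij, hzero, add_zero, add_zero]⟩
        · obtain ⟨i, hi⟩ : (seg co.n r k).Nonempty := Finset.card_pos.mp (by rw [card_seg _ hkm]; omega)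
          refine ⟨i, ?_⟩
          rw [usum, Finset.smul_sum]
          refine Finset.sum_eq_zero fun l hl => ?_
          rw [(Finset.mem_filter.mp hi).2.1, ← (Finset.mem_filter.mp hl).2.1]
          exact hzero l
      · exact ⟨i, hzero i⟩
    have : Fact (co.n i).Prime := ⟨co.prime i⟩
    exact ⟨i, addOrderOf_eq_prime hi (hne0 w hw)⟩
  have ha : ∀ w, a w ≠ 0 ↔ Col0 co.n w ∨ Col1 co.n w ∨ Col2 co.n w := by
    intro w
    simp only [a]
    split_ifs with h1 h2 h3 <;> simp_all
  refine ⟨u, ∑ w, co.comp c₀ a w, fun g hg hgv => ?_⟩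
  obtain ⟨h0, hw⟩ := co.comp_map hu hc₀ a hg hgv
  obtain ⟨hgC, hY⟩ := hctl g hg h0
  let Mh := AddMonoidHom.mk' (co.M g) (co.M_add hg)
  have hMo : ∀ w, ord (co.M g w) = ord w := fun w =>
    addOrderOf_injective Mh (co.M_injective hg) w
  -- the invariant
  have step : ∀ w, a w ≠ 0 → a (co.M g w) ≠ 0 ∧
      a (co.M g w) ^ L w * χL (co.M g w) = a w ^ L w * χL w ∧
      a w • g • co.r w • u = a (co.M g w) • co.r (co.M g w) • u := by
    intro w hw'
    have hcol := (ha w).mp hw'
    obtain ⟨hMne, h⟩ := hw w (hne0 w hcol)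
    rw [S.gen g hgC] at h
    set r := co.r w
    set r' := co.r (co.M g w) with hr'
    set A' := a (co.M g w) with hA'
    have hne' : A' ≠ 0 := fun h' => by
      rw [h', zero_smul, smul_eq_zero, or_iff_right hw', smul_eq_zero_iff_eq] at h
      exact co.translate_ne hu w h
    refine ⟨hne', ?_, h⟩
    set k := (a w)⁻¹ * A'
    have hk : g • r • u = k • r' • u := by
      rw [← smul_smul, ← h, inv_smul_smul₀ hw']
    set x := r'⁻¹ * (g * r * g⁻¹) with hx
    have hxB : x ∈ S.B := mul_mem (inv_mem (co.mem _)) (S.B_normal.conj_mem _ (co.mem w) g)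
    have hxu : x • u = k • u := by
      have hg' : g⁻¹ • u = u := inv_smul_eq_iff.mpr hg.symm
      rw [hx, mul_smul, mul_smul, mul_smul, hg', hk, S.C_linear (S.B_le_C (inv_mem (co.mem _))),
        inv_smul_smul]
    have hxX : x ∈ S.X u := ⟨hxB, k, hxu⟩
    obtain ⟨i, hi⟩ := hord w hcol
    have hLd : ord w ∣ L w := by
      simp only [L]; split_ifs with h2
      · rw [h2]; norm_num
      · exact dvd_rfl
    have hpowA : ∀ v, ord v = ord w → co.r v ^ L w ∈ S.A := by
      intro v hv
      obtain ⟨m, hm⟩ := hLd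
      rw [hm, pow_mul]
      exact pow_mem (co.rep_pow v _ (hi ▸ co.prime i) (hv ▸ addOrderOf_nsmul_eq_zero v)) m
    have hcm : ⁅x, r'⁆ ^ (L w).choose 2 = 1 := by
      have h1 : ⁅x, r'⁆ ^ ord w = 1 := by
        rw [← S.comm_pow hxB (co.mem _)]
        exact commutatorElement_eq_one_iff_mul_comm.mpr
          (S.A_central (co.rep_pow _ _ (hi ▸ co.prime i)
            (hMo w ▸ addOrderOf_nsmul_eq_zero (co.M g w))) (S.B_le_C hxB)).symm
      obtain ⟨m, hm⟩ : ord w ∣ (L w).choose 2 := by
        simp only [L]; split_ifs with h2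
        · rw [h2]; decide
        · exact (hi ▸ co.prime i : (ord w).Prime).dvd_choose_self two_ne_zero
            (lt_of_le_of_ne (hi ▸ co.prime i : (ord w).Prime).two_le (Ne.symm h2))
      rw [hm, pow_mul, h1, one_pow]
    have key : r ^ L w = r' ^ L w * x ^ L w := by
      have e : (r' * x) ^ L w = g * r ^ L w * g⁻¹ := by
        rw [hx, mul_inv_cancel_left, conj_pow]
      rw [S.mul_pow_comm (co.mem _) hxB, hcm, mul_one] at e
      rw [e, show g * r ^ L w = r ^ L w * g from (S.A_central (hpowA w rfl) hgC).symm,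
        mul_inv_cancel_right]
    have hxL : ∀ m : ℕ, (x ^ m) • u = k ^ m • u := by
      intro m
      induction m with
      | zero => simp
      | succ m ih =>
        rw [pow_succ', mul_smul, ih, S.C_linear (S.B_le_C hxB), hxu, smul_smul, ← pow_succ]
    have e2 : χL w = k ^ L w * χL (co.M g w) := by
      refine smul_left_injective K hu ?_
      show χL w • u = (k ^ L w * χL (co.M g w)) • u
      have hL' : L (co.M g w) = L w := by simp only [L, hMo w]
      simp only [χL]
      rw [← S.χ'_spec (hpowA w rfl), key, mul_smul, hxL, hL',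
        S.C_linear (S.B_le_C (pow_mem (co.mem _) _)), S.χ'_spec (hpowA _ (hMo w)), smul_smul]
    rw [e2, mul_pow, inv_pow]
    field_simp
  -- labels
  let lab : ((i : Fin co.d) → ZMod (co.n i)) → ℕ := fun w =>
    if Col0 co.n w then 0 else if Col1 co.n w then 1 else 2
  have hlab : ∀ w, a w ≠ 0 → a w = t w * θ ^ lab w ∧ (lab w = 2 → ord w = 2) := by
    intro w h'
    have hc := (ha w).mp h'
    simp only [a, lab]
    split_ifs with h1 h2 h3
    · simp
    · simp
    · obtain ⟨i, h2i, -, rfl⟩ := h3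
      exact ⟨rfl, fun _ => (hordsingle i).trans h2i⟩
    · simp_all
  have same : ∀ w, a w ≠ 0 → a (co.M g w) ≠ 0 ∧ lab (co.M g w) = lab w := by
    intro w hw'
    obtain ⟨hne', heq, -⟩ := step w hw'
    refine ⟨hne', ?_⟩
    obtain ⟨e1, l1⟩ := hlab w hw'
    obtain ⟨e2, l2⟩ := hlab _ hne'
    rw [hMo] at l2
    have hL' : L (co.M g w) = L w := by simp only [L, hMo w]
    rw [e1, e2, mul_pow, mul_pow] at heq
    have hset : {x : K | ∃ s : K, s ≠ 0 ∧ x = s ^ L (co.M g w) * χL (co.M g w)} =
        {x : K | ∃ s : K, s ≠ 0 ∧ x = s ^ L w * χL w} := by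
      have hθl : ∀ l : ℕ, θ ^ l ≠ 0 := fun l => pow_ne_zero _ hθ0
      have eq1 : χL (co.M g w) = ((t w * θ ^ lab w) / (t (co.M g w) * θ ^ lab (co.M g w))) ^ L w * χL w := by
        rw [div_pow, mul_pow, mul_pow, div_mul_eq_mul_div, eq_div_iff
          (mul_ne_zero (pow_ne_zero _ (ht0 _)) (pow_ne_zero _ (hθl _))), mul_comm]
        exact heq
      have hs0 : (t w * θ ^ lab w) / (t (co.M g w) * θ ^ lab (co.M g w)) ≠ 0 :=
        div_ne_zero (mul_ne_zero (ht0 _) (hθl _)) (mul_ne_zero (ht0 _) (hθl _))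
      set q := (t w * θ ^ lab w) / (t (co.M g w) * θ ^ lab (co.M g w))
      ext z
      constructor
      · rintro ⟨s, hs, rfl⟩
        exact ⟨s * q, mul_ne_zero hs hs0, by rw [hL', eq1, mul_pow]; ring⟩
      · rintro ⟨s, hs, rfl⟩
        refine ⟨s / q, div_ne_zero hs hs0, ?_⟩
        rw [hL', eq1, div_pow]
        field_simp
    have hsome : (hP (co.M g w)).some = (hP w).some := by
      have : ∀ (P Q : Set K) (hPn : P.Nonempty) (hQn : Q.Nonempty), P = Q → hPn.some = hQn.some := by
        rintro P Q hPn hQn rfl; rfl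
      exact this _ _ _ _ hset
    have e3 := (ht (co.M g w)).symm.trans (hsome.trans (ht w))
    rw [hL'] at e3
    have hχ0 : χL w ≠ 0 := by
      obtain ⟨i, hi⟩ := hord w ((ha w).mp hw')
      refine S.χ'_ne ?_
      have hp := co.rep_pow w _ (show (ord w).Prime by rw [hi]; exact co.prime i) (addOrderOf_nsmul_eq_zero w)
      simp only [L]; split_ifs with h2
      · rw [show (4 : ℕ) = ord w * 2 by rw [h2], pow_mul]; exact pow_mem hp 2
      · exact hp
    have e4 : (θ ^ lab (co.M g w)) ^ L w = (θ ^ lab w) ^ L w := by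
      have hh : (θ ^ lab (co.M g w)) ^ L w * (t w ^ L w * χL w) =
          (θ ^ lab w) ^ L w * (t w ^ L w * χL w) := by
        calc _ = (θ ^ lab (co.M g w)) ^ L w * (t (co.M g w) ^ L w * χL (co.M g w)) := by rw [e3]
          _ = (t w ^ L w * (θ ^ lab w) ^ L w) * χL w := by rw [← heq]; ring
          _ = _ := by ring
      exact mul_right_cancel₀ (mul_ne_zero (pow_ne_zero _ (ht0 w)) hχ0) hh
    rw [← pow_mul, ← pow_mul] at e4
    obtain ⟨i, hi⟩ := hord w ((ha w).mp hw')
    have hle : ∀ v, lab v ≤ 2 := fun v => by simp only [lab]; split_ifs <;> omega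
    have hlt : ∀ l l' : ℕ, l < l' → l' ≤ 2 → (l' = 2 → ord w = 2) →
        θ ^ (l * L w) = θ ^ (l' * L w) → False := by
      intro l l' hll h2 h2' e
      obtain ⟨j, rfl⟩ : ∃ j, l' = l + j := ⟨l' - l, by omega⟩
      rw [add_mul, pow_add] at e
      have hd := generator_dvd hθ (mul_left_cancel₀ (pow_ne_zero _ hθ0) (e.symm.trans (mul_one _).symm))
      by_cases ho : ord w = 2
      · have : L w = 4 := if_pos ho
        rw [this] at hd
        refine hbig i (hi ▸ ho) (hd.trans ?_)
        rcases (by omega : j = 1 ∨ j = 2) with rfl | rfl <;> norm_num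
      · have hj : j = 1 := by
          have : l + j ≠ 2 := fun h' => ho (h2' h')
          omega
        rw [hj, one_mul, show L w = ord w from if_neg ho] at hd
        obtain ⟨m, hm⟩ : 2 ∣ ord w := hodd.trans hd
        exact ho (((Nat.prime_dvd_prime_iff_eq Nat.prime_two (hi ▸ co.prime i)).mp
          (hodd.trans hd)).symm)
    rcases lt_trichotomy (lab (co.M g w)) (lab w) with h' | h' | h'
    · exact (hlt _ _ h' (hle _) l1 e4).elim
    · exact h'
    · exact (hlt _ _ h' (hle _) l2 e4.symm).elim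
  -- units go to units
  have hsingle : ∀ i, Col0 co.n (Pi.single i 1) ∨ Col2 co.n (Pi.single i 1) := fun i => by
    by_cases h : co.n i = 2 ∧ rank co.n i = 0
    · exact Or.inr ⟨i, h.1, h.2, rfl⟩
    · exact Or.inl ⟨i, fun h2 hr => h ⟨h2, hr⟩, rfl⟩
  have hkind : ∀ w, (Col1 co.n w → Col1 co.n (co.M g w)) ∧
      (Col0 co.n w → Col0 co.n (co.M g w)) ∧ (Col2 co.n w → Col2 co.n (co.M g w)) := by
    intro w
    refine ⟨fun h => ?_, fun h => ?_, fun h => ?_⟩
    all_goals
      obtain ⟨hne', hl⟩ := same w ((ha w).mpr (by tauto))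
      have hc := (ha _).mp hne'
      simp only [lab] at hl
    · have h0' : ¬ Col0 co.n w := fun ⟨l, _, e⟩ => col_ne_single co.prime h l e
      rw [if_neg h0', if_pos h] at hl
      split_ifs at hl with a1 a2
      all_goals first | exact a2 | omega
    · rw [if_pos h] at hl
      split_ifs at hl with a1 a2
      exact a1
    · obtain ⟨l, h2l, hrl, rfl⟩ := h
      have h0' : ¬ Col0 co.n (Pi.single l 1) := by
        rintro ⟨l', hl', e⟩
        have : l = l' := by
          by_contra hne''
          simpa [hne''] using congrFun e l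
        subst this
        exact hl' h2l hrl
      have h1' : ¬ Col1 co.n (Pi.single l 1) := fun h' => col_ne_single co.prime h' l rfl
      rw [if_neg h0', if_neg h1'] at hl
      split_ifs at hl with a1 a2
      all_goals tauto
  have hπex : ∀ i, ∃ j, co.M g (Pi.single i 1) = Pi.single j 1 := fun i => by
    rcases hsingle i with h | h
    · obtain ⟨j, -, hj⟩ := (hkind _).2.1 h; exact ⟨j, hj⟩
    · obtain ⟨j, -, -, hj⟩ := (hkind _).2.2 h; exact ⟨j, hj⟩
  choose π hπ using hπex
  have hsne : ∀ i j : Fin co.d,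
      (Pi.single i 1 : (k : Fin co.d) → ZMod (co.n k)) = Pi.single j 1 → i = j := fun i j h => by
    by_contra hne
    simpa [hne] using congrFun h i
  have hπinj : Function.Injective π := fun i j h =>
    hsne _ _ (co.M_injective hg (by rw [hπ, hπ, h]))
  have hMs : ∀ T : Finset (Fin co.d), co.M g (usum co.n T) = usum co.n (T.image π) := fun T => by
    show Mh (usum co.n T) = _
    rw [usum, usum, map_sum, Finset.sum_image fun a _ b _ h => hπinj h]
    exact Finset.sum_congr rfl fun i _ => hπ i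
  have hfix : ∀ i, π i = i := colours_fix co.prime π hπinj
    (fun i => by rw [← hordsingle, ← hπ, hMo, hordsingle])
    (fun i h2 hr => by
      obtain ⟨j, -, hrj, hj⟩ := (hkind _).2.2 ⟨i, h2, hr, rfl⟩
      rw [hπ] at hj
      rwa [hsne _ _ hj])
    (fun i j h => by
      have := (hkind _).1 h
      rwa [co.M_add hg, hπ, hπ] at this)
    (fun i j h => by
      have := (hkind _).1 h
      rwa [co.M_add hg, co.M_add hg, hπ, hπ] at this)
    (fun T h => by
      have := (hkind _).1 h
      rwa [hMs] at this)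
  have hMid : ∀ w, co.M g w = w := by
    intro w
    show Mh w = AddMonoidHom.id _ w
    congr 1
    refine AddMonoidHom.functions_ext' _ _ _ fun i => ?_
    refine AddMonoidHom.ext fun x => ?_
    rw [AddMonoidHom.comp_apply, AddMonoidHom.comp_apply, AddMonoidHom.single_apply,
      AddMonoidHom.id_apply, show (Pi.single i x : (l : Fin co.d) → ZMod (co.n l)) = x.val • Pi.single i 1 by
        rw [← Pi.single_smul, nsmul_one, ZMod.natCast_zmod_val], map_nsmul,
      show Mh (Pi.single i 1) = Pi.single i 1 from (hπ i).trans (by rw [hfix i])]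
  have hcolfix : ∀ w, Col0 co.n w ∨ Col1 co.n w ∨ Col2 co.n w →
      g • co.r w • u = co.r w • u := by
    intro w hc
    obtain ⟨-, -, h⟩ := step w ((ha w).mpr hc)
    rw [hMid] at h
    exact smul_right_injective V ((ha w).mpr hc) h
  have hunit : ∀ i, g • co.r (Pi.single i 1) • u = co.r (Pi.single i 1) • u := fun i =>
    hcolfix _ ((hsingle i).elim Or.inl fun h => Or.inr (Or.inr h))
  refine co.finish hC hu hgC hg hY (Set.range fun i => Pi.single i 1) ?_
    (by rintro _ ⟨i, rfl⟩; exact hunit i) ?_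
  · rw [eq_top_iff]
    intro w _
    rw [← Finset.univ_sum_single w]
    refine sum_mem fun i _ => ?_
    rw [show (Pi.single i (w i) : (j : Fin co.d) → ZMod (co.n j)) = (w i).val • Pi.single i 1 by
      rw [← Pi.single_smul, nsmul_one, ZMod.natCast_zmod_val]]
    exact nsmul_mem (AddSubgroup.subset_closure (Set.mem_range_self (f := fun i => (Pi.single i 1 : (l : Fin co.d) → ZMod (co.n l))) i)) _
  rintro _ ⟨i, rfl⟩
  set P := AddSubgroup.closure
      {y | ∃ b ∈ S.B, co.f b = y ∧
        Commute ((co.r (Pi.single i 1))⁻¹ * (g * co.r (Pi.single i 1) * g⁻¹)) b}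
  have hmem : ∀ y, Col0 co.n y ∨ Col1 co.n y ∨ Col2 co.n y →
      (Pi.single i 1 + y = 0 ∨ Col1 co.n (Pi.single i 1 + y)) → y ∈ P := by
    intro y hy hiy
    refine AddSubgroup.subset_closure (co.commute_of_fixed hu hg hY (hunit i) (hcolfix y hy) ?_)
    rcases hiy with h | h
    · rw [h, co.rep_zero, one_smul, hg]
    · exact hcolfix _ (Or.inr (Or.inl h))
  have hcolj : ∀ j, Col0 co.n (Pi.single j 1) ∨ Col1 co.n (Pi.single j 1) ∨ Col2 co.n (Pi.single j 1) :=
    fun j => (hsingle j).elim Or.inl fun h => Or.inr (Or.inr h)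
  have hPj : ∀ j, Pi.single j 1 ∈ P := by
    intro j
    by_cases hne : co.n i = co.n j
    swap
    · exact AddSubgroup.subset_closure (co.commute_of_coprime hu hgC hg
        ((Nat.coprime_primes (co.prime i) (co.prime j)).mpr hne) (co.prime i) (co.prime j)
        (hzero i) (hzero j) (hunit i) (hunit j))
    by_cases hd : co.n i = 2 ∧ i = j
    · obtain ⟨h2, rfl⟩ := hd
      refine hmem _ (hcolj i) (Or.inl ?_)
      rw [← two_nsmul, ← h2]
      exact hzero i
    by_cases hsp : co.n i = 2 ∧ ((rank co.n i = 0 ∧ rank co.n j = 2) ∨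
        (rank co.n i = 2 ∧ rank co.n j = 0))
    swap
    · refine hmem _ (hcolj j) (Or.inr (Or.inl ⟨i, j, hne, fun h2 => ?_, rfl⟩))
      exact ⟨fun e => hd ⟨h2, e⟩, fun e => hsp ⟨h2, Or.inl e⟩, fun e => hsp ⟨h2, Or.inr e⟩⟩
    obtain ⟨h2, hsp⟩ := hsp
    have hm3 : 3 ≤ mult co.n 2 := by
      rcases hsp with h | h
      · have := rank_lt_mult co.n j; rw [← hne, h2] at this; omega
      · have := rank_lt_mult co.n i; rw [h2] at this; omega
    obtain ⟨k, hk, hkr⟩ := exists_rank co.n (r := 2) (k := 1) (by omega)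
    have hik : i ≠ k := fun e => by rw [← e] at hkr; omega
    have hjk : j ≠ k := fun e => by rw [← e] at hkr; omega
    have hij : i ≠ j := fun e => hd ⟨h2, e⟩
    have hpair : ∀ a b : Fin co.d, co.n a = 2 → co.n b = 2 → a ≠ b →
        (rank co.n a = 1 ∨ rank co.n b = 1) → Col1 co.n (Pi.single a 1 + Pi.single b 1) :=
      fun a b ha' hb' hab' hr => Or.inl ⟨a, b, ha'.trans hb'.symm,
        fun _ => ⟨hab', fun e => by omega, fun e => by omega⟩, rfl⟩
    have hj2 : co.n j = 2 := hne.symm.trans h2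
    have hk' : Pi.single k 1 ∈ P :=
      hmem _ (hcolj k) (Or.inr (hpair i k h2 hk hik (Or.inr hkr)))
    have hseg : seg co.n 2 3 = {i, k, j} := by
      refine (Finset.eq_of_subset_of_card_le ?_ ?_).symm
      · intro l hl
        simp only [Finset.mem_insert, Finset.mem_singleton] at hl
        refine Finset.mem_filter.mpr ⟨Finset.mem_univ _, ?_⟩
        rcases hl with rfl | rfl | rfl
        · exact ⟨h2, by omega⟩
        · exact ⟨hk, by omega⟩
        · exact ⟨hj2, by omega⟩
      · rw [card_seg _ hm3, Finset.card_insert_of_notMem (by simp [hik, hij]),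
          Finset.card_pair (Ne.symm hjk)]
    have hy := hmem (Pi.single k 1 + Pi.single j 1)
      (Or.inr (Or.inl (hpair k j hk hj2 (Ne.symm hjk) (Or.inl hkr))))
      (Or.inr (Or.inr (Or.inr ⟨2, 3, le_rfl, hm3, by
        rw [hseg, usum, Finset.sum_insert (by simp [hik, hij]), Finset.sum_pair (Ne.symm hjk)]⟩)))
    have := P.sub_mem hy hk'
    simpa using this
  rw [eq_top_iff]
  intro w _
  rw [← Finset.univ_sum_single w]
  refine sum_mem fun j _ => ?_
  rw [show (Pi.single j (w j) : (l : Fin co.d) → ZMod (co.n l)) = (w j).val • Pi.single j 1 by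
    rw [← Pi.single_smul, nsmul_one, ZMod.natCast_zmod_val]]
  exact nsmul_mem (hPj j) _

end Coords

end Setup

end CfsgLib.BaseThree
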