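import Cfsg.Agent.Lib.BaseCoprime.Primitive
import Cfsg.Agent.Lib.BaseCoprime.Colour3
import Cfsg.Agent.Lib.BaseTwo.Main
/-
Two vectors with trivial common stabiliser for a solvable group acting completely reducibly on a
module of coprime order.
-/
set_option autoImplicit false
set_option linter.unusedSectionVars false

universe u

namespace CfsgLib.BaseThree

open CfsgLib.BaseTwo (IsCR IsIrr subAction)

/-- two vectors exist for all smaller modules of coprime order -/
def PairBelow (n : ℕ) : Prop :=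
  ∀ (A V : Type u) [Group A] [Finite A] [AddCommGroup V] [Finite V] [DistribMulAction A V],
    Group.IsSolvable A → IsCR A V → (Nat.card A).Coprime (Nat.card V) → Nat.card V < n →
      ∃ v w : V, ∀ a : A, a • v = v → a • w = w → ∀ x : V, a • x = x

section

variable {A V ι : Type u} [Group A] [Finite A] [AddCommGroup V] [Finite V] [DistribMulAction A V]

theorem PairBelow.sub {n : ℕ} (h : PairBelow.{u} n) (hs : Group.IsSolvable A)
    (hcop : (Nat.card A).Coprime (Nat.card V))
    (U : AddSubgroup V) (hU : ∀ a : A, ∀ v ∈ U, a • v ∈ U)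
    (hcr : ∀ X : AddSubgroup V, X ≤ U → (∀ a : A, ∀ v ∈ X, a • v ∈ X) →
      ∃ Y : AddSubgroup V, Y ≤ U ∧ (∀ a : A, ∀ v ∈ Y, a • v ∈ Y) ∧ X ⊓ Y = ⊥ ∧ X ⊔ Y = U)
    (hlt : Nat.card U < n) :
    ∃ v ∈ U, ∃ w ∈ U, ∀ a : A, a • v = v → a • w = w → ∀ x ∈ U, a • x = x := by
  let : DistribMulAction A U := subAction U hU
  have hc : IsCR A U := by
    intro X hX
    obtain ⟨Y, hYU, hY, hinf, hsup⟩ := hcr (X.map U.subtype)
      (by rintro _ ⟨x, -, rfl⟩; exact x.2)
      (by rintro a _ ⟨x, hx, rfl⟩; exact ⟨a • x, hX a x hx, rfl⟩)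
    refine ⟨Y.comap U.subtype, fun a w hw => hY a _ hw, ?_, ?_⟩
    · rw [eq_bot_iff]
      rintro x ⟨hx, hy⟩
      have : (x : V) ∈ X.map U.subtype ⊓ Y := ⟨⟨x, hx, rfl⟩, hy⟩
      rw [hinf, AddSubgroup.mem_bot] at this
      exact AddSubgroup.mem_bot.mpr (Subtype.ext this)
    · rw [eq_top_iff]
      intro x _
      have hx : (x : V) ∈ X.map U.subtype ⊔ Y := by rw [hsup]; exact x.2
      obtain ⟨_, ⟨a, ha, rfl⟩, b, hb, hab⟩ := AddSubgroup.mem_sup.mp hx
      exact AddSubgroup.mem_sup.mpr ⟨a, ha, ⟨b, hYU hb⟩, hb, Subtype.ext hab⟩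
  obtain ⟨v, w, hvw⟩ := h A U hs hc
    (Nat.Coprime.coprime_dvd_right (AddSubgroup.card_addSubgroup_dvd_card U) hcop) hlt
  exact ⟨v, v.2, w, w.2, fun a ha hb x hx =>
    congrArg Subtype.val (hvw a (Subtype.ext ha) (Subtype.ext hb) ⟨x, hx⟩)⟩

/-- imprimitive case -/
theorem pair_of_blocks [Fintype ι] [MulAction A ι] (hs : Group.IsSolvable A)
    (hcop : (Nat.card A).Coprime (Nat.card V)) (hodd : ¬ 2 ∣ Nat.card V)
    (hb : PairBelow.{u} (Nat.card V)) (hirr : IsIrr A V) [Nontrivial ι] [MulAction.IsPretransitive A ι]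
    (π : ι → V →+ V) (hidem : ∀ i j v, i ≠ j → π j (π i v) = 0)
    (hsum : ∀ v, ∑ i, π i v = v) (hne : ∀ i, ∃ v, π i v ≠ 0)
    (hconj : ∀ (a : A) i v, π (a • i) (a • v) = a • π i v) :
    ∃ v w : V, ∀ a : A, a • v = v → a • w = w → ∀ x : V, a • x = x := by
  classical
  have hpp : ∀ i v, π i (π i v) = π i v := by
    intro i v
    have h := hsum (π i v)
    rw [Finset.sum_eq_single i (fun j _ hj => hidem i j v (Ne.symm hj)) (by simp)] at h
    exact h
  obtain ⟨i0⟩ := (inferInstance : Nonempty ι)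
  let U : AddSubgroup V := (π i0).range
  have hUmem : ∀ x, x ∈ U ↔ π i0 x = x := fun x => ⟨by rintro ⟨v, rfl⟩; exact hpp _ _, fun h => ⟨x, h⟩⟩
  let S : Subgroup A := MulAction.stabilizer A i0
  have hU : ∀ a : S, ∀ v ∈ U, a • v ∈ U := by
    intro a v hv
    rw [hUmem] at hv ⊢
    have := hconj (a : A) i0 v
    rw [show (a : A) • i0 = i0 from a.2, hv] at this
    exact this
  obtain ⟨j0, hj0⟩ := exists_ne i0
  have hUlt : Nat.card U < Nat.card V := by
    refine lt_of_le_of_ne (Nat.card_le_card_of_injective _ Subtype.val_injective) fun h => ?_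
    have htop := AddSubgroup.eq_top_of_card_eq U h
    obtain ⟨v, hv⟩ := hne j0
    have hv' : π i0 (π j0 v) = π j0 v := (hUmem _).mp (by rw [htop]; trivial)
    exact hv (by rw [← hv', hidem j0 i0 v hj0])
  -- the stabiliser is irreducible on a block
  have hUirr : ∀ X : AddSubgroup V, X ≤ U → (∀ a : S, ∀ v ∈ X, a • v ∈ X) → X = ⊥ ∨ X = U := by
    intro X hXU hX
    let Y : AddSubgroup V := AddSubgroup.closure (⋃ a : A, (fun x => a • x) '' (X : Set V))
    have hYinv : ∀ a : A, ∀ v ∈ Y, a • v ∈ Y := by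
      intro a v hv
      induction hv using AddSubgroup.closure_induction with
      | mem x hx =>
          obtain ⟨b, y, hy, rfl⟩ := Set.mem_iUnion.mp hx
          exact AddSubgroup.subset_closure (Set.mem_iUnion.mpr ⟨a * b, y, hy, mul_smul a b y⟩)
      | zero => rw [smul_zero]; exact zero_mem _
      | add x y _ _ ih1 ih2 => rw [smul_add]; exact add_mem ih1 ih2
      | neg x _ ih => rw [smul_neg]; exact neg_mem ih
    rcases hirr Y hYinv with hY | hY
    · left
      rw [eq_bot_iff]
      intro x hx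
      rw [← hY]
      exact AddSubgroup.subset_closure (Set.mem_iUnion.mpr ⟨1, x, hx, one_smul A x⟩)
    · right
      refine le_antisymm hXU fun u hu => ?_
      have key : ∀ y ∈ Y, π i0 y ∈ X := by
        intro y hy
        induction hy using AddSubgroup.closure_induction with
        | mem x hx =>
            obtain ⟨b, z, hz, rfl⟩ := Set.mem_iUnion.mp hx
            have hz' : π i0 z = z := (hUmem z).mp (hXU hz)
            by_cases hbi : b • i0 = i0
            · have := hconj b i0 z
              rw [hbi, hz'] at this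
              dsimp only
              rw [this]
              exact hX ⟨b, hbi⟩ z hz
            · have h1 : π (b • i0) (b • z) = b • z := by rw [hconj, hz']
              dsimp only
              rw [← h1, hidem _ _ _ hbi]; exact zero_mem _
        | zero => rw [map_zero]; exact zero_mem _
        | add x y _ _ h1 h2 => rw [map_add]; exact add_mem h1 h2
        | neg x _ h1 => rw [map_neg]; exact neg_mem h1
      rw [← (hUmem u).mp hu]
      exact key u (by rw [hY]; trivial)
  have hcrU : ∀ X : AddSubgroup V, X ≤ U → (∀ a : S, ∀ v ∈ X, a • v ∈ X) →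
      ∃ Y : AddSubgroup V, Y ≤ U ∧ (∀ a : S, ∀ v ∈ Y, a • v ∈ Y) ∧ X ⊓ Y = ⊥ ∧ X ⊔ Y = U := by
    intro X hXU hX
    rcases hUirr X hXU hX with rfl | rfl
    · exact ⟨U, le_rfl, hU, bot_inf_eq _, bot_sup_eq _⟩
    · exact ⟨⊥, bot_le, fun a v hv => by rw [AddSubgroup.mem_bot] at hv ⊢; rw [hv, smul_zero],
        inf_bot_eq _, sup_bot_eq _⟩
  have hcopS : (Nat.card S).Coprime (Nat.card V) :=
    Nat.Coprime.coprime_dvd_left (Subgroup.card_subgroup_dvd_card S) hcop
  obtain ⟨v1, hv1, w1, hw1, h1⟩ := hb.sub (A := S) inferInstance hcopS U hU hcrU hUlt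
  have : Nontrivial V := by
    obtain ⟨z, hz⟩ := hne i0
    exact ⟨⟨π i0 z, 0, hz⟩⟩
  obtain ⟨p, k, hp, hexp, hcardV, hk⟩ := exists_prime_exponent hirr
  have hpV : p ∣ Nat.card V := hcardV ▸ dvd_pow_self _ hk.ne'
  have hp3 : 3 ≤ p := by
    have := hp.two_le
    rcases (show p = 2 ∨ 3 ≤ p by omega) with e | e
    · exact absurd (e ▸ hpV) hodd
    · exact e
  obtain ⟨v, hv, hv0, w, hw, hpair⟩ : ∃ v ∈ U, v ≠ 0 ∧ ∃ w ∈ U,
      ∀ a : S, a • v = v → a • w = w → ∀ x ∈ U, a • x = x := by
    by_cases h : v1 = 0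
    · by_cases h' : w1 = 0
      · obtain ⟨z, hz⟩ := hne i0
        exact ⟨π i0 z, ⟨z, rfl⟩, hz, 0, zero_mem _, fun a _ _ => h1 a (by rw [h, smul_zero])
          (by rw [h', smul_zero])⟩
      · exact ⟨w1, hw1, h', v1, hv1, fun a ha hb' => h1 a hb' ha⟩
    · exact ⟨v1, hv1, h, w1, hw1, h1⟩
  -- the translates of the second vector along the first are inequivalent
  let t : ℕ → V := fun i => w + i • v
  have ht : ∀ i, t i ∈ U := fun i => U.add_mem hw (U.nsmul_mem hv i)
  have hinequiv : ∀ (a : S) (i j : Fin p), a • v = v → a • t i = t j →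
      i = j ∧ ∀ x ∈ U, a • x = x := by
    intro a i j ha hij
    have hn : ∀ n : ℕ, a ^ n • v = v ∧ a ^ n • w + n • i.val • v = w + n • j.val • v := by
      intro n
      induction n with
      | zero => simp
      | succ n ih =>
        have hfix : ∀ m : ℕ, a • (m • v) = m • v := fun m => by
          induction m with
          | zero => simp
          | succ m ihm => rw [succ_nsmul, smul_add, ihm, ha]
        refine ⟨by rw [pow_succ', mul_smul, ih.1, ha], ?_⟩
        have h2 := congrArg (fun z => a • z) ih.2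
        simp only [smul_add, ← mul_smul, ← pow_succ'] at h2
        rw [hfix, hfix, mul_smul, mul_smul] at h2
        have h3 : a • w + i.val • v = w + j.val • v := by
          have := hij
          simp only [t, smul_add, hfix] at this
          exact this
        rw [succ_nsmul, succ_nsmul, ← add_assoc, ← add_assoc, h2, add_right_comm, h3, add_right_comm]
    obtain ⟨e1, e2⟩ := hn p
    rw [hexp, hexp, add_zero, add_zero] at e2
    have hU0 := hpair _ e1 e2
    obtain ⟨m, hm⟩ := exists_pow_eq_self_of_coprime (Nat.Coprime.coprime_dvd_right (orderOf_dvd_natCard a)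
      (Nat.Coprime.coprime_dvd_right hpV hcopS).symm)
    have hall : ∀ x ∈ U, a • x = x := by
      intro x hx
      have hfx : ∀ j : ℕ, (a ^ p) ^ j • x = x := fun j => by
        induction j with
        | zero => simp
        | succ j ih => rw [pow_succ, mul_smul, hU0 x hx, ih]
      rw [← hm]; exact hfx m
    refine ⟨?_, hall⟩
    have h3 := hij
    rw [hall _ (ht i)] at h3
    have h4 : i.val • v = j.val • v := add_left_cancel h3
    have : Fact p.Prime := ⟨hp⟩
    have hord : addOrderOf v = p := addOrderOf_eq_prime (hexp v) hv0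
    rw [nsmul_eq_nsmul_iff_modEq, hord] at h4
    exact Fin.ext (Nat.ModEq.eq_of_lt_of_lt h4 i.2 j.2)
  obtain ⟨col, hcol⟩ : ∃ col : ι → Fin p,
      ∀ a : A, (∀ i, col (a • i) = col i) → ∀ i : ι, a • i = i := by
    by_cases h3 : p = 3
    · subst h3
      obtain ⟨c, hc⟩ := colour_three A ι hs ((Nat.prime_three.coprime_iff_not_dvd).mp
        (Nat.Coprime.coprime_dvd_right hpV hcop).symm)
      exact ⟨c, hc⟩
    · have hp5 : 5 ≤ p := by
        rcases (show p = 4 ∨ 5 ≤ p by omega) with e | e
        · rw [e] at hp; norm_num at hp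
        · exact e
      obtain ⟨c, hc⟩ := colour_aux (Nat.card ι + 1) (below _) _ (Nat.lt_succ_self _) A ι hs rfl
      exact ⟨fun i => Fin.castLE hp5 (c 0 i), fun a ha =>
        (hc a 0 0 fun i => Fin.castLE_injective hp5 (ha i)).2⟩
  choose g hgi using fun i : ι => MulAction.exists_smul_eq A i0 i
  have comp : ∀ (c : ι → V), (∀ i, c i ∈ U) → ∀ j, π j (∑ i, g i • c i) = g j • c j := by
    intro c hc j
    have hbl : ∀ i, π i (g i • c i) = g i • c i := by
      intro i
      have := hconj (g i) i0 (c i)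
      rwa [hgi, (hUmem _).mp (hc i)] at this
    rw [map_sum, Finset.sum_eq_single j (fun i _ hi => by rw [← hbl i, hidem i j _ hi]) (by simp)]
    exact hbl j
  refine ⟨∑ i, g i • v, ∑ i, g i • t (col i), fun a ha hb' => ?_⟩
  let k : ι → S := fun i => ⟨(g (a • i))⁻¹ * a * g i, by
    show _ • i0 = i0
    rw [mul_smul, mul_smul, hgi, inv_smul_eq_iff, hgi]⟩
  have key : ∀ (c : ι → V), (∀ i, c i ∈ U) → a • (∑ i, g i • c i) = ∑ i, g i • c i →
      ∀ i, k i • c i = c (a • i) := by
    intro c hc hfix i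
    have h := congrArg (π (a • i)) hfix
    rw [hconj, comp _ hc, comp _ hc] at h
    show ((g (a • i))⁻¹ * a * g i) • c i = c (a • i)
    rw [mul_smul, mul_smul, h, inv_smul_smul]
  have hkv := key (fun _ => v) (fun _ => hv) ha
  have hkw := key (fun i => t (col i)) (fun i => ht _) hb'
  have hfixι : ∀ i : ι, a • i = i :=
    hcol a fun i => ((hinequiv (k i) _ _ (hkv i) (hkw i)).1).symm
  intro x
  conv_lhs => rw [← hsum x, Finset.smul_sum]
  conv_rhs => rw [← hsum x]
  refine Finset.sum_congr rfl fun i _ => ?_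
  have hkU : ∀ y ∈ U, k i • y = y := (hinequiv (k i) _ _ (hkv i) (hkw i)).2
  have hy : (g i)⁻¹ • π i x ∈ U := by
    rw [hUmem]
    have := hconj (g i)⁻¹ i (π i x)
    rwa [inv_smul_eq_iff.mpr (hgi i).symm, hpp] at this
  have h := hkU _ hy
  rw [Subgroup.smul_def] at h
  change ((g (a • i))⁻¹ * a * g i) • (g i)⁻¹ • π i x = (g i)⁻¹ • π i x at h
  rw [hfixι i, mul_smul, mul_smul, smul_inv_smul] at h
  exact MulAction.injective _ h

end

variable {V : Type u} [AddCommGroup V] [Finite V] [Nontrivial V]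

/-- the irreducible faithful case -/
theorem pair_of_irr (H : Subgroup (AddMonoid.End V)ˣ)
    (hsolv : Group.IsSolvable H) (hirr : IsIrr H V) (hcop : (Nat.card H).Coprime (Nat.card V))
    (hodd : ¬ 2 ∣ Nat.card V) (hb : PairBelow.{u} (Nat.card V)) :
    ∃ v w : V, ∀ h : H, h • v = v → h • w = w → ∀ x : V, h • x = x := by
  classical
  have := finite_units (V := V)
  have := finite_end (V := V)
  have : FaithfulSMul H V :=
    ⟨fun {g h} hgh => Subtype.ext (Units.ext (AddMonoidHom.ext hgh))⟩
  let As : Finset (Subgroup H) :=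
    (Set.toFinite {A : Subgroup H | A.Normal ∧ ∀ a ∈ A, ∀ b ∈ A, a * b = b * a}).toFinset
  have hne : As.Nonempty := ⟨⊥, (Set.Finite.mem_toFinset _).mpr ⟨inferInstance, fun a ha b hb' => by
    rw [Subgroup.mem_bot] at ha hb'; rw [ha, hb']⟩⟩
  obtain ⟨A, hA, hmax⟩ := Finset.exists_max_image As (fun A => Nat.card A) hne
  obtain ⟨hAn, hAc⟩ := (Set.Finite.mem_toFinset _).mp hA
  let T : Set (AddMonoid.End V) := (fun a : H => ((a : (AddMonoid.End V)ˣ) : AddMonoid.End V)) '' (A : Set H)
  let R : Subring (AddMonoid.End V) := Subring.closure T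
  have hTR : ∀ a ∈ A, ((a : (AddMonoid.End V)ˣ) : AddMonoid.End V) ∈ R :=
    fun a ha => Subring.subset_closure ⟨a, ha, rfl⟩
  have hRc : ∀ x ∈ R, ∀ y ∈ R, x * y = y * x := by
    have h1 : R ≤ Subring.centralizer T := by
      refine Subring.closure_le.mpr ?_
      rintro _ ⟨a, ha, rfl⟩
      rw [SetLike.mem_coe, Subring.mem_centralizer_iff]
      rintro _ ⟨b, hb', rfl⟩
      dsimp only
      rw [← Units.val_mul, ← Units.val_mul, ← Subgroup.coe_mul, ← Subgroup.coe_mul, hAc b hb' a ha]
    have h2 : R ≤ Subring.centralizer (R : Set (AddMonoid.End V)) := by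
      refine Subring.closure_le.mpr fun t ht => ?_
      rw [SetLike.mem_coe, Subring.mem_centralizer_iff]
      intro x hx
      exact (Subring.mem_centralizer_iff.mp (h1 hx) t ht).symm
    intro x hx y hy
    exact (Subring.mem_centralizer_iff.mp (h2 hy) x hx)
  let cj : H → AddMonoid.End V → AddMonoid.End V := fun h x =>
    ((h : (AddMonoid.End V)ˣ) : AddMonoid.End V) * x * (((h : (AddMonoid.End V)ˣ)⁻¹ : (AddMonoid.End V)ˣ) : AddMonoid.End V)
  have cj_mul : ∀ h x y, cj h (x * y) = cj h x * cj h y := fun h x y => by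
    simp [cj, mul_assoc]
  have cj_comp : ∀ g h x, cj (g * h) x = cj g (cj h x) := fun g h x => by
    simp [cj, mul_assoc]
  have cj_one : ∀ x, cj 1 x = x := fun x => by simp [cj]
  have cj_app : ∀ h x v, (cj h x) (h • v) = h • x v := fun h x v => by
    show ((h : (AddMonoid.End V)ˣ) : AddMonoid.End V) (x
      ((((h : (AddMonoid.End V)ˣ)⁻¹ : (AddMonoid.End V)ˣ) : AddMonoid.End V) (h • v))) = h • x v
    rw [show (((h : (AddMonoid.End V)ˣ)⁻¹ : (AddMonoid.End V)ˣ) : AddMonoid.End V) (h • v) = v from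
      inv_smul_smul h v]
    rfl
  have cjR : ∀ h, ∀ x ∈ R, cj h x ∈ R := by
    intro h x hx
    induction hx using Subring.closure_induction with
    | mem x hx =>
      obtain ⟨a, ha, rfl⟩ := hx
      have := hTR _ (hAn.conj_mem a ha h)
      simpa [cj] using this
    | zero => simp [cj]
    | one => simp [cj]
    | add x y _ _ h1 h2 => simpa [cj, mul_add, add_mul] using add_mem h1 h2
    | neg x _ h1 => simpa [cj] using neg_mem h1
    | mul x y _ _ h1 h2 => rw [cj_mul]; exact mul_mem h1 h2
  -- no nilpotent elements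
  have hred : ∀ x ∈ R, (∃ j : ℕ, x ^ j = 0) → x = 0 := by
    have hker : ∀ s : Finset (AddMonoid.End V), (∀ x ∈ s, x ∈ R ∧ ∃ j : ℕ, x ^ j = 0) →
        ∃ v : V, v ≠ 0 ∧ ∀ x ∈ s, x v = 0 := by
      intro s
      induction s using Finset.induction with
      | empty => intro _; obtain ⟨v, hv⟩ := exists_ne (0 : V); exact ⟨v, hv, fun _ h => by simp at h⟩
      | insert a s has ih =>
        intro hs
        obtain ⟨v, hv, hvs⟩ := ih fun x hx => hs x (Finset.mem_insert_of_mem hx)
        obtain ⟨haR, j, hj⟩ := hs a (Finset.mem_insert_self _ _)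
        have hex : ∃ i, (a ^ i) v = 0 := ⟨j, by rw [hj]; rfl⟩
        have hi0 : Nat.find hex ≠ 0 := fun h => by
          have := Nat.find_spec hex
          rw [h] at this
          exact hv (by simpa using this)
        obtain ⟨i, hi⟩ := Nat.exists_eq_succ_of_ne_zero hi0
        refine ⟨(a ^ i) v, Nat.find_min hex (by omega), fun x hx => ?_⟩
        rcases Finset.mem_insert.mp hx with rfl | hx
        · have := Nat.find_spec hex
          rw [hi, pow_succ'] at this
          exact this
        · show (x * a ^ i) v = 0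
          rw [hRc x (hs x (Finset.mem_insert_of_mem hx)).1 _ (pow_mem haR i)]
          show (a ^ i) (x v) = 0
          rw [hvs x hx, map_zero]
    let U : AddSubgroup V :=
      { carrier := {v | ∀ x ∈ R, (∃ j : ℕ, x ^ j = 0) → x v = 0}
        zero_mem' := fun x _ _ => map_zero x
        add_mem' := fun {a b} ha hb' x hx hn => by rw [map_add, ha x hx hn, hb' x hx hn, add_zero]
        neg_mem' := fun {a} ha x hx hn => by rw [map_neg, ha x hx hn, neg_zero] }
    have hU : ∀ h : H, ∀ v ∈ U, h • v ∈ U := by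
      intro h v hv x hx ⟨j, hj⟩
      have hpow : ∀ i : ℕ, cj h⁻¹ x ^ i = cj h⁻¹ (x ^ i) := by
        intro i
        induction i with
        | zero => simp [cj]
        | succ i ih => rw [pow_succ, ih, pow_succ, cj_mul]
      have h1 := hv (cj h⁻¹ x) (cjR _ _ hx) ⟨j, by rw [hpow, hj]; simp [cj]⟩
      have h2 := cj_app h (cj h⁻¹ x) v
      rwa [← cj_comp, mul_inv_cancel, cj_one, h1, smul_zero] at h2
    rcases hirr U hU with hU' | hU'
    · let nil : Set (AddMonoid.End V) := {x | x ∈ R ∧ ∃ j : ℕ, x ^ j = 0}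
      obtain ⟨v, hv, hvs⟩ := hker (Set.toFinite nil).toFinset
        (fun x hx => ((Set.toFinite nil).mem_toFinset).mp hx)
      have : v ∈ U := fun x hx hn => hvs x (((Set.toFinite nil).mem_toFinset).mpr ⟨hx, hn⟩)
      rw [hU', AddSubgroup.mem_bot] at this
      exact absurd this hv
    · intro x hx hn
      exact AddMonoidHom.ext fun v => (show v ∈ U by rw [hU']; trivial) x hx hn
  by_cases hidem : ∃ f ∈ R, f * f = f ∧ f ≠ 0 ∧ f ≠ 1
  · -- imprimitive
    let IsAtom' : AddMonoid.End V → Prop := fun e => e ∈ R ∧ e * e = e ∧ e ≠ 0 ∧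
      ∀ f ∈ R, f * f = f → f * e = f → f = 0 ∨ f = e
    have hatom : ∀ f ∈ R, f * f = f → f ≠ 0 → ∃ e, IsAtom' e ∧ e * f = e := by
      intro f hf hff hf0
      let s : Finset (AddMonoid.End V) :=
        (Set.toFinite {g : AddMonoid.End V | g ∈ R ∧ g * g = g ∧ g ≠ 0 ∧ g * f = g}).toFinset
      have hs : s.Nonempty := ⟨f, (Set.Finite.mem_toFinset _).mpr ⟨hf, hff, hf0, hff⟩⟩
      obtain ⟨g, hg, hmin⟩ := Finset.exists_min_image s
        (fun g => Nat.card {x : AddMonoid.End V // g * x = x}) hs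
      obtain ⟨hgR, hgg, hg0, hgf⟩ := (Set.Finite.mem_toFinset _).mp hg
      refine ⟨g, ⟨hgR, hgg, hg0, fun k hk hkk hkg => ?_⟩, hgf⟩
      by_cases hk0 : k = 0
      · exact Or.inl hk0
      right
      have hkg' : g * k = k := by rw [hRc g hgR k hk, hkg]
      have hkf : k * f = k := by conv_lhs => rw [← hkg, mul_assoc, hgf, hkg]
      let ι' : {x : AddMonoid.End V // k * x = x} → {x : AddMonoid.End V // g * x = x} :=
        fun x => ⟨x.1, by rw [← x.2, ← mul_assoc, hkg']⟩
      have hinj : Function.Injective ι' :=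
        fun a b h => Subtype.ext (congrArg (fun y : {x : AddMonoid.End V // g * x = x} => y.1) h)
      obtain ⟨⟨y, hy⟩, hy'⟩ := (hinj.bijective_of_nat_card_le
        (hmin k ((Set.Finite.mem_toFinset _).mpr ⟨hk, hkk, hk0, hkf⟩))).2 ⟨g, hgg⟩
      have : y = g := congrArg Subtype.val hy'
      rw [this] at hy
      rw [← hkg]; exact hy
    let ι := {e : AddMonoid.End V // IsAtom' e}
    have : Fintype ι := Fintype.ofFinite _
    have hconjAtom : ∀ (h : H) (e : ι), IsAtom' (cj h e.1) := by
      intro h e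
      obtain ⟨heR, hee, he0, hmin⟩ := e.2
      refine ⟨cjR h _ heR, by rw [← cj_mul, hee], fun h0 => he0 ?_, fun f hf hff hfe => ?_⟩
      · have := congrArg (cj h⁻¹) h0
        rwa [← cj_comp, inv_mul_cancel, cj_one, show cj h⁻¹ 0 = 0 by simp [cj]] at this
      · have h1 : cj h⁻¹ f * e.1 = cj h⁻¹ f := by
          have := congrArg (cj h⁻¹) hfe
          rwa [cj_mul, ← cj_comp, inv_mul_cancel, cj_one] at this
        rcases hmin _ (cjR _ _ hf) (by rw [← cj_mul, hff]) h1 with h2 | h2
        · left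
          have := congrArg (cj h) h2
          rwa [← cj_comp, mul_inv_cancel, cj_one, show cj h 0 = 0 by simp [cj]] at this
        · right
          have := congrArg (cj h) h2
          rwa [← cj_comp, mul_inv_cancel, cj_one] at this
    let : MulAction H ι :=
      { smul := fun h e => ⟨cj h e.1, hconjAtom h e⟩
        one_smul := fun e => Subtype.ext (cj_one e.1)
        mul_smul := fun g h e => Subtype.ext (cj_comp g h e.1) }
    have horth : ∀ e e' : ι, e ≠ e' → e.1 * e'.1 = 0 := by
      intro e e' hne'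
      obtain ⟨heR, hee, he0, hmin⟩ := e.2
      obtain ⟨heR', hee', he0', hmin'⟩ := e'.2
      have hc := hRc e.1 heR e'.1 heR'
      have hii : (e.1 * e'.1) * (e.1 * e'.1) = e.1 * e'.1 := by
        rw [mul_assoc, ← mul_assoc e'.1, ← hc, mul_assoc e.1 e'.1, hee', ← mul_assoc, hee]
      rcases hmin _ (mul_mem heR heR') hii (by rw [mul_assoc, ← hc, ← mul_assoc, hee]) with h | h
      · exact h
      · rcases hmin' _ (mul_mem heR heR') hii (by rw [mul_assoc, hee']) with h' | h'
        · exact h'
        · exact absurd (Subtype.ext (h.symm.trans h')) hne'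
    let π : ι → V →+ V := fun e => e.1
    have hmul : ∀ (a : ι), ∀ s : Finset ι, a.1 * (∑ e ∈ s, e.1) = if a ∈ s then a.1 else 0 := by
      intro a s
      rw [Finset.mul_sum]
      by_cases h : a ∈ s
      · rw [if_pos h, Finset.sum_eq_single a (fun b _ hb' => horth a b (Ne.symm hb')) (by simp [h])]
        exact a.2.2.1
      · rw [if_neg h]
        exact Finset.sum_eq_zero fun b hb' => horth a b fun hab => h (hab ▸ hb')
    have hsR : ∀ s : Finset ι, (∑ e ∈ s, e.1) ∈ R := fun s => sum_mem fun e _ => e.2.1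
    have hsI : ∀ s : Finset ι, (∑ e ∈ s, e.1) * (∑ e ∈ s, e.1) = ∑ e ∈ s, e.1 := by
      intro s
      rw [Finset.sum_mul]
      exact Finset.sum_congr rfl fun e he => by rw [hmul e s, if_pos he]
    have hall : ∑ e : ι, e.1 = 1 := by
      by_contra h
      have hR1 : 1 - ∑ e : ι, e.1 ∈ R := sub_mem (one_mem _) (hsR _)
      have hI1 : (1 - ∑ e : ι, e.1) * (1 - ∑ e : ι, e.1) = 1 - ∑ e : ι, e.1 := by
        rw [mul_sub, mul_one, sub_mul, one_mul, hsI, sub_self, sub_zero]
      obtain ⟨e, he, hef⟩ := hatom _ hR1 hI1 (sub_ne_zero.mpr (Ne.symm h))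
      rw [mul_sub, mul_one, hmul ⟨e, he⟩ Finset.univ, if_pos (Finset.mem_univ _), sub_self] at hef
      exact he.2.2.1 hef.symm
    have hex : Nonempty ι := by
      obtain ⟨f, hf, hff, hf0, -⟩ := hidem
      obtain ⟨e, he, -⟩ := hatom f hf hff hf0
      exact ⟨⟨e, he⟩⟩
    have : Nontrivial ι := by
      rw [← not_subsingleton_iff_nontrivial]
      intro hsub
      obtain ⟨e0⟩ := hex
      obtain ⟨f, hf, hff, hf0, hf1⟩ := hidem
      have he0 : e0.1 = 1 := by
        rw [← hall, Finset.sum_eq_single e0 (fun b _ hb' => absurd (hsub.elim b e0) hb') (by simp)]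
      rcases e0.2.2.2.2 f hf hff (by rw [he0, mul_one]) with h | h
      · exact hf0 h
      · exact hf1 (h.trans he0)
    have : MulAction.IsPretransitive H ι := ⟨fun e e' => by
      let s : Finset ι := Finset.univ.filter fun d => ∃ h : H, h • e = d
      let t : AddMonoid.End V := ∑ d ∈ s, d.1
      have hes : e ∈ s := Finset.mem_filter.mpr ⟨Finset.mem_univ _, 1, one_smul _ _⟩
      have htc : ∀ h : H, cj h t = t := by
        intro h
        have e1 : cj h t = ∑ d ∈ s, cj h d.1 := by
          simp only [cj, t, Finset.mul_sum, Finset.sum_mul]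
        rw [e1]
        refine Finset.sum_bij (fun d _ => h • d) ?_ ?_ ?_ ?_
        · intro d hd
          obtain ⟨k, rfl⟩ := (Finset.mem_filter.mp hd).2
          exact Finset.mem_filter.mpr ⟨Finset.mem_univ _, h * k, mul_smul _ _ _⟩
        · intro a _ b _ hab
          exact MulAction.injective h hab
        · intro d hd
          obtain ⟨k, rfl⟩ := (Finset.mem_filter.mp hd).2
          exact ⟨(h⁻¹ * k) • e, Finset.mem_filter.mpr ⟨Finset.mem_univ _, _, rfl⟩,
            by rw [← mul_smul, mul_inv_cancel_left]⟩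
        · intro d _; rfl
      have htU : ∀ h : H, ∀ v ∈ AddMonoidHom.range (t : V →+ V), h • v ∈ AddMonoidHom.range (t : V →+ V) := by
        rintro h _ ⟨v, rfl⟩
        refine ⟨h • v, ?_⟩
        show t (h • v) = h • t v
        conv_lhs => rw [← htc h]
        rw [cj_app]
      rcases hirr _ htU with hr | hr
      · exfalso
        have ht0 : t = 0 := AddMonoidHom.ext fun v => by
          have : t v ∈ AddMonoidHom.range (t : V →+ V) := ⟨v, rfl⟩
          rwa [hr, AddSubgroup.mem_bot] at this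
        have := hmul e s
        rw [if_pos hes, show (∑ d ∈ s, d.1) = t from rfl, ht0, mul_zero] at this
        exact e.2.2.2.1 this.symm
      · have ht1 : t = 1 := AddMonoidHom.ext fun v => by
          obtain ⟨w, rfl⟩ := (show v ∈ AddMonoidHom.range (t : V →+ V) by rw [hr]; trivial)
          show (t * t) w = t w
          rw [hsI s]
        have := hmul e' s
        rw [show (∑ d ∈ s, d.1) = t from rfl, ht1, mul_one] at this
        by_cases h : e' ∈ s
        · exact (Finset.mem_filter.mp h).2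
        · rw [if_neg h] at this; exact absurd this e'.2.2.2.1⟩
    refine pair_of_blocks hsolv hcop hodd hb hirr π ?_ ?_ ?_ ?_
    · intro i j v hij
      show (j.1 * i.1) v = 0
      rw [horth j i (Ne.symm hij)]; rfl
    · intro v
      show ∑ i : ι, i.1 v = v
      have h1 := congrArg (AddMonoidHom.mk' (fun f : AddMonoid.End V => f v) fun _ _ => rfl) hall
      rw [map_sum] at h1
      exact h1
    · intro i
      by_contra h
      push Not at h
      exact i.2.2.2.1 (AddMonoidHom.ext h)
    · intro a i v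
      exact cj_app a i.1 v
  · -- the subring is a field
    push Not at hidem
    have hunit : ∀ x : R, x ≠ 0 → ∃ y, x * y = 1 := by
      intro x hx
      obtain ⟨n, hn, hnn⟩ := exists_idempotent_pow (x : AddMonoid.End V)
      have hne0 : (x : AddMonoid.End V) ^ n ≠ 0 := fun h => hx (Subtype.ext (hred _ x.2 ⟨n, h⟩))
      have h1 : (x : AddMonoid.End V) ^ n = 1 := hidem _ (pow_mem x.2 n) hnn hne0
      refine ⟨⟨(x : AddMonoid.End V) ^ (n - 1), pow_mem x.2 _⟩, Subtype.ext ?_⟩
      show (x : AddMonoid.End V) * (x : AddMonoid.End V) ^ (n - 1) = 1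
      rw [← pow_succ', show n - 1 + 1 = n by omega, h1]
    have hnt : ∃ x y : R, x ≠ y := by
      obtain ⟨v, hv⟩ := exists_ne (0 : V)
      exact ⟨0, 1, fun h => hv (congrArg (fun z : R => (z : AddMonoid.End V) v) h).symm⟩
    have hF : IsField R := ⟨hnt, fun x y => Subtype.ext (hRc _ x.2 _ y.2), fun {x} hx => hunit x hx⟩
    let : Field R := hF.toField
    have : Finite R := Subtype.finite
    let S : Setup R V H :=
      { σ := fun h x => ⟨cj h x.1, cjR h _ x.2⟩
        smul_comm' := fun h c v => (cj_app h c.1 v).symm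
        A := A
        normal := hAn
        comm := hAc
        max := fun N hN hAN hNc => (Subgroup.eq_of_le_of_card_ge hAN
          (hmax N ((Set.Finite.mem_toFinset _).mpr ⟨hN, hNc⟩))).symm
        scal := fun a ha => ⟨⟨_, hTR a ha⟩, fun v => rfl⟩
        gen := by
          intro h hh c
          refine Subtype.ext ?_
          show cj h c.1 = c.1
          obtain ⟨c, hc⟩ := c
          induction hc using Subring.closure_induction with
          | mem x hx =>
            obtain ⟨a, ha, rfl⟩ := hx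
            have hcm := Subgroup.mem_centralizer_iff.mp hh a ha
            simp only [cj]
            rw [← Units.val_mul, ← Units.val_mul, ← Subgroup.coe_inv, ← Subgroup.coe_mul,
              ← Subgroup.coe_mul, ← hcm, mul_inv_cancel_right]
          | zero => simp [cj]
          | one => simp [cj]
          | add x y _ _ h1 h2 => simp only [cj, mul_add, add_mul] at h1 h2 ⊢; rw [h1, h2]
          | neg x _ h1 => simp only [cj, mul_neg, neg_mul] at h1 ⊢; rw [h1]
          | mul x y _ _ h1 h2 => rw [cj_mul, h1, h2]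
        solv := hsolv }
    have hR : 2 ∣ Nat.card R - 1 := by
      have hdvd : Nat.card R ∣ Nat.card V := by
        rw [Module.natCard_eq_pow_finrank (K := R) (V := V)]
        exact dvd_pow_self _ (Module.finrank_pos (R := R) (M := V)).ne'
      have h2 : ¬ 2 ∣ Nat.card R := fun h => hodd (h.trans hdvd)
      omega
    obtain ⟨v, w, h⟩ := S.exists_pair_coprime hR hcop
    refine ⟨v, w, fun g h1 h2 x => ?_⟩
    rw [h g h1 h2, one_smul]

omit [Nontrivial V] in
theorem pair_of_not_irr {A : Type u} [Group A] [Finite A] [DistribMulAction A V] {n : ℕ}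
    (hb : PairBelow.{u} n) (hn : Nat.card V ≤ n) (hs : Group.IsSolvable A)
    (hcop : (Nat.card A).Coprime (Nat.card V)) (hcr : IsCR A V) (hni : ¬ IsIrr A V) :
    ∃ v w : V, ∀ a : A, a • v = v → a • w = w → ∀ x : V, a • x = x := by
  simp only [IsIrr, not_forall, not_or] at hni
  obtain ⟨U, hU, hU1, hU2⟩ := hni
  obtain ⟨W, hW, hinf, hsup⟩ := hcr U hU
  have hW2 : W ≠ ⊤ := by rintro rfl; exact hU1 (by simpa using hinf)
  have small : ∀ X : AddSubgroup V, X ≠ ⊤ → Nat.card X < n := fun X hX =>
    lt_of_lt_of_le (lt_of_le_of_ne (Nat.card_le_card_of_injective _ Subtype.val_injective)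
      fun h => hX (AddSubgroup.eq_top_of_card_eq X h)) hn
  obtain ⟨u1, hu1, u2, hu2, huu⟩ := hb.sub hs hcop U hU (hcr.inherit U hU) (small U hU2)
  obtain ⟨w1, hw1, w2, hw2, hww⟩ := hb.sub hs hcop W hW (hcr.inherit W hW) (small W hW2)
  have split : ∀ (a : A) (x y : V), x ∈ U → y ∈ W → a • (x + y) = x + y → a • x = x ∧ a • y = y := by
    intro a x y hx hy he
    rw [smul_add] at he
    have h1 : a • x - x = y - a • y := by
      rw [sub_eq_sub_iff_add_eq_add, he]; abel
    have h2 : a • x - x ∈ U ⊓ W :=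
      ⟨U.sub_mem (hU a x hx) hx, h1 ▸ W.sub_mem hy (hW a y hy)⟩
    rw [hinf, AddSubgroup.mem_bot] at h2
    refine ⟨sub_eq_zero.mp h2, ?_⟩
    rw [h2] at h1
    exact (sub_eq_zero.mp h1.symm).symm
  refine ⟨u1 + w1, u2 + w2, fun a h1 h2 x => ?_⟩
  obtain ⟨e1, f1⟩ := split a u1 w1 hu1 hw1 h1
  obtain ⟨e2, f2⟩ := split a u2 w2 hu2 hw2 h2
  obtain ⟨p, hp, q, hq, rfl⟩ := AddSubgroup.mem_sup.mp (show x ∈ U ⊔ W by rw [hsup]; trivial)
  rw [smul_add, huu a e1 e2 p hp, hww a f1 f2 q hq]

/-- the induction -/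
theorem pairBelow (n : ℕ) : PairBelow.{u} n := by
  induction n with
  | zero => intro A V _ _ _ _ _ _ _ _ h; omega
  | succ n ih =>
    intro A V _ _ _ _ _ hs hcr hcop hlt
    by_cases hlt' : Nat.card V < n
    · exact ih A V hs hcr hcop hlt'
    have hb : PairBelow.{u} (Nat.card V) := fun A' V' _ _ _ _ _ h1 h2 h3 h4 =>
      ih A' V' h1 h2 h3 (by omega)
    rcases subsingleton_or_nontrivial V with hsub | hnt
    · exact ⟨0, 0, fun a _ _ x => Subsingleton.elim _ _⟩
    by_cases h2 : 2 ∣ Nat.card V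
    · exact CfsgLib.BaseTwo.exists_pair (Nat.odd_iff.mpr (by
        have h := Nat.Coprime.coprime_dvd_right h2 hcop
        rw [Nat.coprime_two_right] at h
        exact Nat.odd_iff.mp h)) hs hcr
    by_cases hirr : IsIrr A V
    swap
    · exact pair_of_not_irr hb le_rfl hs hcop hcr hirr
    let φ : A →* (AddMonoid.End V)ˣ := (DistribMulAction.toAddMonoidEnd A V).toHomUnits
    have hs' : Group.IsSolvable φ.range := Group.isSolvable_of_surjective φ.rangeRestrict_surjective
    obtain ⟨v, w, hv⟩ := pair_of_irr φ.range hs'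
      (fun U hU => hirr U fun a x hx => hU ⟨φ a, a, rfl⟩ x hx)
      (Nat.Coprime.coprime_dvd_left (Subgroup.card_range_dvd φ) hcop) h2 hb
    exact ⟨v, w, fun a ha hb' x => hv ⟨φ a, a, rfl⟩ ha hb' x⟩

/-- two vectors whose common stabiliser acts trivially -/
theorem exists_pair_coprime {A V : Type u} [Group A] [Finite A] [AddCommGroup V] [Finite V]
    [DistribMulAction A V] (hs : Group.IsSolvable A) (hcr : IsCR A V)
    (hcop : (Nat.card A).Coprime (Nat.card V)) :
    ∃ v w : V, ∀ a : A, a • v = v → a • w = w → ∀ x : V, a • x = x :=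
  pairBelow (Nat.card V + 1) A V hs hcr hcop (Nat.lt_succ_self _)

end CfsgLib.BaseThree
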