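import Cfsg.Agent.Lib.BaseCoprime.Main
import Cfsg.Agent.Lib.CoprimeAction.Aut
import Cfsg.Agent.Lib.CoprimeAction.Sylow
/-
Coprime actions on finite groups have the fixed point counts of completely reducible modules.
-/
set_option autoImplicit false
set_option linter.unusedSectionVars false

universe u

namespace CfsgLib.BaseThree

open CfsgLib.BaseTwo (IsCR IsIrr)

theorem exists_proj {K V : Type*} [Field K] [AddCommGroup V] [Module K V] (U : Submodule K V) :
    ∃ g : V →+ V, (∀ v, g v ∈ U) ∧ ∀ u ∈ U, g u = u := by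
  obtain ⟨C, hC⟩ := U.exists_isCompl
  exact ⟨(U.projection C hC).toAddMonoidHom, fun v => Submodule.projection_apply_mem hC v,
    fun u hu => Submodule.projection_apply_left hC ⟨u, hu⟩⟩

/-- Maschke for modules of prime exponent prime to the group order -/
theorem isCR_of_exponent {A : Type*} {V : Type*} [Group A] [Finite A] [AddCommGroup V] [DistribMulAction A V]
    {p : ℕ} (hp : p.Prime) (hcop : (Nat.card A).Coprime p) (hexp : ∀ v : V, p • v = 0) : IsCR A V := by
  classical
  have := Fintype.ofFinite A
  have : Fact p.Prime := ⟨hp⟩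
  let : Module (ZMod p) V := AddCommGroup.zmodModule hexp
  intro U hU
  let U' : Submodule (ZMod p) V := AddSubgroup.toZModSubmodule p U
  obtain ⟨g, hgU, hg⟩ := exists_proj U'
  let m : ℕ := ((Nat.card A : ZMod p)⁻¹).val
  have hn0 : (Nat.card A : ZMod p) ≠ 0 := by
    rw [Ne, ZMod.natCast_eq_zero_iff]
    exact fun h => hp.ne_one (Nat.eq_one_of_dvd_coprimes hcop h dvd_rfl)
  let π : V → V := fun v => m • ∑ a : A, a • g (a⁻¹ • v)
  have hπU : ∀ v, π v ∈ U := fun v =>
    U.nsmul_mem (AddSubgroup.sum_mem _ fun a _ => hU a _ (hgU _)) _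
  have hπid : ∀ v ∈ U, π v = v := by
    intro v hv
    have h1 : ∀ a : A, a • g (a⁻¹ • v) = v := by
      intro a
      have := hg (a⁻¹ • v) (hU a⁻¹ v hv)
      rw [this, smul_inv_smul]
    show m • _ = v
    rw [Finset.sum_congr rfl (fun a _ => h1 a), Finset.sum_const, Finset.card_univ, ← Nat.card_eq_fintype_card,
      ← mul_nsmul', ← Nat.cast_smul_eq_nsmul (ZMod p), Nat.cast_mul, ZMod.natCast_zmod_val,
      inv_mul_cancel₀ hn0, one_smul]
  have hadd : ∀ v w, π (v + w) = π v + π w := by
    intro v w
    simp only [π, smul_add, map_add, Finset.sum_add_distrib]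
  have hequiv : ∀ (b : A) v, π (b • v) = b • π v := by
    intro b v
    simp only [π]
    rw [smul_comm b m, Finset.smul_sum (r := b)]
    congr 1
    refine Fintype.sum_equiv (Equiv.mulLeft b⁻¹) _ _ fun a => ?_
    simp [mul_smul]
  let P : V →+ V := AddMonoidHom.mk' π hadd
  refine ⟨P.ker, fun b w hw => ?_, ?_, ?_⟩
  · rw [AddMonoidHom.mem_ker] at hw ⊢
    show π (b • w) = 0
    rw [hequiv, show π w = 0 from hw, smul_zero]
  · rw [eq_bot_iff]
    rintro v ⟨hv, hk⟩
    rw [AddSubgroup.mem_bot, ← hπid v hv]
    exact hk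
  · rw [eq_top_iff]
    intro v _
    refine AddSubgroup.mem_sup.mpr ⟨π v, hπU v, v - π v, ?_, add_sub_cancel _ _⟩
    show P (v - π v) = 0
    rw [map_sub]
    show π v - π (π v) = 0
    rw [hπid _ (hπU v), sub_self]

/-- complete reducibility of a direct sum -/
theorem isCR_prod {A W₁ W₂ : Type*} [Group A] [AddCommGroup W₁] [AddCommGroup W₂] [DistribMulAction A W₁]
    [DistribMulAction A W₂] (h₁ : IsCR A W₁) (h₂ : IsCR A W₂) : IsCR A (W₁ × W₂) := by
  intro U hU
  obtain ⟨C₁, hC₁, hi₁, hs₁⟩ := h₁ (U.comap (AddMonoidHom.inl W₁ W₂)) (fun a x hx => by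
    have := hU a _ hx
    simpa [AddSubgroup.mem_comap, Prod.smul_mk] using this)
  obtain ⟨C₂, hC₂, hi₂, hs₂⟩ := h₂ (U.map (AddMonoidHom.snd W₁ W₂)) (by
    rintro a _ ⟨z, hz, rfl⟩
    exact ⟨a • z, hU a z hz, rfl⟩)
  refine ⟨C₁.prod C₂, fun a w hw => ⟨hC₁ a _ hw.1, hC₂ a _ hw.2⟩, ?_, ?_⟩
  · rw [eq_bot_iff]
    rintro ⟨x, y⟩ ⟨hz, hx, hy⟩
    have hy0 : y ∈ U.map (AddMonoidHom.snd W₁ W₂) ⊓ C₂ := ⟨⟨(x, y), hz, rfl⟩, hy⟩
    rw [hi₂, AddSubgroup.mem_bot] at hy0
    subst hy0
    have hx0 : x ∈ U.comap (AddMonoidHom.inl W₁ W₂) ⊓ C₁ := ⟨hz, hx⟩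
    rw [hi₁, AddSubgroup.mem_bot] at hx0
    rw [AddSubgroup.mem_bot, hx0]; rfl
  · rw [eq_top_iff]
    rintro ⟨x, y⟩ _
    obtain ⟨_, ⟨⟨u₁, u₂⟩, hu, rfl⟩, c₂, hc₂, hy⟩ :=
      AddSubgroup.mem_sup.mp (show y ∈ U.map (AddMonoidHom.snd W₁ W₂) ⊔ C₂ by rw [hs₂]; trivial)
    obtain ⟨v, hv, c₁, hc₁, hx⟩ :=
      AddSubgroup.mem_sup.mp (show x - u₁ ∈ U.comap (AddMonoidHom.inl W₁ W₂) ⊔ C₁ by rw [hs₁]; trivial)
    refine AddSubgroup.mem_sup.mpr ⟨(u₁, u₂) + (v, 0), U.add_mem hu hv, (c₁, c₂), ⟨hc₁, hc₂⟩, ?_⟩
    simp only [Prod.mk_add_mk, add_zero]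
    refine Prod.ext ?_ hy
    show u₁ + v + c₁ = x
    rw [add_assoc, hx, add_sub_cancel]

open Classical in
theorem card_fix_split {A Z : Type*} [Group A] [Fintype Z] [MulAction A Z] [Fintype (Subgroup A)]
    (B : Subgroup A) :
    Nat.card {z : Z // ∀ b ∈ B, b • z = z} =
      (Finset.univ.filter fun z : Z => MulAction.stabilizer A z = B).card +
        ∑ C ∈ Finset.univ.filter (fun C : Subgroup A => B < C),
          (Finset.univ.filter fun z : Z => MulAction.stabilizer A z = C).card := by
  have h1 : Nat.card {z : Z // ∀ b ∈ B, b • z = z} =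
      (Finset.univ.filter fun z : Z => B ≤ MulAction.stabilizer A z).card := by
    rw [Nat.card_eq_fintype_card, ← Fintype.card_subtype]
    exact Fintype.card_congr (Equiv.subtypeEquivRight fun z =>
      ⟨fun h b hb => h b hb, fun h b hb => h hb⟩)
  rw [h1, Finset.card_eq_sum_card_fiberwise (f := fun z : Z => MulAction.stabilizer A z)
      (t := insert B (Finset.univ.filter fun C : Subgroup A => B < C)),
    Finset.sum_insert (by simp)]
  · congr 1
    · congr 1; ext z
      simp only [Finset.mem_filter, Finset.mem_univ, true_and]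
      exact ⟨fun h => h.2, fun h => ⟨h ▸ le_rfl, h⟩⟩
    · refine Finset.sum_congr rfl fun C hC => ?_
      congr 1; ext z
      simp only [Finset.mem_filter, Finset.mem_univ, true_and] at hC ⊢
      exact ⟨fun h => h.2, fun h => ⟨h ▸ hC.le, h⟩⟩
  · intro z hz
    simp only [Finset.coe_filter, Finset.mem_univ, true_and, Set.mem_ofPred_eq] at hz
    simp only [Finset.coe_insert, Finset.coe_filter, Finset.mem_univ, true_and, Set.mem_insert_iff,
      Set.mem_ofPred_eq]
    rcases eq_or_lt_of_le hz with e | e
    · exact Or.inl e.symm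
    · exact Or.inr e

/-- finite sets with equal fixed point counts share free points -/
theorem regular_transfer {A X Y : Type*} [Group A] [Finite A] [Finite X] [Finite Y] [MulAction A X]
    [MulAction A Y]
    (h : ∀ B : Subgroup A, Nat.card {x : X // ∀ b ∈ B, b • x = x} = Nat.card {y : Y // ∀ b ∈ B, b • y = y})
    (y : Y) (hy : MulAction.stabilizer A y = ⊥) : ∃ x : X, MulAction.stabilizer A x = ⊥ := by
  classical
  have := Fintype.ofFinite X
  have := Fintype.ofFinite Y
  have := Fintype.ofFinite (Subgroup A)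
  have key : ∀ B : Subgroup A, (Finset.univ.filter fun x : X => MulAction.stabilizer A x = B).card =
      (Finset.univ.filter fun z : Y => MulAction.stabilizer A z = B).card := by
    intro B
    induction B using (wellFounded_gt (α := Subgroup A)).induction with
    | h B ih =>
      have e := h B
      rw [card_fix_split (Z := X) B, card_fix_split (Z := Y) B] at e
      convert Nat.add_right_cancel (e.trans (congrArg _ (Finset.sum_congr rfl
        fun C hC => (ih C (Finset.mem_filter.mp hC).2).symm))) using 2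
  have h0 : (Finset.univ.filter fun x : X => MulAction.stabilizer A x = ⊥).card ≠ 0 := by
    rw [key, Finset.card_ne_zero]
    exact ⟨y, by simp [hy]⟩
  obtain ⟨x, hx⟩ := Finset.card_ne_zero.mp h0
  exact ⟨x, (Finset.mem_filter.mp hx).2⟩

section Model

variable {A : Type u} [Group A] [Finite A]

/-- `f` is the fixed point count of a finite completely reducible module -/
def HasModel (A : Type u) [Group A] (f : Subgroup A → ℕ) : Prop :=
  ∃ (W : Type u) (_ : AddCommGroup W) (_ : DistribMulAction A W), Finite W ∧ IsCR A W ∧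
    ∀ B : Subgroup A, Nat.card {w : W // ∀ b ∈ B, b • w = w} = f B

theorem hasModel_one : HasModel A (fun _ => 1) := by
  let : DistribMulAction A PUnit.{u + 1} :=
    { smul := fun _ x => x
      one_smul := fun _ => rfl
      mul_smul := fun _ _ _ => rfl
      smul_zero := fun _ => rfl
      smul_add := fun _ _ _ => rfl }
  refine ⟨PUnit.{u + 1}, inferInstance, inferInstance, inferInstance, fun U hU => ?_, fun B => ?_⟩
  · exact ⟨⊤, fun _ _ _ => trivial, Subsingleton.elim _ _, Subsingleton.elim _ _⟩
  · have : Nonempty {w : PUnit.{u + 1} // ∀ b ∈ B, b • w = w} := ⟨⟨default, fun _ _ => Subsingleton.elim _ _⟩⟩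
    exact Nat.card_of_subsingleton ⟨default, fun _ _ => Subsingleton.elim _ _⟩

theorem HasModel.mul {f g : Subgroup A → ℕ} (hf : HasModel A f) (hg : HasModel A g) :
    HasModel A (fun B => f B * g B) := by
  obtain ⟨W₁, _, _, _, h₁, e₁⟩ := hf
  obtain ⟨W₂, _, _, _, h₂, e₂⟩ := hg
  refine ⟨W₁ × W₂, inferInstance, inferInstance, inferInstance, isCR_prod h₁ h₂, fun B => ?_⟩
  dsimp only
  rw [← e₁ B, ← e₂ B, ← Nat.card_prod]
  refine Nat.card_congr
    { toFun := fun w => (⟨w.1.1, fun b hb => congrArg Prod.fst (w.2 b hb)⟩,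
        ⟨w.1.2, fun b hb => congrArg Prod.snd (w.2 b hb)⟩)
      invFun := fun p => ⟨(p.1.1, p.2.1), fun b hb => Prod.ext (p.1.2 b hb) (p.2.2 b hb)⟩
      left_inv := fun w => rfl
      right_inv := fun p => rfl }

/-- the elements fixed by a subgroup of operators -/
def fixSub (K : Type*) [Group K] [MulDistribMulAction A K] (B : Subgroup A) : Subgroup K where
  carrier := {x | ∀ b ∈ B, b • x = x}
  one_mem' := fun b _ => smul_one b
  mul_mem' := fun hx hy b hb => by rw [smul_mul', hx b hb, hy b hb]
  inv_mem' := fun hx b hb => by rw [smul_inv', hx b hb]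

theorem hasModel_pgroup {p : ℕ} (hp : p.Prime) (hcop : (Nat.card A).Coprime p) :
    ∀ (n : ℕ) (G : Type u) [Group G] [Finite G] [MulDistribMulAction A G], IsPGroup p G → Nat.card G ≤ n →
      HasModel A (fun B => Nat.card (fixSub G B)) := by
  have : Fact p.Prime := ⟨hp⟩
  intro n
  induction n with
  | zero =>
    intro G _ _ _ _ hn
    exact absurd hn (Nat.card_pos (α := G)).ne'.bot_lt.not_ge
  | succ n ih =>
    intro G _ _ _ hG hn
    classical
    rcases subsingleton_or_nontrivial G with hG1 | hG1
    · convert hasModel_one (A := A) using 1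
      funext B
      exact Nat.card_of_subsingleton 1
    let Z : Subgroup G :=
      { carrier := {z | z ∈ Subgroup.center G ∧ z ^ p = 1}
        one_mem' := ⟨one_mem _, one_pow _⟩
        mul_mem' := fun {a b} ha hb => ⟨mul_mem ha.1 hb.1, by
          rw [(Commute.symm (Subgroup.mem_center_iff.mp ha.1 b)).mul_pow, ha.2, hb.2, one_mul]⟩
        inv_mem' := fun {a} ha => ⟨inv_mem ha.1, by rw [inv_pow, ha.2, inv_one]⟩ }
    have hZle : Z ≤ Subgroup.center G := fun z hz => hz.1
    have hZn : Z.Normal := ⟨fun z hz g => by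
      rw [Subgroup.mem_center_iff.mp (hZle hz) g, mul_inv_cancel_right]; exact hz⟩
    have hZne : 1 < Nat.card Z := by
      have : Nontrivial (Subgroup.center G) := hG.center_nontrivial
      obtain ⟨k, hk⟩ := (hG.to_subgroup (Subgroup.center G)).exists_card_eq
      have hd : p ∣ Nat.card (Subgroup.center G) := by
        rcases k with _ | k
        · exact absurd hk (Finite.one_lt_card (α := Subgroup.center G)).ne'
        · exact hk ▸ dvd_pow_self p (Nat.succ_ne_zero k)
      obtain ⟨z, hz⟩ := exists_prime_orderOf_dvd_card' p hd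
      have hzZ : (z : G) ∈ Z := ⟨z.2, by rw [← Subgroup.coe_pow, ← hz, pow_orderOf_eq_one]; rfl⟩
      have hne : (z : G) ≠ 1 := by
        intro e
        have : z = 1 := Subtype.ext e
        rw [this, orderOf_one] at hz
        exact hp.ne_one hz.symm
      have : Nontrivial Z := ⟨⟨z, hzZ⟩, 1, fun e => hne (congrArg Subtype.val e)⟩
      exact Finite.one_lt_card
    have hZinv : ∀ (a : A) (z : G), z ∈ Z → a • z ∈ Z := by
      intro a z hz
      refine ⟨Subgroup.mem_center_iff.mpr fun g => ?_, by rw [← smul_pow', hz.2, smul_one]⟩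
      have h1 := congrArg (a • ·) (Subgroup.mem_center_iff.mp hz.1 (a⁻¹ • g))
      simpa [smul_mul'] using h1
    -- the central layer
    let : CommGroup Z :=
      { (inferInstance : Group Z) with
        mul_comm := fun x y => Subtype.ext (Subgroup.mem_center_iff.mp (hZle y.2) x) }
    let : DistribMulAction A (Additive Z) :=
      { smul := fun a z => Additive.ofMul ⟨a • ((Additive.toMul z : Z) : G), hZinv a _ (Additive.toMul z).2⟩
        one_smul := fun z => Additive.toMul.injective (Subtype.ext (one_smul A _))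
        mul_smul := fun a b z => Additive.toMul.injective (Subtype.ext (mul_smul a b _))
        smul_zero := fun a => Additive.toMul.injective (Subtype.ext (smul_one a))
        smul_add := fun a z w => Additive.toMul.injective (Subtype.ext (smul_mul' a _ _)) }
    have hexp : ∀ z : Additive Z, p • z = 0 := fun z =>
      Additive.toMul.injective (Subtype.ext (Additive.toMul z).2.2)
    have m1 : HasModel A (fun B => Nat.card {z : Additive Z // ∀ b ∈ B, b • z = z}) :=
      ⟨Additive Z, inferInstance, inferInstance, inferInstance, isCR_of_exponent hp hcop hexp, fun B => rfl⟩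
    -- the quotient
    let qa : A → G ⧸ Z →* G ⧸ Z := fun a =>
      QuotientGroup.map Z Z (MulDistribMulAction.toMonoidHom G a) (fun z hz => hZinv a z hz)
    let : MulDistribMulAction A (G ⧸ Z) :=
      { smul := fun a x => qa a x
        one_smul := fun x => by
          induction x using QuotientGroup.induction_on with
          | H g => exact congrArg QuotientGroup.mk (one_smul A g)
        mul_smul := fun a b x => by
          induction x using QuotientGroup.induction_on with
          | H g => exact congrArg QuotientGroup.mk (mul_smul a b g)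
        smul_one := fun a => map_one (qa a)
        smul_mul := fun a x y => map_mul (qa a) x y }
    have hsmk : ∀ (a : A) (g : G), a • (QuotientGroup.mk g : G ⧸ Z) = QuotientGroup.mk (a • g) := fun _ _ => rfl
    have hlt : Nat.card (G ⧸ Z) ≤ n := by
      have := Subgroup.card_eq_card_quotient_mul_card_subgroup Z
      have h0 : 0 < Nat.card (G ⧸ Z) := Nat.card_pos
      have h2 : Nat.card (G ⧸ Z) * 2 ≤ Nat.card (G ⧸ Z) * Nat.card Z := Nat.mul_le_mul_left _ hZne
      omega
    have m2 := ih (G ⧸ Z) (hG.to_quotient Z) hlt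
    convert m1.mul m2 using 1
    funext B
    let φ : fixSub G B →* G ⧸ Z := (QuotientGroup.mk' Z).comp (fixSub G B).subtype
    have hrange : φ.range = fixSub (G ⧸ Z) B := by
      apply le_antisymm
      · rintro _ ⟨⟨g, hg⟩, rfl⟩ b hb
        show b • (QuotientGroup.mk g : G ⧸ Z) = _
        rw [hsmk, hg b hb]; rfl
      · intro x hx
        induction x using QuotientGroup.induction_on with
        | H g =>
          let ψ : B →* MulAut G := (MulDistribMulAction.toMulAut A G).comp B.subtype
          have hcopB : (Nat.card B).Coprime (Nat.card Z) := by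
            obtain ⟨k, hk⟩ := (hG.to_subgroup Z).exists_card_eq
            rw [hk]
            exact (hcop.coprime_dvd_left (Subgroup.card_subgroup_dvd_card B)).pow_right k
          obtain ⟨c, hc, hfix⟩ := CfsgLib.CoprimeAction.exists_fixed_mem_coset ψ
            (N := Z) (fun b z hz => hZinv b z hz) hcopB
            (Or.inr (Group.isSolvable_of_comm fun x y => mul_comm x y))
            (x := g) (fun b => (QuotientGroup.eq).mp ((hx b b.2).symm.trans (hsmk _ _)))
          exact ⟨⟨c, fun b hb => hfix ⟨b, hb⟩⟩, (QuotientGroup.eq.mpr hc).symm⟩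
    have hker : Nat.card φ.ker = Nat.card {z : Additive Z // ∀ b ∈ B, b • z = z} := by
      have hk : ∀ x : fixSub G B, x ∈ φ.ker ↔ (x : G) ∈ Z := fun x =>
        MonoidHom.mem_ker.trans (QuotientGroup.eq_one_iff _)
      refine Nat.card_congr
        { toFun := fun x => ⟨Additive.ofMul ⟨x.1.1, (hk x.1).mp x.2⟩, fun b hb =>
            Additive.toMul.injective (Subtype.ext (x.1.2 b hb))⟩
          invFun := fun z => ⟨⟨((Additive.toMul z.1 : Z) : G), fun b hb =>
            congrArg (fun w : Additive Z => ((Additive.toMul w : Z) : G)) (z.2 b hb)⟩,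
              (hk _).mpr (Additive.toMul z.1 : Z).2⟩
          left_inv := fun x => rfl
          right_inv := fun z => rfl }
    rw [← hker, ← hrange, ← Nat.card_congr (QuotientGroup.quotientKerEquivRange φ).toEquiv,
      Subgroup.card_eq_card_quotient_mul_card_subgroup φ.ker, mul_comm]

/-- the fixed point counts of a coprime action of a solvable group are those of a module -/
theorem hasModel_coprime (hsolv : Group.IsSolvable A) (K : Type u) [Group K] [Finite K]
    [MulDistribMulAction A K] (hcop : (Nat.card A).Coprime (Nat.card K)) :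
    HasModel A (fun B => Nat.card (fixSub K B)) := by
  classical
  let φ : A →* MulAut K := MulDistribMulAction.toMulAut A K
  have := CfsgLib.CoprimeAction.finite_semidirect φ
  let i : K →* K ⋊[φ] A := SemidirectProduct.inl
  let j : A →* K ⋊[φ] A := SemidirectProduct.inr
  have hi : Function.Injective i := SemidirectProduct.inl_injective
  have hij : ∀ a x, i (a • x) = j a * i x * (j a)⁻¹ := fun a x => by
    rw [show a • x = φ a x from rfl]
    exact (SemidirectProduct.inl_aut a x).trans (by rw [map_inv])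
  have hnorm : ∀ B : Subgroup A, B.map j ≤ Subgroup.normalizer ((i.range : Subgroup _) : Set (K ⋊[φ] A)) := by
    intro B
    refine le_trans (Subgroup.map_le_range j B) (le_of_le_of_eq
      (CfsgLib.CoprimeAction.inr_le_normalizer_map_inl (φ := φ) (N := ⊤) fun _ _ _ => trivial) ?_)
    rw [MonoidHom.range_eq_map]
  have hcK : Nat.card i.range = Nat.card K :=
    (Nat.card_congr (MonoidHom.ofInjective hi).toEquiv).symm
  have hcopB : ∀ B : Subgroup A, (Nat.card (B.map j)).Coprime (Nat.card i.range) := fun B => by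
    rw [hcK]
    exact hcop.coprime_dvd_left ((Subgroup.card_map_dvd B j).trans (Subgroup.card_subgroup_dvd_card B))
  have hsolB : ∀ B : Subgroup A, Group.IsSolvable (B.map j) := fun B =>
    Group.isSolvable_of_surjective (j.subgroupMap_surjective B)
  -- the part at one prime
  have hone : ∀ p ∈ (Nat.card K).primeFactors,
      HasModel A (fun B => p ^ (Nat.card (fixSub K B)).factorization p) := by
    intro p hp
    have hpp : p.Prime := Nat.prime_of_mem_primeFactors hp
    have : Fact p.Prime := ⟨hpp⟩
    obtain ⟨P, hP⟩ := CfsgLib.CoprimeAction.exists_invariant_sylow (hnorm ⊤) (hcopB ⊤)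
      (Or.inl (hsolB ⊤)) p
    let PG : Subgroup (K ⋊[φ] A) := (P : Subgroup i.range).map i.range.subtype
    let P0 : Subgroup K := PG.comap i
    have hP0p : IsPGroup p P0 := by
      refine (P.isPGroup'.map i.range.subtype).comap_of_injective i hi
    have hP0inv : ∀ (a : A) x, x ∈ P0 → a • x ∈ P0 := by
      intro a x hx
      show i (a • x) ∈ PG
      rw [hij]
      exact (Subgroup.mem_normalizer_iff.mp (hP ⟨a, trivial, rfl⟩) (i x)).mp hx
    let : MulDistribMulAction A P0 :=
      { smul := fun a x => ⟨a • (x : K), hP0inv a x x.2⟩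
        one_smul := fun x => Subtype.ext (one_smul A _)
        mul_smul := fun a b x => Subtype.ext (mul_smul a b _)
        smul_one := fun a => Subtype.ext (smul_one a)
        smul_mul := fun a x y => Subtype.ext (smul_mul' a _ _) }
    have hcp : (Nat.card A).Coprime p :=
      hcop.coprime_dvd_right (Nat.dvd_of_mem_primeFactors hp)
    convert hasModel_pgroup hpp hcp (Nat.card P0) P0 hP0p le_rfl using 1
    funext B
    have hcard : Nat.card (fixSub P0 B) = Nat.card (P0 ⊓ fixSub K B : Subgroup K) :=
      Nat.card_congr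
        { toFun := fun x => ⟨x.1.1, x.1.2, fun b hb => congrArg Subtype.val (x.2 b hb)⟩
          invFun := fun x => ⟨⟨x.1, x.2.1⟩, fun b hb => Subtype.ext (x.2.2 b hb)⟩
          left_inv := fun x => rfl
          right_inv := fun x => rfl }
    rw [hcard]
    obtain ⟨S⟩ := (inferInstance : Nonempty (Sylow p (fixSub K B)))
    let S0 : Subgroup K := (S : Subgroup (fixSub K B)).map (fixSub K B).subtype
    have hS0 : Nat.card S0 = p ^ (Nat.card (fixSub K B)).factorization p := by
      rw [Subgroup.card_map_of_injective (fixSub K B).subtype_injective]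
      exact S.card_eq_multiplicity
    have hS0p : IsPGroup p S0 := S.isPGroup'.map _
    have hUn : B.map j ≤ Subgroup.normalizer ((S0.map i : Subgroup _) : Set (K ⋊[φ] A)) := by
      rintro _ ⟨b, hb, rfl⟩
      rw [Subgroup.mem_normalizer_iff]
      intro h
      have hfx : ∀ s ∈ S0, j b * i s * (j b)⁻¹ = i s := by
        rintro _ ⟨⟨s, hs⟩, -, rfl⟩
        rw [← hij]; exact congrArg i (hs b hb)
      constructor
      · rintro ⟨s, hs, rfl⟩
        exact ⟨s, hs, (hfx s hs).symm⟩
      · rintro ⟨s, hs, hse⟩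
        refine ⟨s, hs, ?_⟩
        have := hfx s hs
        rw [hse] at this ⊢
        have h2 : j b * (j b * h * (j b)⁻¹) = j b * h * (j b)⁻¹ * j b := mul_inv_eq_iff_eq_mul.mp this
        rw [inv_mul_cancel_right] at h2
        exact (mul_left_cancel h2)
    obtain ⟨Q, hUQ, hQ⟩ := CfsgLib.CoprimeAction.exists_invariant_sylow_ge (hnorm B) (hcopB B)
      (Or.inl (hsolB B)) (U := S0.map i) (Subgroup.map_le_range i S0) (hS0p.map i) hUn
    obtain ⟨⟨_, k, rfl⟩, hc, hcPQ⟩ := CfsgLib.CoprimeAction.invariant_sylow_conj (hnorm B) (hcopB B)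
      (Or.inl (hsolB B)) P Q (le_trans (Subgroup.map_mono le_top) hP) hQ
    have hk : k ∈ fixSub K B := fun b hb => hi (by
      rw [hij]
      exact mul_inv_eq_iff_eq_mul.mpr (Subgroup.mem_centralizer_iff.mp hc (j b) ⟨b, hb, rfl⟩))
    have hle : Nat.card S0 ≤ Nat.card (P0 ⊓ fixSub K B : Subgroup K) := by
      refine Nat.card_le_card_of_injective (fun s => ⟨k⁻¹ * s.1 * k, ?_, ?_⟩) ?_
      · have h1 : i s.1 ∈ (Q : Subgroup i.range).map i.range.subtype := hUQ ⟨s.1, s.2, rfl⟩
        rw [← hcPQ, Sylow.pointwise_smul_def, CfsgLib.CoprimeAction.map_conj_subtype,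
          CfsgLib.CoprimeAction.mem_conj_iff] at h1
        show i (k⁻¹ * s.1 * k) ∈ PG
        rw [map_mul, map_mul, map_inv]
        exact h1
      · obtain ⟨⟨s', hs'⟩, -, he⟩ := s.2
        exact (fixSub K B).mul_mem ((fixSub K B).mul_mem ((fixSub K B).inv_mem hk) (he ▸ hs')) hk
      · intro s t hst
        have := congrArg Subtype.val hst
        simpa using this
    obtain ⟨l, hl⟩ := (hP0p.to_le (inf_le_left : P0 ⊓ fixSub K B ≤ P0)).exists_card_eq
    have hdvd : Nat.card (P0 ⊓ fixSub K B : Subgroup K) ∣ Nat.card (fixSub K B) :=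
      Subgroup.card_dvd_of_le inf_le_right
    have hle2 : l ≤ (Nat.card (fixSub K B)).factorization p :=
      (hpp.pow_dvd_iff_le_factorization (Nat.card_pos.ne')).mp (hl ▸ hdvd)
    have hle1 : (Nat.card (fixSub K B)).factorization p ≤ l := by
      rw [hS0, hl] at hle
      exact (Nat.pow_le_pow_iff_right hpp.one_lt).mp hle
    rw [hl, le_antisymm hle1 hle2]
  have hprod : ∀ s : Finset ℕ, s ⊆ (Nat.card K).primeFactors →
      HasModel A (fun B => ∏ p ∈ s, p ^ (Nat.card (fixSub K B)).factorization p) := by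
    intro s
    induction s using Finset.induction with
    | empty => intro _; simpa using hasModel_one (A := A)
    | insert p s hps ih =>
      intro hs
      convert (hone p (hs (Finset.mem_insert_self p s))).mul
        (ih fun q hq => hs (Finset.mem_insert_of_mem hq)) using 1
      funext B
      rw [Finset.prod_insert hps]
  convert hprod _ Finset.Subset.rfl using 1
  funext B
  have h0 : Nat.card (fixSub K B) ≠ 0 := Nat.card_pos.ne'
  conv_lhs => rw [← Nat.prod_factorization_pow_eq_self h0]
  refine Finsupp.prod_of_support_subset _ ?_ _ (fun i _ => pow_zero i)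
  rw [Nat.support_factorization]
  exact Nat.primeFactors_mono (Subgroup.card_subgroup_dvd_card _) Nat.card_pos.ne'

end Model

/-- two points with trivial common stabiliser -/
theorem exists_pair_group {A K : Type u} [Group A] [Finite A] [Group K] [Finite K] [MulDistribMulAction A K]
    [FaithfulSMul A K] (hA : Group.IsSolvable A) (hcop : (Nat.card A).Coprime (Nat.card K)) :
    ∃ x y : K, ∀ a : A, a • x = x → a • y = y → a = 1 := by
  obtain ⟨W, _, _, _, hcr, hW⟩ := hasModel_coprime hA K hcop
  have hcardW : Nat.card W = Nat.card K := by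
    have h := hW ⊥
    rw [Nat.card_congr (Equiv.subtypeUnivEquiv (p := fun w : W => ∀ b ∈ (⊥ : Subgroup A), b • w = w)
      fun w b hb => by rw [Subgroup.mem_bot.mp hb, one_smul])] at h
    simp only at h
    rw [h, show fixSub K (⊥ : Subgroup A) = ⊤ from eq_top_iff.mpr fun x _ b hb => by
      rw [Subgroup.mem_bot.mp hb, one_smul], Subgroup.card_top]
  obtain ⟨v, w, hvw⟩ := exists_pair_coprime hA hcr (hcardW ▸ hcop)
  have hfree : MulAction.stabilizer A (v, w) = ⊥ := by
    rw [eq_bot_iff]
    intro a ha
    have h1 := congrArg Prod.fst (MulAction.mem_stabilizer_iff.mp ha)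
    have h2 := congrArg Prod.snd (MulAction.mem_stabilizer_iff.mp ha)
    have hall := hvw a h1 h2
    have hfW : ∀ b ∈ Subgroup.zpowers a, ∀ x : W, b • x = x := by
      intro b hb x
      exact (Subgroup.zpowers_le (H := MulAction.stabilizer A x)).mpr (hall x) hb
    have h := hW (Subgroup.zpowers a)
    rw [Nat.card_congr (Equiv.subtypeUnivEquiv
      (p := fun x : W => ∀ b ∈ Subgroup.zpowers a, b • x = x) fun x b hb => hfW b hb x), hcardW] at h
    have htop := Subgroup.eq_top_of_card_eq _ h.symm
    rw [Subgroup.mem_bot]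
    refine FaithfulSMul.eq_of_smul_eq_smul fun x : K => ?_
    rw [one_smul]
    exact (htop.ge (Subgroup.mem_top x)) a (Subgroup.mem_zpowers a)
  obtain ⟨⟨x, y⟩, hxy⟩ := regular_transfer (X := K × K) (Y := W × W) (fun B => by
    have e1 : Nat.card {p : K × K // ∀ b ∈ B, b • p = p} = Nat.card (fixSub K B) * Nat.card (fixSub K B) := by
      rw [← Nat.card_prod]
      exact Nat.card_congr
        { toFun := fun w => (⟨w.1.1, fun b hb => congrArg Prod.fst (w.2 b hb)⟩,
            ⟨w.1.2, fun b hb => congrArg Prod.snd (w.2 b hb)⟩)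
          invFun := fun p => ⟨(p.1.1, p.2.1), fun b hb => Prod.ext (p.1.2 b hb) (p.2.2 b hb)⟩
          left_inv := fun w => rfl
          right_inv := fun p => rfl }
    have e2 : Nat.card {p : W × W // ∀ b ∈ B, b • p = p} =
        Nat.card {w : W // ∀ b ∈ B, b • w = w} * Nat.card {w : W // ∀ b ∈ B, b • w = w} := by
      rw [← Nat.card_prod]
      exact Nat.card_congr
        { toFun := fun w => (⟨w.1.1, fun b hb => congrArg Prod.fst (w.2 b hb)⟩,
            ⟨w.1.2, fun b hb => congrArg Prod.snd (w.2 b hb)⟩)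
          invFun := fun p => ⟨(p.1.1, p.2.1), fun b hb => Prod.ext (p.1.2 b hb) (p.2.2 b hb)⟩
          left_inv := fun w => rfl
          right_inv := fun p => rfl }
    rw [e1, e2, hW]) (v, w) hfree
  refine ⟨x, y, fun a ha hb => ?_⟩
  rw [← Subgroup.mem_bot, ← hxy]
  exact MulAction.mem_stabilizer_iff.mpr (Prod.ext ha hb)

end CfsgLib.BaseThree
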