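import Cfsg.Agent.Lib.BaseCoprime.Check
import Mathlib
/-
Bit masks as binary vectors, and the elementary properties of the search functions.
-/
set_option autoImplicit false

namespace CfsgLib.BaseThree

/-- the binary vector of a mask -/
def mask (d w : ℕ) : Fin d → ZMod 2 := fun i => if w.testBit i then 1 else 0

theorem mask_xor (d a b : ℕ) : mask d (a ^^^ b) = mask d a + mask d b := funext fun i => by
  simp only [mask, Pi.add_apply, Nat.testBit_xor]
  cases a.testBit i <;> cases b.testBit i <;> simp <;> decide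

theorem mask_zero (d : ℕ) : mask d 0 = 0 := funext fun i => by simp [mask]

theorem mask_pow {d i : ℕ} (hi : i < d) : mask d (2 ^ i) = Pi.single ⟨i, hi⟩ 1 := funext fun j => by
  by_cases h : i = j.val
  · subst h; simp [mask, Nat.testBit_two_pow]
  · simp [mask, Nat.testBit_two_pow, h, Fin.ext_iff, Pi.single_apply, Ne.symm h]

theorem mask_inj {d a b : ℕ} (ha : a < 2 ^ d) (hb : b < 2 ^ d) (h : mask d a = mask d b) : a = b := by
  refine Nat.eq_of_testBit_eq fun i => ?_
  by_cases hi : i < d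
  · have := congrFun h ⟨i, hi⟩
    simp only [mask] at this
    cases ha' : a.testBit i <;> cases hb' : b.testBit i <;> simp [ha', hb'] at this ⊢
  · have hle : 2 ^ d ≤ 2 ^ i := Nat.pow_le_pow_right two_pos (Nat.not_lt.mp hi)
    rw [Nat.testBit_lt_two_pow (lt_of_lt_of_le ha hle), Nat.testBit_lt_two_pow (lt_of_lt_of_le hb hle)]

/-- the mask of a binary vector -/
def code {d : ℕ} (v : Fin d → ZMod 2) : ℕ := Nat.ofBits fun i => decide (v i = 1)

theorem code_lt {d : ℕ} (v : Fin d → ZMod 2) : code v < 2 ^ d := Nat.ofBits_lt_two_pow _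

theorem mask_code {d : ℕ} (v : Fin d → ZMod 2) : mask d (code v) = v := funext fun i => by
  simp only [mask, code, Nat.testBit_ofBits_lt _ i.val i.2]
  rcases (show ∀ x : ZMod 2, x = 0 ∨ x = 1 by decide) (v i) with h | h <;> simp [h]

theorem code_mask {d w : ℕ} (hw : w < 2 ^ d) : code (mask d w) = w :=
  mask_inj (code_lt _) hw (mask_code _)

theorem code_zero (d : ℕ) : code (0 : Fin d → ZMod 2) = 0 := by
  rw [← mask_zero d, code_mask (Nat.two_pow_pos d)]

theorem xor_pow_lt {k w : ℕ} (h1 : 2 ^ k ≤ w) (h2 : w < 2 ^ (k + 1)) : w ^^^ 2 ^ k < 2 ^ k := by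
  refine Nat.lt_pow_two_of_testBit _ fun i hi => ?_
  rw [Nat.testBit_xor, Nat.testBit_two_pow]
  rcases Nat.eq_or_lt_of_le hi with rfl | hlt
  · obtain ⟨c, rfl⟩ : ∃ c, w = 2 ^ k + c := ⟨w - 2 ^ k, by omega⟩
    rw [pow_succ] at h2
    simp [Nat.testBit_two_pow_add_eq, Nat.testBit_lt_two_pow (show c < 2 ^ k by omega)]
  · rw [Nat.testBit_lt_two_pow (lt_of_lt_of_le h2 (Nat.pow_le_pow_right two_pos hlt))]
    simp [Nat.ne_of_lt hlt]

theorem add_pow_eq_xor {k w : ℕ} (hw : w < 2 ^ k) : 2 ^ k + w = w ^^^ 2 ^ k := by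
  refine Nat.eq_of_testBit_eq fun i => ?_
  rw [Nat.testBit_xor, Nat.testBit_two_pow]
  rcases lt_trichotomy i k with h | rfl | h
  · rw [Nat.testBit_two_pow_add_gt h]; simp [Nat.ne_of_gt h]
  · rw [Nat.testBit_two_pow_add_eq, Nat.testBit_lt_two_pow hw]; simp
  · have h2 : 2 ^ k + w < 2 ^ i := by
      have : 2 ^ (k + 1) ≤ 2 ^ i := Nat.pow_le_pow_right two_pos h
      rw [pow_succ] at this; omega
    rw [Nat.testBit_lt_two_pow h2,
      Nat.testBit_lt_two_pow (show w < 2 ^ i by omega)]
    simp [Nat.ne_of_lt h]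

open Check

theorem imgOf_xor (l : List ℕ) : ∀ a b : ℕ, imgOf l (a ^^^ b) = imgOf l a ^^^ imgOf l b := by
  induction l with
  | nil => intro a b; simp [imgOf]
  | cons x l ih =>
    intro a b
    simp only [imgOf, Nat.xor_div_two, ih]
    have e : (((a ^^^ b) % 2 == 1) : Bool) = ((a % 2 == 1) != (b % 2 == 1)) := by
      have h : (a ^^^ b) % 2 = 1 ↔ ¬ (a % 2 = 1 ↔ b % 2 = 1) := Nat.xor_mod_two_eq_one
      rcases Nat.mod_two_eq_zero_or_one (a ^^^ b) with hc | hc <;>
        rcases Nat.mod_two_eq_zero_or_one a with ha | ha <;>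
        rcases Nat.mod_two_eq_zero_or_one b with hb | hb <;>
        rw [hc, ha, hb] at h ⊢ <;> first | rfl | (exfalso; revert h; decide)
    rw [e]
    cases (a % 2 == 1) <;> cases (b % 2 == 1) <;>
      simp [Nat.xor_assoc, Nat.xor_comm, Nat.xor_left_comm]

theorem imgOf_zero : ∀ l : List ℕ, imgOf l 0 = 0
  | [] => rfl
  | x :: l => by simp [imgOf, imgOf_zero l]

theorem imgOf_pow : ∀ (l : List ℕ) (i : ℕ), imgOf l (2 ^ i) = l.getD i 0
  | [], i => by simp [imgOf]
  | x :: l, 0 => by simp [imgOf, imgOf_zero]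
  | x :: l, i + 1 => by
    simp only [imgOf, pow_succ, Nat.mul_mod_left, Nat.mul_div_cancel _ two_pos, imgOf_pow l i]
    simp

theorem parity_xor : ∀ (k a b : ℕ), parity k (a ^^^ b) = (parity k a != parity k b)
  | 0, a, b => by simp [parity]
  | k + 1, a, b => by
    simp only [parity, Nat.xor_div_two, parity_xor k]
    have e : (((a ^^^ b) % 2 == 1) : Bool) = ((a % 2 == 1) != (b % 2 == 1)) := by
      have h : (a ^^^ b) % 2 = 1 ↔ ¬ (a % 2 = 1 ↔ b % 2 = 1) := Nat.xor_mod_two_eq_one
      rcases Nat.mod_two_eq_zero_or_one (a ^^^ b) with hc | hc <;>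
        rcases Nat.mod_two_eq_zero_or_one a with ha | ha <;>
        rcases Nat.mod_two_eq_zero_or_one b with hb | hb <;>
        rw [hc, ha, hb] at h ⊢ <;> first | rfl | (exfalso; revert h; decide)
    rw [e]
    cases (a % 2 == 1) <;> cases (b % 2 == 1) <;> cases parity k (a / 2) <;> cases parity k (b / 2) <;> rfl

theorem parity_zero : ∀ k, parity k 0 = false
  | 0 => rfl
  | k + 1 => by simp [parity, parity_zero k]

theorem parity_pow : ∀ (k j : ℕ), parity k (2 ^ j) = decide (j < k)
  | 0, j => by simp [parity]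
  | k + 1, 0 => by simp [parity, parity_zero]
  | k + 1, j + 1 => by
    simp [parity, pow_succ, parity_pow k j]

theorem phaseFrom_append (D : Mono) (w : ℕ) (e : ℕ × ℕ × ℕ) :
    ∀ (l : List (ℕ × ℕ × ℕ)) (i r : ℕ),
      D.phaseFrom w (l ++ [e]) i r = D.phaseStep w (i + l.length) e (D.phaseFrom w l i r)
  | [], i, r => by simp [Mono.phaseFrom, withNat_eq]
  | x :: l, i, r => by
    simp only [List.cons_append, Mono.phaseFrom, withNat_eq, phaseFrom_append D w e l, List.length_cons]
    rw [show i + 1 + l.length = i + (l.length + 1) by omega]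

theorem phaseFrom_congr (D : Mono) {w w' : ℕ} :
    ∀ (l : List (ℕ × ℕ × ℕ)) (i r : ℕ), (∀ j, j < i + l.length → w.testBit j = w'.testBit j) →
      D.phaseFrom w l i r = D.phaseFrom w' l i r
  | [], i, r, _ => rfl
  | x :: l, i, r, h => by
    have e1 : w / 2 ^ i % 2 = w' / 2 ^ i % 2 := by
      have := h i (by simp)
      rw [Nat.testBit_eq_decide_div_mod_eq, Nat.testBit_eq_decide_div_mod_eq] at this
      simp only [decide_eq_decide] at this
      omega
    have e2 : w &&& x.2.2 &&& (2 ^ i - 1) = w' &&& x.2.2 &&& (2 ^ i - 1) := by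
      refine Nat.eq_of_testBit_eq fun j => ?_
      simp only [Nat.testBit_and, Nat.testBit_two_pow_sub_one]
      by_cases hj : j < i
      · rw [h j (by simp; omega)]
      · simp [hj]
    simp only [Mono.phaseFrom, withNat_eq, Mono.phaseStep, e1, e2]
    exact phaseFrom_congr D l (i + 1) _ fun j hj => h j (by simp only [List.length_cons]; omega)

end CfsgLib.BaseThree
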