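import Cfsg.Agent.Lib.BaseCoprime.Check
/-
Monomial data for the eigenline model and their checked properties.
-/
set_option autoImplicit false
set_option maxRecDepth 100000
set_option maxHeartbeats 1000000

namespace CfsgLib.BaseThree.Check

/-- multiplication of signs -/
def tbl2 : List (List Nat) := [[0, 1], [1, 0]]
/-- addition modulo four -/
def tbl4 : List (List Nat) := [[0, 1, 2, 3], [1, 2, 3, 0], [2, 3, 0, 1], [3, 0, 1, 2]]
/-- addition modulo eight -/
def tbl8 : List (List Nat) := [[0, 1, 2, 3, 4, 5, 6, 7], [1, 2, 3, 4, 5, 6, 7, 0], [2, 3, 4, 5, 6, 7, 0, 1], [3, 4, 5, 6, 7, 0, 1, 2], [4, 5, 6, 7, 0, 1, 2, 3], [5, 6, 7, 0, 1, 2, 3, 4], [6, 7, 0, 1, 2, 3, 4, 5], [7, 0, 1, 2, 3, 4, 5, 6]]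
/-- quaternion group -/
def tblQ : List (List Nat) := [[0, 1, 2, 3, 4, 5, 6, 7], [1, 5, 0, 4, 7, 2, 3, 6], [2, 0, 5, 6, 3, 1, 7, 4], [3, 6, 4, 5, 1, 7, 2, 0], [4, 3, 7, 2, 5, 6, 0, 1], [5, 2, 1, 7, 6, 0, 4, 3], [6, 7, 3, 1, 0, 4, 5, 2], [7, 4, 6, 0, 2, 3, 1, 5]]

/-- monomial data -/
def monoQ8 : Mono := ⟨3, 8, tblQ, 5, [0, 1, 2, 3, 4, 5, 6, 7], [none, some 3, some 2, some 6, some 2, some 3, none, some 5]⟩

theorem monoQ8_ok : monoQ8.moves = [] ∧ monoQ8.spans = true := by decide +kernel

/-- monomial data -/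
def monoQ8_4 : Mono := ⟨4, 8, tblQ, 5, [0, 1, 2, 3, 4, 5, 6, 7], [none, some 5, none, some 2, some 3, some 2, some 2, some 5, none, some 2, none, some 6, some 5, some 5, some 7, some 6]⟩

theorem monoQ8_4_ok : monoQ8_4.moves = [] ∧ monoQ8_4.spans = true := by decide +kernel

/-- monomial data -/
def mono9_3 : Mono := ⟨3, 8, tbl8, 4, [0, 2, 4, 6], [none, some 1, some 1, some 0, some 6, some 1, some 0, none]⟩

theorem mono9_3_ok : mono9_3.moves = [] ∧ mono9_3.spans = true := by decide +kernel

/-- monomial data -/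
def mono9_4 : Mono := ⟨4, 8, tbl8, 4, [0, 2, 4, 6], [none, some 7, some 5, some 1, some 7, some 4, some 2, some 3, some 0, some 4, some 2, some 0, some 0, some 3, some 6, some 3]⟩

theorem mono9_4_ok : mono9_4.moves = [] ∧ mono9_4.spans = true := by decide +kernel

/-- monomial data -/
def mono5_4 : Mono := ⟨4, 4, tbl4, 2, [0, 1, 2, 3], [none, some 2, some 0, some 2, some 3, some 3, some 3, some 0, some 3, some 1, some 0, none, some 3, some 0, some 0, none]⟩

theorem mono5_4_ok : mono5_4.moves = [] ∧ mono5_4.spans = true := by decide +kernel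

/-- monomial data -/
def mono1_5 : Mono := ⟨5, 1, [[0]], 0, [0], [none, some 0, some 0, some 0, none, some 0, some 0, none, none, some 0, some 0, some 0, none, none, none, some 0, none, none, some 0, some 0, none, some 0, none, some 0, none, none, some 0, some 0, some 0, some 0, some 0, some 0]⟩

theorem mono1_5_ok : mono1_5.moves = [] ∧ mono1_5.spans = true := by decide +kernel

/-- monomial data with two coordinates over the field of nine elements -/
def mono9_2 : List Mono := [⟨2, 8, tbl8, 4, [0, 2, 4, 6], [none, some 0, some 0, some 1]⟩, ⟨2, 8, tbl8, 4, [0, 2, 4, 6], [none, some 0, some 1, some 0]⟩]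

/-- their moves -/
def moves9_2 : List (List (List Nat)) := [[[0, 2, 1, 3]], [[0, 3, 2, 1]]]

/-- the certificate -/
def tree9_2 : Tree := .node 0 [.node 1 [.bad [0, 1] 1]]

/-- all moves of one datum are listed -/
def listedAt (Ds : List Mono) (L : List (List (List Nat))) (j : Nat) : Bool :=
  (Ds.getD j ⟨0, 0, [], 0, [], []⟩).spans &&
    (Ds.getD j ⟨0, 0, [], 0, [], []⟩).moves.all fun t => (L.getD j []).contains t

/-- all moves of the data are listed -/
def listed (Ds : List Mono) (L : List (List (List Nat))) : Bool :=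
  Ds.length == L.length && (List.range Ds.length).all fun j => listedAt Ds L j

theorem mono9_2_listed : listed mono9_2 moves9_2 = true := by decide +kernel

theorem tree9_2_ok : treeOK 3 4 moves9_2 tree9_2 [] = true := by decide +kernel

end CfsgLib.BaseThree.Check
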