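import Cfsg.Agent.Lib.BaseCoprime.Masks
import Mathlib
/-
Soundness of the monomial search: a compatible map of masks is trivial or among the moves, and
tables of maps compose.
-/
set_option autoImplicit false

namespace CfsgLib.BaseThree

open Check

variable {d : ℕ}

theorem code_add (a b : Fin d → ZMod 2) : code (a + b) = code a ^^^ code b := by
  refine mask_inj (code_lt _) (Nat.xor_lt_two_pow (code_lt a) (code_lt b)) ?_
  rw [mask_code, mask_xor, mask_code, mask_code]

theorem code_eq_zero {a : Fin d → ZMod 2} (h : code a = 0) : a = 0 := by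
  rw [← mask_code a, h, mask_zero]

theorem code_injective : Function.Injective (code : (Fin d → ZMod 2) → ℕ) := fun a b h => by
  rw [← mask_code a, ← mask_code b, h]

theorem imgOf_append : ∀ (l l' : List ℕ) (w : ℕ), w < 2 ^ l.length → imgOf (l ++ l') w = imgOf l w
  | [], l', w, h => by
    have : w = 0 := by simpa using h
    subst this
    simp [imgOf, imgOf_zero]
  | x :: l, l', w, h => by
    simp only [List.cons_append, imgOf]
    rw [imgOf_append l l' (w / 2) (by rw [List.length_cons, pow_succ] at h; omega)]

/-- the table of a map of binary vectors -/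
def tabOf (M : (Fin d → ZMod 2) → Fin d → ZMod 2) : List ℕ :=
  (List.range (2 ^ d)).map fun w => code (M (mask d w))

theorem tabOf_id {M : (Fin d → ZMod 2) → Fin d → ZMod 2} :
    tabOf M = List.range (2 ^ d) ↔ ∀ v, M v = v := by
  constructor
  · intro h v
    have h1 : (tabOf M)[code v]? = (List.range (2 ^ d))[code v]? := by rw [h]
    simp only [tabOf, List.getElem?_map, List.getElem?_range (code_lt v), Option.map_some,
      Option.some.injEq, mask_code] at h1
    exact code_injective h1
  · intro h
    refine List.ext_getElem (by simp [tabOf]) fun i h1 h2 => ?_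
    simp only [tabOf, List.getElem_map, List.getElem_range, h]
    exact code_mask (by simpa using h2)

theorem pmul_tabOf (M N : (Fin d → ZMod 2) → Fin d → ZMod 2) :
    pmul (tabOf M) (tabOf N) = tabOf fun v => M (N v) := by
  simp only [pmul, tabOf, List.map_map]
  refine List.map_congr_left fun w _ => ?_
  have hc := code_lt (N (mask d w))
  simp [List.getD_eq_getElem?_getD, List.getElem?_map, List.getElem?_range hc, mask_code]

theorem ppow_tabOf (M : (Fin d → ZMod 2) → Fin d → ZMod 2) : ∀ n : ℕ,
    ppow (tabOf M) n = tabOf (M^[n])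
  | 0 => by
    rw [show ppow (tabOf M) 0 = List.range (2 ^ d) by simp [ppow, tabOf]]
    exact (tabOf_id.mpr fun v => rfl).symm
  | n + 1 => by
    rw [ppow, ppow_tabOf M n, pmul_tabOf]
    congr 1
    funext v
    exact (Function.iterate_succ_apply' M n v).symm

theorem imgOf_map (M : (Fin d → ZMod 2) →+ (Fin d → ZMod 2)) :
    ∀ (k : ℕ), k ≤ d → ∀ w < 2 ^ k,
      imgOf ((List.range k).map fun i => code (M (mask d (2 ^ i)))) w = code (M (mask d w))
  | 0, _, w, hw => by
    have : w = 0 := by simpa using hw
    subst this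
    simp [imgOf_zero, mask_zero, code_zero]
  | k + 1, hk, w, hw => by
    have ih := imgOf_map M k (by omega)
    rw [List.range_succ, List.map_append, List.map_singleton]
    by_cases h : w < 2 ^ k
    · rw [imgOf_append _ _ _ (by simpa using h), ih w h]
    · have h' := xor_pow_lt (Nat.le_of_not_lt h) hw
      obtain ⟨w', hw', rfl⟩ : ∃ w', w' < 2 ^ k ∧ w = w' ^^^ 2 ^ k :=
        ⟨w ^^^ 2 ^ k, h', by rw [Nat.xor_assoc, Nat.xor_self, Nat.xor_zero]⟩
      rw [imgOf_xor, imgOf_append _ _ _ (by simpa using hw'), ih w' hw', imgOf_pow, mask_xor, map_add,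
        code_add]
      congr 1
      simp [List.getD_eq_getElem?_getD]

/-- the search contains every compatible choice -/
theorem tab_mem (D : Mono) (hd : D.d = d) (M : (Fin d → ZMod 2) →+ (Fin d → ZMod 2))
    (p b : ℕ → ℕ) (hp : ∀ k < d, p k ∈ D.allowed)
    (hb : ∀ k < d, b k < if D.neg = 0 then 1 else 2 ^ k)
    (hok : ∀ k < d, ∀ w, 2 ^ k ≤ w → w < 2 ^ (k + 1) →
      D.okAt ((List.range (k + 1)).map fun i => (code (M (mask d (2 ^ i))), p i, b i)) w = true) :
    tabOf M = List.range (2 ^ d) ∨ tabOf M ∈ D.moves := by
  refine (em _).imp_right fun hne => ?_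
  subst hd
  let e : ℕ → ℕ × ℕ × ℕ := fun i => (code (M (mask D.d (2 ^ i))), p i, b i)
  have hmem : (List.range D.d).map e ∈ leaves D.cand D.d [] := by
    refine mem_leaves D.cand e D.d fun k hk => ?_
    have hlen : ((List.range k).map e).length = k := by simp
    have happ : (List.range k).map e ++ [e k] = (List.range (k + 1)).map e := by
      rw [List.range_succ, List.map_append, List.map_singleton]
    have hw0 : 2 ^ k < 2 ^ (k + 1) := Nat.pow_lt_pow_right one_lt_two (Nat.lt_succ_self k)
    have h0 := hok k hk (2 ^ k) le_rfl hw0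
    -- the value of the first test does not depend on the signs
    have hfirst : D.okAt ((List.range k).map e ++ [((e k).1, p k, 0)]) (2 ^ k) = true := by
      rw [← h0]
      change _ = D.okAt ((List.range (k + 1)).map e) (2 ^ k)
      rw [← happ]
      simp only [Mono.okAt, withNat_eq, List.map_append, List.map_singleton, Mono.phase,
        phaseFrom_append, hlen, Nat.zero_add]
      have e0 : ∀ c : ℕ, 2 ^ k &&& c &&& (2 ^ k - 1) = 0 := fun c => Nat.eq_of_testBit_eq fun i => by
        by_cases hi : k = i
        · subst hi; simp [Nat.testBit_two_pow_sub_one]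
        · simp [Nat.testBit_two_pow, hi]
      simp only [Mono.phaseStep, e0, e]
    have hsome : ((e k).1 != 0 &&
        ((D.val.getD (2 ^ k) none).isSome == (D.val.getD (e k).1 none).isSome)) = true := by
      have h1 := h0
      simp only [Mono.okAt, withNat_eq, List.map_map] at h1
      rw [show ((fun e : ℕ × ℕ × ℕ => e.1) ∘ fun i => (code (M (mask D.d (2 ^ i))), p i, b i)) =
        fun i => code (M (mask D.d (2 ^ i))) from rfl, imgOf_map M (k + 1) hk _ hw0,
        Bool.and_eq_true] at h1
      rw [Bool.and_eq_true]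
      refine ⟨h1.1, ?_⟩
      have h2 := h1.2
      change ((D.val.getD (2 ^ k) none).isSome == (D.val.getD (code (M (mask D.d (2 ^ k)))) none).isSome) = true
      clear h1
      revert h2
      cases D.val.getD (2 ^ k) none <;> cases D.val.getD (code (M (mask D.d (2 ^ k)))) none <;> simp
    simp only [Mono.cand, hlen, List.mem_flatMap, List.mem_filter, List.mem_map, List.mem_range,
      List.all_eq_true]
    refine ⟨(e k).1, ⟨code_lt _, hsome⟩, ((e k).1, p k, 0), ⟨⟨p k, hp k hk, rfl⟩, hfirst⟩,
      ⟨b k, ?_, rfl⟩, fun w hw => ?_⟩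
    · have := hb k hk
      by_cases hn : D.neg = 0
      · simpa [hn] using this
      · simpa [hn] using this
    · change D.okAt ((List.range k).map e ++ [e k]) (2 ^ k + w) = true
      rw [happ]
      exact hok k hk _ (Nat.le_add_right _ _) (by rw [pow_succ]; omega)
  refine List.mem_filter.mpr ⟨List.mem_map.mpr ⟨_, hmem, ?_⟩, by simpa using hne⟩
  simp only [table, tabOf, List.map_map]
  exact List.map_congr_left fun w hw => imgOf_map M D.d le_rfl w (List.mem_range.mp hw)

theorem span_sound (P : AddSubgroup (Fin d → ZMod 2)) : ∀ (l : List ℕ),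
    (∀ x ∈ l, mask d x ∈ P) → ∀ w ∈ span l, mask d w ∈ P
  | [], _, w, hw => by simp [span] at hw; subst hw; rw [mask_zero]; exact P.zero_mem
  | x :: l, h, w, hw => by
    have ih := span_sound P l fun y hy => h y (List.mem_cons_of_mem _ hy)
    simp only [span] at hw
    split at hw
    · exact ih w hw
    rcases List.mem_append.mp hw with hw | hw
    · exact ih w hw
    · obtain ⟨y, hy, rfl⟩ := List.mem_map.mp hw
      rw [mask_xor]
      exact P.add_mem (ih y hy) (h x (List.mem_cons_self ..))

theorem spans_sound (D : Mono) (hd : D.d = d) (h : D.spans = true) :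
    ∃ T : Set (Fin d → ZMod 2), AddSubgroup.closure T = ⊤ ∧ ∀ x ∈ T,
      D.supp (code x) = true ∧ AddSubgroup.closure
        {y | D.supp (code y) = true ∧ D.supp (code (x + y)) = true} = ⊤ := by
  subst hd
  simp only [Mono.spans, List.all_eq_true, List.mem_range, List.contains_iff_mem] at h
  let all := List.range (2 ^ D.d)
  have full : ∀ (l : List ℕ) (P : AddSubgroup (Fin D.d → ZMod 2)),
      (∀ w, w < 2 ^ D.d → w ∈ span l) → (∀ x ∈ l, mask D.d x ∈ P) → P = ⊤ := fun l P hl hP =>
    eq_top_iff.mpr fun v _ => by
      have := span_sound P l hP (code v) (hl _ (code_lt v))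
      rwa [mask_code] at this
  refine ⟨{v | D.supp (code v) = true ∧ AddSubgroup.closure
      {y | D.supp (code y) = true ∧ D.supp (code (v + y)) = true} = ⊤}, ?_, fun x hx => hx⟩
  refine full _ _ h fun x hx => AddSubgroup.subset_closure ?_
  simp only [List.mem_filter, List.mem_range, Bool.and_eq_true, List.all_eq_true,
    List.contains_iff_mem] at hx
  obtain ⟨hxd, hxs, hxspan⟩ := hx
  refine ⟨by rw [code_mask hxd]; exact hxs, full _ _ hxspan fun y hy => AddSubgroup.subset_closure ?_⟩
  simp only [List.mem_filter, List.mem_range, Bool.and_eq_true] at hy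
  refine ⟨by rw [code_mask hy.1]; exact hy.2.1, ?_⟩
  rw [← mask_xor, code_mask (Nat.xor_lt_two_pow hxd hy.1)]
  exact hy.2.2

end CfsgLib.BaseThree
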