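import Cfsg.Agent.Lib.BaseCoprime.Check
import Mathlib
/-
Soundness of the certificates: a set of tables closed under products, without elements of order `p`,
cannot meet every listed set.
-/
set_option autoImplicit false

namespace CfsgLib.BaseThree.Check

theorem ppow_mem {p size : Nat} (L : List Nat → Prop) (hlen : ∀ P, L P → P.length = size)
    (hid : L (List.range size)) (hmul : ∀ a b, L a → L b → L (pmul a b)) {a : List Nat} (ha : L a) :
    ∀ n, L (ppow a n)
  | 0 => by simpa [ppow, hlen a ha] using hid
  | n + 1 => hmul _ _ ha (ppow_mem (p := p) L hlen hid hmul ha n)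

theorem walk_sound {p size : Nat} {S : List (List (List Nat))} (L : List Nat → Prop)
    (hlen : ∀ P, L P → P.length = size) (hid : L (List.range size))
    (hmul : ∀ a b, L a → L b → L (pmul a b))
    (hp : ∀ Q, L Q → ppow Q p = List.range size → Q = List.range size)
    (hS : ∀ j, j < S.length → ∃ g ∈ S.getD j [], L g) (t : Tree) :
    ∀ (path elems : List (List Nat)), (∀ i, i < path.length → L (path.getD i [])) →
      (walk p size S t false path elems = true → False) ∧
        (walk p size S t true path elems = true → ∀ g ∈ elems, L g → False) := by
  induction t with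
  | bad word j =>
    intro path elems hpath
    refine ⟨fun h => ?_, fun h => by simp [walk] at h⟩
    simp only [walk, Bool.not_false, Bool.true_and, badWord, Bool.and_eq_true, bne_iff_ne, beq_iff_eq,
      List.all_eq_true, decide_eq_true_eq] at h
    obtain ⟨⟨hne, hpow⟩, hw⟩ := h
    have key : ∀ (w : List Nat), (∀ i ∈ w, i < path.length) → ∀ acc, L acc →
        L (w.foldl (fun acc i => pmul acc (path.getD i [])) acc) := by
      intro w
      induction w with
      | nil => intro _ acc ha; exact ha
      | cons i w ih =>
        intro hw acc ha
        exact ih (fun i' hi' => hw i' (List.mem_cons_of_mem _ hi')) _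
          (hmul _ _ ha (hpath i (hw i (List.mem_cons_self ..))))
    exact hne (hp _ (ppow_mem (p := p) L hlen hid hmul (key word hw _ hid) j) hpow)
  | branch idx kids ih =>
    intro path elems hpath
    refine ⟨fun h => ?_, fun h => by simp [walk] at h⟩
    simp only [walk, Bool.not_false, Bool.true_and, Bool.and_eq_true, decide_eq_true_eq] at h
    obtain ⟨g, hg, hgL⟩ := hS idx h.1
    exact (ih path (S.getD idx []) hpath).2 h.2 g hg hgL
  | nil =>
    intro path elems hpath
    refine ⟨fun h => by simp [walk] at h, fun h g hg _ => ?_⟩
    simp only [walk, Bool.true_and, List.isEmpty_iff] at h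
    simp [h] at hg
  | cons t ts iht ihts =>
    intro path elems hpath
    refine ⟨fun h => by simp [walk] at h, fun h g hg hgL => ?_⟩
    cases elems with
    | nil => simp at hg
    | cons e es =>
      simp only [walk, Bool.true_and, Bool.and_eq_true] at h
      rcases List.mem_cons.mp hg with rfl | hg'
      · refine (iht (path ++ [g]) [] (fun i hi => ?_)).1 h.1
        rcases Nat.lt_or_ge i path.length with hlt | hge
        · rw [List.getD_append _ _ _ _ hlt]; exact hpath i hlt
        · rw [List.getD_append_right _ _ _ _ hge]
          simp only [List.length_append, List.length_singleton] at hi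
          rw [show i - path.length = 0 by omega]
          exact hgL
      · exact (ihts path es hpath).2 h.2 g hg' hgL

theorem treeOK_sound {p size : Nat} {S : List (List (List Nat))} (L : List Nat → Prop)
    (hlen : ∀ P, L P → P.length = size) (hid : L (List.range size))
    (hmul : ∀ a b, L a → L b → L (pmul a b))
    (hp : ∀ Q, L Q → ppow Q p = List.range size → Q = List.range size)
    (hS : ∀ j, j < S.length → ∃ g ∈ S.getD j [], L g) (t : Tree) (path : List (List Nat))
    (hpath : ∀ i, i < path.length → L (path.getD i [])) (h : treeOK p size S t path = true) : False :=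
  (walk_sound L hlen hid hmul hp hS t path [] hpath).1 h

end CfsgLib.BaseThree.Check
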