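import Cfsg.Agent.Lib.BaseCoprime.Frame
import Cfsg.Agent.Lib.BaseCoprime.MonoSound
import Cfsg.Agent.Lib.BaseCoprime.TreeSound
import Cfsg.Agent.Lib.BaseCoprime.MonoData
/-
Two vectors from monomial data: components in the translates prescribed by a table of values.
-/
set_option autoImplicit false
set_option linter.unusedSectionVars false

universe u

open scoped commutatorElement

namespace CfsgLib.BaseThree

/-- the values form a group with a central sign, all entries in range -/
def Check.Mono.tableOK (D : Check.Mono) : Bool :=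
  decide (0 < D.m) && decide (D.neg < D.m) && (D.allowed.all fun f => decide (f < D.m)) &&
    (D.val.all fun v => match v with
      | none => true
      | some a => decide (a < D.m)) &&
    (List.range D.m).all fun a => D.op 0 a == a && D.op a D.neg == D.op D.neg a &&
      (List.range D.m).all fun b => decide (D.op a b < D.m) &&
        (List.range D.m).all fun c => D.op (D.op a b) c == D.op a (D.op b c)

theorem tableOK_spec {D : Check.Mono} (h : D.tableOK = true) :
    0 < D.m ∧ D.neg < D.m ∧ (∀ f ∈ D.allowed, f < D.m) ∧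
      (∀ w a, D.val.getD w none = some a → a < D.m) ∧ (∀ a < D.m, D.op 0 a = a) ∧
      (∀ a < D.m, D.op a D.neg = D.op D.neg a) ∧ (∀ a < D.m, ∀ b < D.m, D.op a b < D.m) ∧
      ∀ a < D.m, ∀ b < D.m, ∀ c < D.m, D.op (D.op a b) c = D.op a (D.op b c) := by
  simp only [Check.Mono.tableOK, Bool.and_eq_true, decide_eq_true_eq, List.all_eq_true,
    List.mem_range, beq_iff_eq] at h
  obtain ⟨⟨⟨⟨h1, h2⟩, h3⟩, h4⟩, h5⟩ := h
  refine ⟨h1, h2, h3, fun w a hw => ?_, fun a ha => (h5 a ha).1.1, fun a ha => (h5 a ha).1.2,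
    fun a ha b hb => ((h5 a ha).2 b hb).1, fun a ha b hb => ((h5 a ha).2 b hb).2⟩
  by_cases hlen : w < D.val.length
  · rw [List.getD_eq_getElem _ _ hlen] at hw
    simpa [hw] using h4 _ (List.getElem_mem hlen)
  · rw [List.getD_eq_default _ _ (Nat.le_of_not_lt hlen)] at hw
    cases hw

variable {K V H : Type u} [Field K] [Finite K] [AddCommGroup V] [Finite V] [Nontrivial V]
  [Module K V] [Group H] [Finite H] [DistribMulAction H V] [FaithfulSMul H V]

namespace Setup

variable (S : Setup K V H)

/-- fixing the line point and its translates under `Y`, linearly -/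
def Ctl (u : V) (g : H) : Prop := g ∈ S.C ∧ g • u = u ∧ ∀ y ∈ S.Y u, g • y • u = y • u

namespace Coords

variable {S} {u : V} (co : S.Coords u)

open Classical in
/-- a fixed sum of vectors from different eigenspaces has permuted components -/
theorem sum_map [Fintype ((i : Fin co.d) → ZMod (co.n i))] (hu : u ≠ 0)
    (F : ((i : Fin co.d) → ZMod (co.n i)) → V) (hF : ∀ w, S.InEig u (co.r w) (F w)) {g : H}
    (hg : g • u = u) (hfix : g • (∑ w, F w) = ∑ w, F w) : ∀ w, g • F w = F (co.M g w) := by
  intro w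
  let Me := Equiv.ofBijective (co.M g) ⟨co.M_injective hg,
    Finite.surjective_of_injective (co.M_injective hg)⟩
  have hsum : ∑ w', (g • F (Me.symm w') - F w') = 0 := by
    rw [Finset.sum_sub_distrib, Equiv.sum_comp Me.symm (fun w' => g • F w'),
      ← Finset.smul_sum, hfix, sub_self]
  have hIn : ∀ w', S.InEig u (co.r w') (g • F (Me.symm w') - F w') :=
    fun w' x hx c hc => by
      have h1 := co.inEig_map hg (hF (Me.symm w')) x hx c hc
      rw [show co.M g (Me.symm w') = w' from Me.apply_symm_apply w'] at h1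
      rw [smul_sub, h1, hF w' x hx c hc, ← smul_sub]
  have := co.indep hu Finset.univ _ (fun w' _ => hIn w') hsum (co.M g w) (Finset.mem_univ _)
  rw [show Me.symm (co.M g w) = w from Me.symm_apply_apply w] at this
  exact sub_eq_zero.mp this

/-- the induced map of binary vectors -/
def binMap (htwo : ∀ i, co.n i = 2) {g : H} (hg : g • u = u) :
    (Fin co.d → ZMod 2) →+ (Fin co.d → ZMod 2) :=
  AddMonoidHom.mk' (fun v => co.toBin htwo (co.M g ((co.toBin htwo).symm v))) fun a b => by
    rw [map_add, co.M_add hg, map_add]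

variable {htwo : ∀ i, co.n i = 2} {ys : Set H} (fr : co.Frame htwo ys)

theorem Frame.R_sq (v : Fin co.d → ZMod 2) : fr.R v * fr.R v = 1 := by
  rw [← fr.R_add, show v + v = 0 from funext fun i => by
    rcases zmod2_cases (v i) with h | h <;> simp [h]; decide, fr.R_zero]

/-- the components prescribed by a datum -/
noncomputable def monoComp (c₀ : V) (ν : ℕ → V) (D : Check.Mono)
    (w : (i : Fin co.d) → ZMod (co.n i)) : V :=
  open Classical in if w = 0 then c₀ else
    match D.val.getD (code (co.toBin htwo w)) none with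
    | some a => fr.R (co.toBin htwo w) (ν a)
    | none => 0

/-- a fixing element moves the masks by one of the listed moves -/
def MovesListed (c₀ : V) (ν : ℕ → V) (D : Check.Mono) : Prop :=
  ∀ (g : H) (hg : S.Ctl u g), (∀ w, g • co.monoComp fr c₀ ν D w = co.monoComp fr c₀ ν D (co.M g w)) →
    tabOf (co.binMap htwo hg.2.1) = List.range (2 ^ co.d) ∨ tabOf (co.binMap htwo hg.2.1) ∈ D.moves

/-- compatibility at a mask from the compatibility of the values -/
theorem okAt_of (c₀ : V) (ν : ℕ → V) (D : Check.Mono) {g : H} (hg : S.Ctl u g)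
    (hF : ∀ w, g • co.monoComp fr c₀ ν D w = co.monoComp fr c₀ ν D (co.M g w))
    (hν0 : ∀ w a, D.val.getD w none = some a → ν a ≠ 0) (pre : List (ℕ × ℕ × ℕ)) {w : ℕ}
    (hw0 : w ≠ 0) (hwd : w < 2 ^ co.d)
    (him : Check.imgOf (pre.map fun e => e.1) w = code (co.binMap htwo hg.2.1 (mask co.d w)))
    (hval : ∀ a b, D.val.getD w none = some a →
      g • fr.R (mask co.d w) (ν a) = fr.R (co.binMap htwo hg.2.1 (mask co.d w)) (ν b) →
      D.val.getD (code (co.binMap htwo hg.2.1 (mask co.d w))) none = some b →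
      D.op (D.phase pre w) a = b) :
    D.okAt pre w = true := by
  set e := co.toBin htwo
  set v := e.symm (mask co.d w) with hvdef
  have hv : v ≠ 0 := fun h => hw0 (by
    have h' := congrArg e h
    rw [hvdef, e.apply_symm_apply, map_zero] at h'
    rw [← code_mask hwd, h', code_zero])
  have hMv : co.M g v ≠ 0 := fun h => hv (co.M_injective hg.2.1 (by
    have h0 := co.M_add hg.2.1 0 0
    rw [add_zero] at h0
    rw [h, show co.M g 0 = 0 by simpa using h0]))
  have hMe : e (co.M g v) = co.binMap htwo hg.2.1 (mask co.d w) := rfl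
  have hne : code (co.binMap htwo hg.2.1 (mask co.d w)) ≠ 0 := fun h => hMv (by
    have := code_eq_zero h
    rw [← hMe] at this
    simpa using this)
  have h := hF v
  simp only [monoComp, if_neg hv, if_neg hMv] at h
  rw [show e v = mask co.d w from e.apply_symm_apply _, hMe, code_mask hwd] at h
  simp only [Check.Mono.okAt, Check.withNat_eq, him, Bool.and_eq_true, bne_iff_ne, ne_eq]
  refine ⟨hne, ?_⟩
  have hinj : ∀ (z : Fin co.d → ZMod 2) (x : V), fr.R z x = 0 → x = 0 := fun z x hz => by
    have h2 := LinearMap.congr_fun (fr.R_sq co z) x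
    simp only [Module.End.mul_apply, hz, map_zero, Module.End.one_apply] at h2
    exact h2.symm
  rcases ha : D.val.getD w none with _ | a <;>
    rcases hb : D.val.getD (code (co.binMap htwo hg.2.1 (mask co.d w))) none with _ | b <;>
    rw [ha, hb] at h <;> simp only
  · exfalso
    simp only [smul_zero] at h
    exact hν0 _ _ hb (hinj _ _ h.symm)
  · exfalso
    simp only at h
    rw [smul_eq_zero_iff_eq] at h
    exact hν0 _ _ ha (hinj _ _ h)
  · simpa using hval a b ha h hb

/-- data recording only the support -/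
theorem movesListed_supp (c₀ : V) (ν : ℕ → V) (D : Check.Mono) (hd : D.d = co.d)
    (hm : D.m = 1) (hneg : D.neg = 0) (ht : D.tableOK = true) (hall : 0 ∈ D.allowed)
    (hν : ν 0 ≠ 0) : co.MovesListed fr c₀ ν D := by
  obtain ⟨-, -, -, hval, hid, -, -, -⟩ := tableOK_spec ht
  intro g hg hF
  have h00 : D.op 0 0 = 0 := hid 0 (by omega)
  refine tab_mem D hd (co.binMap htwo hg.2.1) (fun _ => 0) (fun _ => 0) (fun _ _ => hall)
    (fun k _ => by simp [hneg]) fun k hk w hw hw' => ?_
  have hphase : ∀ (l : List ℕ) (f : ℕ → ℕ) (i : ℕ),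
      D.phaseFrom w (l.map fun j => (f j, 0, 0)) i 0 = 0 := by
    intro l f
    induction l with
    | nil => intro i; rfl
    | cons x l ih =>
      intro i
      simp only [List.map_cons, Check.Mono.phaseFrom, Check.withNat_eq]
      rw [show D.phaseStep w i (f x, 0, 0) 0 = 0 by simp [Check.Mono.phaseStep, hneg, h00], ih]
  refine co.okAt_of fr c₀ ν D hg hF (fun w a h => ?_) _ (by have := Nat.two_pow_pos k; omega)
    (lt_of_lt_of_le hw' (Nat.pow_le_pow_right two_pos hk)) ?_ fun a b ha _ hb => ?_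
  · rw [show a = 0 by have := hval w a h; omega]; exact hν
  · rw [List.map_map]
    exact imgOf_map _ (k + 1) hk w hw'
  · rw [show a = 0 by have := hval w a ha; omega, show b = 0 by have := hval _ b hb; omega]
    simp only [Check.Mono.phase]
    rw [hphase, h00]

/-- data recording values -/
theorem movesListed_values (hC : S.C ≠ S.A) (hu : S.IsBest u) (c₀ : V) (ν : ℕ → V) (D : Check.Mono)
    (hd : D.d = co.d) (ht : D.tableOK = true) (hneg0 : D.neg ≠ 0)
    (hν : ∀ a < D.m, ∃ k : K, k ≠ 0 ∧ ∃ z ∈ S.Y u, ν a = k • z • u)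
    (hinj : ∀ a < D.m, ∀ b < D.m, ν a = ν b → a = b)
    (hneg : ∀ a < D.m, ν (D.op D.neg a) = -ν a)
    (hallowed : ∀ (P : Module.End K V) c b, S.IsOp P c b → b ∈ S.Y u → (P * P = 1 ∨ P * P = -1) →
      ∃ f ∈ D.allowed, ∀ a < D.m, P (ν a) = ν (D.op f a)) : co.MovesListed fr c₀ ν D := by
  classical
  obtain ⟨hm, hnegm, hallm, hval, hid, hcomm, hclosed, hassoc⟩ := tableOK_spec ht
  intro g hg hF
  have hνne : ∀ a < D.m, ν a ≠ 0 := fun a ha h0 => by
    obtain ⟨k, hk, z, hz, e⟩ := hν a ha
    rw [e, smul_eq_zero] at h0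
    exact (smul_ne_zero_iff_ne _).mpr hu.1 (h0.resolve_left hk)
  have hfix : ∀ a < D.m, g • ν a = ν a := fun a ha => by
    obtain ⟨k, -, z, hz, e⟩ := hν a ha
    rw [e, S.C_linear hg.1, hg.2.2 z hz]
  let Mb := co.binMap htwo hg.2.1
  let T : (Fin co.d → ZMod 2) → Module.End K V := fun v => S.lin hg.1 * fr.R v * S.lin (inv_mem hg.1)
  let P : (Fin co.d → ZMod 2) → Module.End K V := fun v => fr.R (Mb v) * T v
  have hlin : S.lin (inv_mem hg.1) * S.lin hg.1 = 1 :=
    LinearMap.ext fun x => inv_smul_smul g x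
  have hlin' : S.lin hg.1 * S.lin (inv_mem hg.1) = 1 :=
    LinearMap.ext fun x => smul_inv_smul g x
  have hT : ∀ v v', T (v + v') = T v * T v' := fun v v' => by
    show _ * fr.R (v + v') * _ = (_ * fr.R v * _) * (_ * fr.R v' * _)
    rw [fr.R_add]
    simp only [mul_assoc]
    rw [← mul_assoc (S.lin (inv_mem hg.1)) (S.lin hg.1), hlin, one_mul]
  have hT0 : T 0 = 1 := by
    show _ * fr.R 0 * _ = 1
    rw [fr.R_zero, mul_one, hlin']
  have hPop : ∀ v, ∃ c b, S.IsOp (P v) c b ∧ b ∈ S.Y u := by
    intro v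
    obtain ⟨c, b, hb, hbv, -⟩ := fr.R_op v
    obtain ⟨c', b', hb', hbv', -⟩ := fr.R_op (Mb v)
    refine ⟨_, _, S.isOp_mul hb' (S.op_fix hg.1 hb),
      (co.ker _ (mul_mem hb'.2.1 (S.B_normal.conj_mem b hb.2.1 g))).mp ((co.toBin htwo).injective ?_)⟩
    rw [co.map_mul _ hb'.2.1 _ (S.B_normal.conj_mem b hb.2.1 g), map_add, hbv', map_zero]
    have : co.toBin htwo (co.f (g * b * g⁻¹)) = Mb v := by
      rw [← co.M_f hg.2.1 hb.2.1]
      show _ = co.toBin htwo (co.M g ((co.toBin htwo).symm v))
      rw [← hbv, AddEquiv.symm_apply_apply]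
    rw [this]
    exact funext fun i => by rcases zmod2_cases (Mb v i) with h | h <;> simp [h]; decide
  let δ : ℕ → Fin co.d → ZMod 2 := fun k => mask co.d (2 ^ k)
  let A : ℕ → Module.End K V → Module.End K V := fun k Q => fr.R (Mb (δ k)) * Q * fr.R (Mb (δ k))
  have hAmul : ∀ k Q Q', A k (Q * Q') = A k Q * A k Q' := fun k Q Q' => by
    show fr.R _ * (Q * Q') * fr.R _ = (fr.R _ * Q * fr.R _) * (fr.R _ * Q' * fr.R _)
    simp only [mul_assoc]
    rw [← mul_assoc (fr.R (Mb (δ k))) (fr.R (Mb (δ k))), fr.R_sq, one_mul]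
  have hAsmul : ∀ k (s : K) Q, A k (s • Q) = s • A k Q := fun k s Q => by
    simp only [A, mul_smul_comm, smul_mul_assoc]
  let sg : Bool → K := fun t => if t then -1 else 1
  have hsg : ∀ k v, A k (P v) = P v ∨ A k (P v) = (-1 : K) • P v := by
    intro k v
    obtain ⟨c, b, hb, -⟩ := hPop v
    obtain ⟨c', b', hb', -, -⟩ := fr.R_op (Mb (δ k))
    have e : A k (P v) = S.χ' ⁅b', b⁆ • P v := by
      show fr.R _ * P v * fr.R _ = _
      rw [S.op_comm hb' hb, smul_mul_assoc, mul_assoc, fr.R_sq, mul_one]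
    rcases co.comm_sign hC hu htwo hb'.2.1 hb.2.1 with h | h <;> rw [e, h]
    · exact Or.inl (one_smul _ _)
    · exact Or.inr rfl
  -- the factors of the generators
  have hp : ∀ k, ∃ f ∈ D.allowed, ∀ a < D.m, P (δ k) (ν a) = ν (D.op f a) := by
    intro k
    obtain ⟨c, b, hb, hbY⟩ := hPop (δ k)
    refine hallowed _ c b hb hbY ?_
    obtain ⟨c1, b1, h1, -, -⟩ := fr.R_op (Mb (δ k))
    obtain ⟨c2, b2, h2, -, -⟩ := fr.R_op (δ k)
    have h2' := S.op_fix hg.1 h2
    have hT2 : T (δ k) * T (δ k) = 1 := by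
      rw [← hT, show δ k + δ k = 0 from funext fun i => by
        rcases zmod2_cases (δ k i) with h | h <;> simp [h]; decide, hT0]
    have e : P (δ k) * P (δ k) = S.χ' ⁅b1, g * b2 * g⁻¹⁆ • (1 : Module.End K V) := by
      show fr.R _ * T (δ k) * (fr.R _ * T (δ k)) = _
      nth_rw 1 [show fr.R (Mb (δ k)) * T (δ k) = S.χ' ⁅b1, g * b2 * g⁻¹⁆ • (T (δ k) * fr.R (Mb (δ k))) from
        S.op_comm h1 h2']
      rw [smul_mul_assoc]
      congr 1
      simp only [mul_assoc]
      rw [← mul_assoc (fr.R (Mb (δ k))) (fr.R (Mb (δ k))), fr.R_sq, one_mul, hT2]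
    rcases co.comm_sign hC hu htwo h1.2.1 (S.B_normal.conj_mem b2 h2.2.1 g) with h | h <;>
      rw [e, h]
    · exact Or.inl (one_smul _ _)
    · exact Or.inr (neg_one_smul _ _)
  choose p hpA hpν using hp
  let bm : ℕ → ℕ := fun k => Nat.ofBits fun j : Fin k => decide (A k (P (δ j)) ≠ P (δ j))
  have hAgen : ∀ k j, j < k → A k (P (δ j)) = sg ((bm k).testBit j) • P (δ j) := by
    intro k j hj
    have e : (bm k).testBit j = decide (A k (P (δ j)) ≠ P (δ j)) := Nat.testBit_ofBits_lt _ j hj
    rw [e]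
    by_cases h : A k (P (δ j)) = P (δ j)
    · simp [sg, h]
    · simpa [sg, h] using (hsg k (δ j)).resolve_left h
  -- the recursion
  have hrec : ∀ v k, P (v + δ k) = A k (P v) * P (δ k) := by
    intro v k
    show fr.R (Mb (v + δ k)) * T (v + δ k) =
      fr.R _ * (fr.R (Mb v) * T v) * fr.R _ * (fr.R (Mb (δ k)) * T (δ k))
    rw [map_add, hT, add_comm (Mb v), fr.R_add]
    simp only [mul_assoc]
    rw [← mul_assoc (fr.R (Mb (δ k))) (fr.R (Mb (δ k))) (T (δ k)), fr.R_sq, one_mul]
  have hP0 : P (mask co.d 0) = 1 := by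
    show fr.R (Mb (mask co.d 0)) * T (mask co.d 0) = 1
    rw [mask_zero, map_zero, fr.R_zero, one_mul, hT0]
  have hsplit : ∀ n w, ¬ w < 2 ^ n → w < 2 ^ (n + 1) →
      w ^^^ 2 ^ n < 2 ^ n ∧ mask co.d w = mask co.d (w ^^^ 2 ^ n) + δ n := fun n w h h' =>
    ⟨xor_pow_lt (Nat.le_of_not_lt h) h',
      by rw [← mask_xor, Nat.xor_assoc, Nat.xor_self, Nat.xor_zero]⟩
  have claimA : ∀ n, ∀ w < 2 ^ n, ∀ k, n ≤ k →
      A k (P (mask co.d w)) = sg (Check.parity k (w &&& bm k)) • P (mask co.d w) := by
    intro n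
    induction n with
    | zero =>
      intro w hw k _
      have : w = 0 := by simpa using hw
      subst this
      show fr.R _ * P (mask co.d 0) * fr.R _ = _
      simp [hP0, fr.R_sq, sg, parity_zero]
    | succ n ih =>
      intro w hw k hk
      by_cases h : w < 2 ^ n
      · exact ih w h k (by omega)
      obtain ⟨h', hm'⟩ := hsplit n w h hw
      set w' := w ^^^ 2 ^ n
      have hwand : w &&& bm k = (w' &&& bm k) ^^^ (2 ^ n &&& bm k) := by
        rw [← Nat.and_xor_distrib_right]
        simp [w', Nat.xor_assoc]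
      have e2 : Check.parity k (2 ^ n &&& bm k) = (bm k).testBit n := by
        rw [Nat.two_pow_and]
        cases (bm k).testBit n
        · simp [parity_zero]
        · simp [parity_pow, show n < k by omega]
      rw [hm', hrec, ih w' h' n le_rfl, smul_mul_assoc, hAsmul, hAmul, ih w' h' k (by omega),
        hAgen k n (by omega), hwand, parity_xor, e2]
      rw [smul_mul_assoc, mul_smul_comm, smul_smul, smul_smul, smul_smul]
      congr 1
      simp only [sg]
      cases Check.parity k (w' &&& bm k) <;> cases Check.parity n (w' &&& bm n) <;>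
        cases (bm k).testBit n <;> simp
  let e : ℕ → ℕ × ℕ × ℕ := fun i => (code (Mb (δ i)), p i, bm i)
  have claimP : ∀ n, n ≤ co.d → ∀ w < 2 ^ n, D.phase ((List.range n).map e) w < D.m ∧
      ∀ a < D.m, P (mask co.d w) (ν a) = ν (D.op (D.phase ((List.range n).map e) w) a) := by
    intro n
    induction n with
    | zero =>
      intro _ w hw
      have : w = 0 := by simpa using hw
      subst this
      refine ⟨hm, fun a ha => ?_⟩
      rw [hP0, Module.End.one_apply]
      simp [Check.Mono.phase, Check.Mono.phaseFrom, hid a ha]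
    | succ n ih =>
      intro hn w hw
      have ih := ih (by omega)
      simp only [Check.Mono.phase, List.range_succ, List.map_append, List.map_singleton,
        phaseFrom_append, List.length_map, List.length_range, Nat.zero_add]
      by_cases h : w < 2 ^ n
      · have : w / 2 ^ n = 0 := Nat.div_eq_of_lt h
        simp only [Check.Mono.phaseStep, this]
        exact ih w h
      obtain ⟨h', hm'⟩ := hsplit n w h hw
      set w' := w ^^^ 2 ^ n
      have hdiv : w / 2 ^ n = 1 :=
        Nat.div_eq_of_lt_le (by omega) (by rw [pow_succ] at hw; omega)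
      have hlow : ∀ j, j < n → w.testBit j = w'.testBit j := fun j hj => by
        simp [w', Nat.testBit_xor, Nat.testBit_two_pow, Nat.ne_of_gt hj]
      have hand : w &&& bm n &&& (2 ^ n - 1) = w' &&& bm n := Nat.eq_of_testBit_eq fun j => by
        simp only [Nat.testBit_and, Nat.testBit_two_pow_sub_one]
        by_cases hj : j < n
        · simp [hlow j hj, hj]
        · have : (bm n).testBit j = false := Nat.testBit_ofBits_ge _ j (Nat.le_of_not_lt hj)
          simp [this, hj]
      have hpre : D.phaseFrom w ((List.range n).map e) 0 0 = D.phase ((List.range n).map e) w' :=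
        phaseFrom_congr D _ 0 0 fun j hj => hlow j (by simpa using hj)
      obtain ⟨hr, hrν⟩ := ih w' h'
      have hpn := hallm _ (hpA n)
      set r := D.phase ((List.range n).map e) w'
      rw [hpre]
      simp only [Check.Mono.phaseStep, hdiv, e, hand]
      have hPw : ∀ a < D.m, P (mask co.d w) (ν a) =
          sg (Check.parity n (w' &&& bm n)) • ν (D.op (D.op r (p n)) a) := fun a ha => by
        rw [hm', hrec, Module.End.mul_apply, hpν n a ha, claimA n w' h' n le_rfl, LinearMap.smul_apply,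
          hrν _ (hclosed _ hpn _ ha), hassoc _ hr _ hpn _ ha]
      have hq := hclosed _ hr _ hpn
      cases hpar : Check.parity n (w' &&& bm n)
      · simp only [beq_self_eq_true, ↓reduceIte, Bool.false_eq_true]
        refine ⟨hq, fun a ha => ?_⟩
        rw [hPw a ha, hpar]
        exact one_smul _ _
      · simp only [beq_self_eq_true, ↓reduceIte]
        refine ⟨hclosed _ hq _ hnegm, fun a ha => ?_⟩
        rw [hPw a ha, hpar, hcomm _ hq, hassoc _ hnegm _ hq _ ha, hneg _ (hclosed _ hq _ ha)]
        exact neg_one_smul _ _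
  refine tab_mem D hd Mb p bm (fun k _ => hpA k)
    (fun k _ => by rw [if_neg hneg0]; exact Nat.ofBits_lt_two_pow _) fun k hk w hw hw' => ?_
  refine co.okAt_of fr c₀ ν D hg hF (fun w a h => hνne a (hval w a h)) _
    (by have := Nat.two_pow_pos k; omega)
    (lt_of_lt_of_le hw' (Nat.pow_le_pow_right two_pos hk)) ?_ fun a b ha hR hb => ?_
  · rw [List.map_map]
    exact imgOf_map _ (k + 1) hk w hw'
  · have ham := hval w a ha
    have hbm := hval _ b hb
    obtain ⟨hfm, hfν⟩ := claimP (k + 1) hk w hw'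
    refine hinj _ (hclosed _ hfm _ ham) _ hbm ((hfν a ham).symm.trans ?_)
    show fr.R (Mb (mask co.d w)) (g • fr.R (mask co.d w) (g⁻¹ • ν a)) = ν b
    rw [show g⁻¹ • ν a = ν a from inv_smul_eq_iff.mpr (hfix a ham).symm, hR]
    exact LinearMap.congr_fun (fr.R_sq co _) (ν b)

/-- two vectors from a list of data with a certificate -/
theorem pair_mono (hC : S.C ≠ S.A) (hu : u ≠ 0) {p : ℕ} (hp : (Nat.card H).Coprime p)
    {c₀ : V} (hc₀ : c₀ ∈ S.E u) (hctl : ∀ g : H, g • u = u → g • c₀ = c₀ → S.Ctl u g)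
    (ν : ℕ → V) (Ds : List Check.Mono) (L : List (List (List ℕ))) (t : Check.Tree)
    (hd : ∀ D ∈ Ds, D.d = co.d) (ht : ∀ D ∈ Ds, D.tableOK = true)
    (hν : ∀ D ∈ Ds, ∀ a < D.m, ∃ k : K, k ≠ 0 ∧ ∃ z ∈ S.Y u, ν a = k • z • u)
    (hmoves : ∀ D ∈ Ds, co.MovesListed fr c₀ ν D)
    (hlist : Check.listed Ds L = true) (htree : Check.treeOK p (2 ^ co.d) L t [] = true) :
    ∃ v w : V, ∀ g : H, g • v = v → g • w = w → g = 1 := by
  classical
  have : ∀ i, NeZero (co.n i) := fun i => ⟨(co.prime i).ne_zero⟩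
  simp only [Check.listed, Bool.and_eq_true, beq_iff_eq, List.all_eq_true, List.mem_range] at hlist
  obtain ⟨hlen, hat⟩ := hlist
  by_contra hno
  push Not at hno
  let e := co.toBin htwo
  let Lp : List ℕ → Prop := fun P =>
    ∃ (g : H) (hg : S.Ctl u g), P = tabOf (co.binMap htwo hg.2.1)
  have hiter : ∀ (g : H) (hg : g • u = u) (n : ℕ) (v : Fin co.d → ZMod 2),
      (co.binMap htwo hg)^[n] v = e (co.M (g ^ n) (e.symm v)) := by
    intro g hg n v
    induction n with
    | zero => simp [co.M_one, e]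
    | succ n ih =>
      rw [Function.iterate_succ_apply', ih, pow_succ', co.M_mul hg]
      show e (co.M g (e.symm (e _))) = _
      rw [AddEquiv.symm_apply_apply]
  refine Check.treeOK_sound (p := p) (size := 2 ^ co.d) (S := L) Lp ?_ ?_ ?_ ?_ ?_ t []
    (fun i hi => absurd hi (Nat.not_lt_zero i)) htree
  · rintro P ⟨g, hg, rfl⟩; simp [tabOf]
  · exact ⟨1, ⟨one_mem _, one_smul _ _, fun y _ => one_smul _ _⟩, (tabOf_id.mpr fun v => by
      show e (co.M 1 (e.symm v)) = v
      rw [co.M_one, AddEquiv.apply_symm_apply]).symm⟩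
  · rintro a b ⟨g, hg, rfl⟩ ⟨h, hh, rfl⟩
    refine ⟨g * h, ⟨mul_mem hg.1 hh.1, by rw [mul_smul, hh.2.1, hg.2.1],
      fun y hy => by rw [mul_smul, hh.2.2 y hy, hg.2.2 y hy]⟩, ?_⟩
    rw [pmul_tabOf]
    congr 1
    funext v
    show e (co.M g (e.symm (e (co.M h (e.symm v))))) = e (co.M (g * h) (e.symm v))
    rw [AddEquiv.symm_apply_apply, co.M_mul hg.2.1]
  · rintro Q ⟨g, hg, rfl⟩ hQ
    rw [ppow_tabOf] at hQ
    have h1 : ∀ w, co.M (g ^ p) w = w := fun w => e.injective (by
      have := tabOf_id.mp hQ (e w)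
      rwa [hiter g hg.2.1, AddEquiv.symm_apply_apply] at this)
    obtain ⟨m, hm⟩ := exists_pow_eq_self_of_coprime
      (Nat.Coprime.coprime_dvd_right (orderOf_dvd_natCard g) hp.symm)
    have hgp' : ∀ n : ℕ, g ^ n • u = u := fun n => by
      induction n with
      | zero => simp
      | succ n ih' => rw [pow_succ, mul_smul, hg.2.1]; exact ih'
    have hgp := hgp' p
    refine tabOf_id.mpr fun v => ?_
    show e (co.M g (e.symm v)) = v
    conv_lhs => rw [← hm]
    have : ∀ j w, co.M ((g ^ p) ^ j) w = w := fun j w => by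
      induction j with
      | zero => rw [pow_zero, co.M_one]
      | succ j ih' => rw [pow_succ', co.M_mul hgp, ih', h1]
    rw [this, AddEquiv.apply_symm_apply]
  · intro j hj
    have hjD : j < Ds.length := hlen ▸ hj
    have hDmem : Ds[j] ∈ Ds := List.getElem_mem hjD
    have hatj := hat j hjD
    simp only [Check.listedAt, List.getD_eq_getElem _ _ hjD, Bool.and_eq_true, List.all_eq_true,
      List.contains_iff_mem] at hatj
    set D := Ds[j]
    let F := co.monoComp fr c₀ ν D
    obtain ⟨g, hgu, hgv, hg1⟩ := hno u (∑ w, F w)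
    obtain ⟨hm', -, -, hval, -, -, -, -⟩ := tableOK_spec (ht D hDmem)
    have hIn : ∀ w, S.InEig u (co.r w) (F w) := by
      intro w
      simp only [F, monoComp]
      split_ifs with h0
      · exact h0 ▸ S.inEig_of_mem_E (by rw [co.rep_zero]; exact one_mem _) hc₀
      rcases hv : D.val.getD (code (e w)) none with _ | a
      · intro x _ c _
        simp
      · obtain ⟨k, -, z, hz, hk⟩ := hν D hDmem a (hval _ a hv)
        obtain ⟨c', b, hb, hbw, -⟩ := fr.R_op (co.toBin htwo w)
        intro x hx c hc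
        simp only [hk, hb.2.2, S.C_linear (S.B_le_C hb.2.1), ← mul_smul b z, smul_smul]
        rw [S.C_linear (S.B_le_C hx.1), S.inEig_translate (co.mem w) (mul_mem hb.2.1 hz.1) ?_ x hx c hc,
          smul_smul]
        · congr 1
          ring
        refine co.coset (co.mem w) (mul_mem hb.2.1 hz.1) ?_
        rw [co.spec, co.map_mul _ hb.2.1 _ hz.1, (co.ker z hz.1).mpr hz, add_zero]
        exact e.injective hbw.symm
    have hmap := co.sum_map hu F hIn hgu hgv
    have hM0 : co.M g 0 = 0 := by
      have h := co.M_add hgu 0 0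
      rw [add_zero] at h
      simpa using h
    have hgctl : S.Ctl u g := hctl g hgu (by simpa [F, monoComp, hM0] using hmap 0)
    rcases hmoves D hDmem g hgctl hmap with hid | hmv
    swap
    · refine ⟨_, ?_, g, hgctl, rfl⟩
      rw [List.getD_eq_getElem _ _ hj]
      have := hatj.2 _ hmv
      rwa [List.getD_eq_getElem _ _ hj] at this
    exfalso
    refine hg1 ?_
    have hMid : ∀ w, co.M g w = w := fun w => e.injective (by
      have := tabOf_id.mp hid (e w)
      rwa [show co.binMap htwo hgctl.2.1 (e w) = e (co.M g (e.symm (e w))) from rfl,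
        AddEquiv.symm_apply_apply] at this)
    have hfix : ∀ w, D.supp (code (e w)) = true → g • co.r w • u = co.r w • u := by
      intro w hs
      by_cases hw0 : w = 0
      · rw [hw0, co.rep_zero, one_smul, hgu]
      have hcw : code (e w) ≠ 0 := fun h => hw0 (e.injective (by rw [code_eq_zero h, map_zero]))
      simp only [Check.Mono.supp, beq_iff_eq, Bool.or_eq_true] at hs
      obtain ⟨a, ha⟩ := Option.isSome_iff_exists.mp (hs.resolve_left hcw)
      obtain ⟨k, hk0, z, hz, hk⟩ := hν D hDmem a (hval _ a ha)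
      obtain ⟨c', b, hb, hbw, -⟩ := fr.R_op (co.toBin htwo w)
      have h := hmap w
      rw [hMid] at h
      simp only [F, monoComp, if_neg hw0] at h
      simp only [e] at ha
      rw [ha] at h
      simp only [hk, hb.2.2, S.C_linear (S.B_le_C hb.2.1), ← mul_smul b z, smul_smul,
        S.C_linear hgctl.1] at h
      have h' := smul_right_injective V (mul_ne_zero hb.1 hk0) h
      have hy : (b * z)⁻¹ * co.r w ∈ S.Y u := co.coset (mul_mem hb.2.1 hz.1) (co.mem w) (by
        rw [co.spec, co.map_mul _ hb.2.1 _ hz.1, (co.ker z hz.1).mpr hz, add_zero]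
        exact e.injective hbw)
      have := S.fix_mul_Y hgu (mul_mem hb.2.1 hz.1) hy ((mul_smul _ _ _).symm.trans h') (hgctl.2.2 _ hy)
      rwa [mul_inv_cancel_left] at this
    obtain ⟨T, hT, hTs⟩ := spans_sound (d := co.d) D (hd D hDmem) hatj.1
    have himage : ∀ (Q : Set (Fin co.d → ZMod 2)), AddSubgroup.closure Q = ⊤ →
        AddSubgroup.closure (e.symm '' Q) = ⊤ := fun Q hQ => by
      have := AddMonoidHom.map_closure e.symm.toAddMonoidHom Q
      rw [hQ, AddSubgroup.map_top_of_surjective _ e.symm.surjective] at this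
      exact this.symm
    refine co.finish hC hu hgctl.1 hgu hgctl.2.2 (e.symm '' T) (himage T hT) ?_ ?_
    · rintro _ ⟨x, hx, rfl⟩
      exact hfix _ (by rw [AddEquiv.apply_symm_apply]; exact (hTs x hx).1)
    rintro _ ⟨x, hx, rfl⟩
    rw [eq_top_iff, ← himage _ (hTs x hx).2]
    refine AddSubgroup.closure_mono ?_
    rintro _ ⟨y, hy, rfl⟩
    exact co.commute_of_fixed hu hgu hgctl.2.2
      (hfix _ (by rw [AddEquiv.apply_symm_apply]; exact (hTs x hx).1))
      (hfix _ (by rw [AddEquiv.apply_symm_apply]; exact hy.1))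
      (hfix _ (by rw [← map_add, AddEquiv.apply_symm_apply]; exact hy.2))

end Coords

end Setup

end CfsgLib.BaseThree
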