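import Cfsg.Agent.Lib.BaseCoprime.MonoData
import Mathlib.Tactic.IntervalCases
/-
Monomial data for the eigenline model and their checked properties.
-/
set_option autoImplicit false
set_option maxRecDepth 100000
set_option maxHeartbeats 1000000

namespace CfsgLib.BaseThree.Check

/-- monomial data with four coordinates over the field of three elements -/
def mono3_4 : List Mono := [
  ⟨4, 2, tbl2, 1, [0, 1], [none, none, some 1, some 0, none, some 1, some 0, some 0, none, none, some 1, some 0, some 1, some 0, some 1, none]⟩,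
  ⟨4, 2, tbl2, 1, [0, 1], [none, some 1, some 0, none, some 1, none, some 0, some 1, some 0, none, none, none, some 0, some 1, some 0, some 1]⟩,
  ⟨4, 2, tbl2, 1, [0, 1], [none, none, some 0, some 1, some 0, some 0, none, some 0, none, some 0, none, none, some 0, some 0, some 1, some 1]⟩,
  ⟨4, 2, tbl2, 1, [0, 1], [none, some 1, some 1, none, some 1, none, some 0, none, some 0, some 1, none, some 1, some 1, some 0, some 0, none]⟩,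
  ⟨4, 2, tbl2, 1, [0, 1], [none, none, some 0, some 0, some 1, some 1, none, some 1, none, some 0, some 0, none, some 1, none, some 1, some 0]⟩,
  ⟨4, 2, tbl2, 1, [0, 1], [none, none, some 0, some 1, none, none, none, some 1, some 1, some 0, some 0, some 1, none, some 0, some 1, some 1]⟩,
  ⟨4, 2, tbl2, 1, [0, 1], [none, some 0, some 1, some 0, some 0, none, some 0, none, none, none, some 0, some 0, none, some 1, some 0, some 0]⟩,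
  ⟨4, 2, tbl2, 1, [0, 1], [none, some 0, some 0, none, some 1, some 0, some 1, some 0, some 1, none, some 1, some 1, none, none, none, some 1]⟩,
  ⟨4, 2, tbl2, 1, [0, 1], [none, some 0, none, some 1, some 0, some 0, none, some 0, none, some 1, none, none, some 0, some 0, some 1, some 0]⟩,
  ⟨4, 2, tbl2, 1, [0, 1], [none, some 1, some 1, some 0, some 0, some 0, none, some 1, none, none, none, some 1, some 0, some 1, some 1, none]⟩,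
  ⟨4, 2, tbl2, 1, [0, 1], [none, some 1, some 0, some 1, some 1, none, some 0, none, some 0, some 0, some 1, none, none, none, some 1, some 0]⟩]

/-- their moves -/
def moves3_4 : List (List (List Nat)) := [
  [[0, 1, 2, 3, 15, 14, 13, 12, 8, 9, 10, 11, 7, 6, 5, 4], [0, 1, 3, 2, 4, 5, 7, 6, 9, 8, 10, 11, 13, 12, 14, 15], [0, 1, 3, 2, 15, 14, 12, 13, 9, 8, 10, 11, 6, 7, 5, 4], [0, 8, 2, 10, 4, 12, 6, 14, 1, 9, 3, 11, 5, 13, 7, 15], [0, 8, 2, 10, 15, 7, 13, 5, 1, 9, 3, 11, 14, 6, 12, 4], [0, 8, 10, 2, 4, 12, 14, 6, 9, 1, 3, 11, 13, 5, 7, 15], [0, 8, 10, 2, 15, 7, 5, 13, 9, 1, 3, 11, 6, 14, 12, 4], [0, 9, 3, 10, 4, 13, 7, 14, 1, 8, 2, 11, 5, 12, 6, 15], [0, 9, 3, 10, 15, 6, 12, 5, 1, 8, 2, 11, 14, 7, 13, 4], [0, 9, 10, 3, 4, 13, 14, 7, 8, 1, 2, 11, 12, 5, 6, 15], [0, 9, 10, 3, 15, 6, 5,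 12, 8, 1, 2, 11, 7, 14, 13, 4]],
  [[0, 1, 8, 9, 4, 5, 12, 13, 2, 3, 10, 11, 6, 7, 14, 15], [0, 2, 1, 3, 7, 5, 6, 4, 8, 10, 9, 11, 15, 13, 14, 12], [0, 2, 8, 10, 7, 5, 15, 13, 1, 3, 9, 11, 6, 4, 14, 12], [0, 6, 12, 10, 13, 11, 1, 7, 15, 9, 3, 5, 2, 4, 14, 8], [0, 6, 15, 9, 13, 11, 2, 4, 12, 10, 3, 5, 1, 7, 14, 8], [0, 8, 1, 9, 13, 5, 12, 4, 2, 10, 3, 11, 15, 7, 14, 6], [0, 8, 2, 10, 13, 5, 15, 7, 1, 9, 3, 11, 12, 4, 14, 6], [0, 12, 6, 10, 7, 11, 1, 13, 15, 3, 9, 5, 8, 4, 14, 2], [0, 12, 15, 3, 7, 11, 8, 4, 6, 10, 9, 5, 1, 13, 14, 2], [0, 15, 6, 9, 4, 11, 2, 13, 12, 3, 10, 5, 8, 7, 14, 1], [0, 15, 12, 3, 4, 11, 8, 7, 6, 9, 10, 5, 2, 13, 14, 1]],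
  [[0, 1, 3, 2, 5, 4, 6, 7, 8, 9, 11, 10, 13, 12, 14, 15], [0, 1, 12, 13, 4, 5, 8, 9, 6, 7, 10, 11, 2, 3, 14, 15], [0, 1, 13, 12, 5, 4, 8, 9, 6, 7, 11, 10, 3, 2, 14, 15], [0, 10, 3, 9, 5, 15, 6, 12, 8, 2, 11, 1, 13, 7, 14, 4], [0, 10, 7, 13, 15, 5, 8, 2, 6, 12, 1, 11, 9, 3, 14, 4], [0, 10, 9, 3, 15, 5, 6, 12, 8, 2, 1, 11, 7, 13, 14, 4], [0, 10, 13, 7, 5, 15, 8, 2, 6, 12, 11, 1, 3, 9, 14, 4], [0, 11, 2, 9, 4, 15, 6, 13, 8, 3, 10, 1, 12, 7, 14, 5], [0, 11, 7, 12, 15, 4, 8, 3, 6, 13, 1, 10, 9, 2, 14, 5], [0, 11, 9, 2, 15, 4, 6, 13, 8, 3, 1, 10, 7, 12, 14, 5], [0, 11, 12, 7, 4, 15, 8, 3, 6, 13, 10, 1, 2, 9, 14, 5]],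
  [[0, 1, 2, 3, 4, 5, 6, 7, 13, 12, 15, 14, 9, 8, 11, 10], [0, 1, 6, 7, 4, 5, 2, 3, 9, 8, 15, 14, 13, 12, 11, 10], [0, 1, 6, 7, 4, 5, 2, 3, 12, 13, 10, 11, 8, 9, 14, 15], [0, 11, 8, 3, 4, 15, 12, 7, 2, 9, 10, 1, 6, 13, 14, 5], [0, 11, 8, 3, 4, 15, 12, 7, 13, 6, 5, 14, 9, 2, 1, 10], [0, 11, 12, 7, 4, 15, 8, 3, 6, 13, 10, 1, 2, 9, 14, 5], [0, 11, 12, 7, 4, 15, 8, 3, 9, 2, 5, 14, 13, 6, 1, 10], [0, 14, 9, 7, 4, 10, 13, 3, 6, 8, 15, 1, 2, 12, 11, 5], [0, 14, 9, 7, 4, 10, 13, 3, 12, 2, 5, 11, 8, 6, 1, 15], [0, 14, 13, 3, 4, 10, 9, 7, 2, 12, 15, 1, 6, 8, 11, 5], [0, 14, 13, 3, 4, 10, 9, 7, 8, 6, 5, 11, 12, 2, 1, 15]],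
  [[0, 1, 2, 3, 15, 14, 13, 12, 8, 9, 10, 11, 7, 6, 5, 4], [0, 1, 4, 5, 2, 3, 6, 7, 8, 9, 12, 13, 10, 11, 14, 15], [0, 1, 4, 5, 15, 14, 11, 10, 8, 9, 12, 13, 7, 6, 3, 2], [0, 1, 15, 14, 2, 3, 13, 12, 8, 9, 7, 6, 10, 11, 5, 4], [0, 1, 15, 14, 4, 5, 11, 10, 8, 9, 7, 6, 12, 13, 3, 2], [0, 8, 2, 10, 4, 12, 6, 14, 1, 9, 3, 11, 5, 13, 7, 15], [0, 8, 2, 10, 15, 7, 13, 5, 1, 9, 3, 11, 14, 6, 12, 4], [0, 8, 4, 12, 2, 10, 6, 14, 1, 9, 5, 13, 3, 11, 7, 15], [0, 8, 4, 12, 15, 7, 11, 3, 1, 9, 5, 13, 14, 6, 10, 2], [0, 8, 15, 7, 2, 10, 13, 5, 1, 9, 14, 6, 3, 11, 12, 4], [0, 8, 15, 7, 4, 12, 11, 3, 1, 9, 14, 6, 5, 13, 10, 2]],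
  [[0, 1, 3, 2, 5, 4, 6, 7, 9, 8, 10, 11, 12, 13, 15, 14], [0, 1, 8, 9, 4, 5, 12, 13, 2, 3, 10, 11, 6, 7, 14, 15], [0, 1, 9, 8, 5, 4, 12, 13, 3, 2, 10, 11, 6, 7, 15, 14], [0, 4, 3, 7, 5, 1, 6, 2, 9, 13, 10, 14, 12, 8, 15, 11], [0, 4, 7, 3, 1, 5, 6, 2, 13, 9, 10, 14, 12, 8, 11, 15], [0, 4, 9, 13, 5, 1, 12, 8, 3, 7, 10, 14, 6, 2, 15, 11], [0, 4, 13, 9, 1, 5, 12, 8, 7, 3, 10, 14, 6, 2, 11, 15], [0, 5, 2, 7, 4, 1, 6, 3, 8, 13, 10, 15, 12, 9, 14, 11], [0, 5, 7, 2, 1, 4, 6, 3, 13, 8, 10, 15, 12, 9, 11, 14], [0, 5, 8, 13, 4, 1, 12, 9, 2, 7, 10, 15, 6, 3, 14, 11], [0, 5, 13, 8, 1, 4, 12, 9, 7, 2, 10, 15, 6, 3, 11, 14]],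
  [[0, 1, 11, 10, 13, 12, 6, 7, 8, 9, 3, 2, 5, 4, 14, 15], [0, 2, 1, 3, 11, 9, 10, 8, 7, 5, 6, 4, 12, 14, 13, 15], [0, 2, 4, 6, 14, 12, 10, 8, 7, 5, 3, 1, 9, 11, 13, 15], [0, 4, 2, 6, 1, 5, 3, 7, 8, 12, 10, 14, 9, 13, 11, 15], [0, 4, 14, 10, 13, 9, 3, 7, 8, 12, 6, 2, 5, 1, 11, 15], [0, 11, 1, 10, 2, 9, 3, 8, 7, 12, 6, 13, 5, 14, 4, 15], [0, 11, 13, 6, 14, 5, 3, 8, 7, 12, 10, 1, 9, 2, 4, 15], [0, 13, 11, 6, 1, 12, 10, 7, 8, 5, 3, 14, 9, 4, 2, 15], [0, 13, 14, 3, 4, 9, 10, 7, 8, 5, 6, 11, 12, 1, 2, 15], [0, 14, 4, 10, 2, 12, 6, 8, 7, 9, 3, 13, 5, 11, 1, 15], [0, 14, 13, 3, 11, 5, 6, 8, 7, 9, 10, 4, 12, 2, 1, 15]],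
  [[0, 1, 15, 14, 4, 5, 11, 10, 8, 9, 7, 6, 12, 13, 3, 2], [0, 2, 1, 3, 7, 5, 6, 4, 11, 9, 10, 8, 12, 14, 13, 15], [0, 2, 15, 13, 7, 5, 8, 10, 11, 9, 4, 6, 12, 14, 3, 1], [0, 4, 7, 3, 1, 5, 6, 2, 8, 12, 15, 11, 9, 13, 14, 10], [0, 4, 10, 14, 1, 5, 11, 15, 8, 12, 2, 6, 9, 13, 3, 7], [0, 7, 4, 3, 2, 5, 6, 1, 11, 12, 15, 8, 9, 14, 13, 10], [0, 7, 10, 13, 2, 5, 8, 15, 11, 12, 1, 6, 9, 14, 3, 4], [0, 10, 4, 14, 15, 5, 11, 1, 6, 12, 2, 8, 9, 3, 13, 7], [0, 10, 7, 13, 15, 5, 8, 2, 6, 12, 1, 11, 9, 3, 14, 4], [0, 15, 1, 14, 10, 5, 11, 4, 6, 9, 7, 8, 12, 3, 13, 2], [0, 15, 2, 13, 10, 5, 8, 7, 6, 9, 4, 11, 12, 3, 14, 1]],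
  [[0, 1, 8, 9, 14, 15, 6, 7, 2, 3, 10, 11, 12, 13, 4, 5], [0, 3, 2, 1, 4, 7, 6, 5, 10, 9, 8, 11, 14, 13, 12, 15], [0, 3, 10, 9, 12, 15, 6, 5, 2, 1, 8, 11, 14, 13, 4, 7], [0, 4, 8, 12, 3, 7, 11, 15, 10, 14, 2, 6, 9, 13, 1, 5], [0, 4, 10, 14, 1, 5, 11, 15, 8, 12, 2, 6, 9, 13, 3, 7], [0, 9, 8, 1, 14, 7, 6, 15, 10, 3, 2, 11, 4, 13, 12, 5], [0, 9, 10, 3, 12, 5, 6, 15, 8, 1, 2, 11, 4, 13, 14, 7], [0, 12, 2, 14, 9, 5, 11, 7, 8, 4, 10, 6, 1, 13, 3, 15], [0, 12, 8, 4, 3, 15, 11, 7, 2, 14, 10, 6, 1, 13, 9, 5], [0, 14, 2, 12, 9, 7, 11, 5, 10, 4, 8, 6, 3, 13, 1, 15], [0, 14, 10, 4, 1, 15, 11, 5, 2, 12, 8, 6, 3, 13, 9, 7]],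
  [[0, 1, 2, 3, 13, 12, 15, 14, 8, 9, 10, 11, 5, 4, 7, 6], [0, 3, 2, 1, 4, 7, 6, 5, 10, 9, 8, 11, 14, 13, 12, 15], [0, 3, 2, 1, 13, 14, 15, 12, 10, 9, 8, 11, 7, 4, 5, 6], [0, 5, 2, 7, 4, 1, 6, 3, 10, 15, 8, 13, 14, 11, 12, 9], [0, 5, 2, 7, 11, 14, 9, 12, 10, 15, 8, 13, 1, 4, 3, 6], [0, 7, 2, 5, 4, 3, 6, 1, 8, 15, 10, 13, 12, 11, 14, 9], [0, 7, 2, 5, 11, 12, 9, 14, 8, 15, 10, 13, 3, 4, 1, 6], [0, 12, 2, 14, 11, 7, 9, 5, 10, 6, 8, 4, 1, 13, 3, 15], [0, 12, 2, 14, 13, 1, 15, 3, 10, 6, 8, 4, 7, 11, 5, 9], [0, 14, 2, 12, 11, 5, 9, 7, 8, 6, 10, 4, 3, 13, 1, 15], [0, 14, 2, 12, 13, 3, 15, 1, 8, 6, 10, 4, 5, 11, 7, 9]],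
  [[0, 1, 14, 15, 4, 5, 10, 11, 8, 9, 6, 7, 12, 13, 2, 3], [0, 2, 1, 3, 15, 13, 14, 12, 8, 10, 9, 11, 7, 5, 6, 4], [0, 2, 6, 4, 15, 13, 9, 11, 8, 10, 14, 12, 7, 5, 1, 3], [0, 6, 2, 4, 3, 5, 1, 7, 8, 14, 10, 12, 11, 13, 9, 15], [0, 6, 9, 15, 3, 5, 10, 12, 8, 14, 1, 7, 11, 13, 2, 4], [0, 9, 6, 15, 4, 13, 2, 11, 8, 1, 14, 7, 12, 5, 10, 3], [0, 9, 10, 3, 4, 13, 14, 7, 8, 1, 2, 11, 12, 5, 6, 15], [0, 10, 9, 3, 15, 5, 6, 12, 8, 2, 1, 11, 7, 13, 14, 4], [0, 10, 14, 4, 15, 5, 1, 11, 8, 2, 6, 12, 7, 13, 9, 3], [0, 14, 1, 15, 3, 13, 2, 12, 8, 6, 9, 7, 11, 5, 10, 4], [0, 14, 10, 4, 3, 13, 9, 7, 8, 6, 2, 12, 11, 5, 1, 15]]]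

/-- the certificate -/
def tree3_4 : Tree := .node 0 [.node 1 [.node 6 [.bad [1, 2] 1, .bad [0, 2] 2, .bad [2] 2, .bad [0, 2] 1, .bad [2] 1, .bad [2] 2, .node 7 [.bad [0, 3] 1, .bad [0, 2, 0, 3] 2, .bad [3] 1, .bad [0, 2, 0, 3] 2, .bad [0, 3] 2, .bad [0, 1, 3] 2, .bad [3] 2, .bad [3] 2, .bad [2, 3] 1, .bad [3] 1, .bad [2, 3] 2], .bad [2] 1, .bad [1, 2] 1, .bad [0, 2] 2, .bad [0, 2] 1], .node 5 [.bad [1, 2] 1, .bad [1, 2] 1, .node 3 [.bad [0, 3] 1, .bad [0, 3] 2, .bad [1, 3] 1, .bad [1, 2, 1, 3] 2, .bad [3] 1, .bad [1, 3] 2, .bad [3] 2, .bad [3] 2, .bad [1, 3] 2, .bad [3] 1, .bad [2, 3] 2], .bad [2] 1, .bad [0, 2] 1, .bad [2] 2, .bad [0, 2] 2, .bad [0, 2] 1, .bad [2] 1, .bad [0, 2] 2, .bad [2] 2], .bad [1] 1, .bad [0, 1] 2, .bad [1] 2, .bad [1] 1, .node 5 [.bad [1, 2] 1, .bad [1, 2]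 1, .node 3 [.bad [0, 3] 1, .bad [0, 3] 2, .bad [1, 3] 1, .bad [1, 2, 1, 3] 2, .bad [3] 1, .bad [1, 3] 2, .bad [3] 2, .bad [3] 2, .bad [2, 3] 1, .bad [3] 1, .bad [1, 3] 1], .bad [2] 1, .bad [0, 2] 1, .bad [2] 2, .bad [0, 2] 2, .bad [0, 2] 1, .bad [2] 1, .bad [0, 2] 2, .bad [2] 2], .bad [1] 2, .bad [0, 1] 2, .bad [0, 1] 2, .bad [0, 1] 1], .node 1 [.node 4 [.node 6 [.bad [1, 3] 1, .bad [0, 3] 2, .bad [3] 2, .bad [2, 3] 1, .bad [3] 1, .bad [3] 2, .node 7 [.bad [1, 4] 1, .bad [0, 4] 1, .bad [4] 1, .bad [2, 3, 2, 4] 2, .bad [1, 4] 2, .bad [0, 4] 2, .bad [4] 2, .bad [4] 2, .bad [3, 4] 1, .bad [4] 1, .bad [3, 4] 2], .bad [3] 1, .bad [0, 3] 1, .bad [1, 3] 2, .bad [2, 3] 1], .bad [1, 2] 1, .bad [2] 1, .bad [2] 1, .bad [1, 2] 1, .bad [0, 2] 1, .bad [0, 2] 2, .bad [0, 2] 2, .bad [2] 2, .bad [2]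 2, .bad [0, 2] 2], .bad [0, 1] 1, .bad [1] 1, .bad [0, 1] 2, .bad [1] 2, .bad [1] 1, .bad [0, 1] 1, .bad [1] 2, .bad [0, 1] 2, .node 4 [.bad [1, 2] 2, .bad [1, 2] 2, .bad [2] 1, .bad [2] 1, .bad [1, 2] 2, .bad [0, 2] 1, .bad [0, 2] 2, .bad [0, 2] 2, .bad [2] 2, .bad [2] 2, .bad [0, 2] 2], .node 9 [.bad [0, 1, 0, 2] 1, .bad [0, 2] 1, .bad [0, 2] 2, .bad [1, 2] 2, .bad [2] 2, .bad [0, 2] 1, .bad [2] 1, .bad [0, 2] 2, .bad [2] 2, .bad [1, 2] 1, .bad [2] 1]], .node 1 [.node 4 [.node 6 [.bad [1, 3] 1, .bad [0, 3] 1, .bad [3] 2, .bad [0, 3] 2, .bad [3] 1, .bad [3] 2, .node 7 [.bad [0, 4] 2, .bad [0, 4] 2, .bad [4] 1, .bad [0, 3, 0, 4] 2, .bad [1, 4] 2, .bad [0, 1, 4] 2, .bad [4] 2, .bad [4] 2, .bad [3, 4] 1, .bad [4] 1, .bad [3, 4] 2], .bad [3] 1, .bad [0, 3] 2, .bad [1, 3] 2, .bad [0, 3]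 2], .bad [0, 2] 2, .bad [2] 1, .bad [2] 1, .bad [0, 2] 2, .bad [0, 2] 2, .bad [0, 2] 1, .bad [0, 2] 2, .bad [2] 2, .bad [2] 2, .bad [0, 2] 2], .bad [0, 1] 2, .bad [1] 1, .bad [0, 1] 2, .bad [1] 2, .bad [1] 1, .bad [0, 1] 2, .bad [1] 2, .bad [0, 1] 2, .bad [0, 1] 1, .bad [0, 1] 2], .node 1 [.bad [0, 1] 1, .bad [0, 1] 1, .bad [1] 1, .node 5 [.bad [0, 2] 1, .bad [0, 2] 1, .bad [0, 1, 0, 2] 2, .bad [2] 1, .bad [1, 2] 2, .bad [2] 2, .bad [0, 2] 2, .bad [1, 2] 2, .bad [2] 1, .bad [0, 2] 2, .bad [2] 2], .bad [1] 2, .bad [1] 1, .node 8 [.bad [0, 2] 1, .node 2 [.bad [2, 3] 1, .bad [0, 3] 1, .bad [0, 3] 2, .bad [3] 1, .bad [0, 3] 2, .node 6 [.bad [3, 4] 1, .bad [0, 4] 2, .bad [4] 2, .bad [0, 4] 1, .bad [4] 1, .bad [4] 2, .bad [0, 4] 2, .bad [4] 1, .bad [0, 4] 1, .bad [1, 3, 1, 4] 2, .bad [3, 4]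 1], .bad [3] 2, .bad [0, 3] 1, .bad [3] 2, .bad [3] 1, .bad [1, 3] 2], .bad [2] 1, .bad [2] 2, .bad [0, 2] 2, .bad [2] 1, .bad [0, 2] 1, .bad [1, 2] 1, .bad [0, 2] 2, .bad [1, 2] 2, .bad [2] 2], .bad [1] 2, .bad [0, 1] 2, .bad [0, 1] 2, .node 10 [.bad [1, 2] 1, .bad [0, 2] 2, .bad [2] 2, .bad [0, 2] 1, .bad [2] 1, .bad [0, 2] 2, .bad [0, 2] 1, .bad [0, 1, 0, 2] 1, .bad [2] 1, .bad [2] 2, .bad [1, 2] 2]], .node 1 [.bad [0, 1] 2, .bad [0, 1] 2, .bad [1] 1, .bad [0, 1] 1, .bad [1] 2, .bad [1] 1, .node 5 [.bad [0, 2] 2, .bad [0, 2] 2, .node 3 [.bad [1, 2, 3] 5, .bad [0, 3] 2, .bad [1, 3] 1, .bad [0, 2, 0, 3] 2, .bad [3] 1, .bad [0, 3] 2, .bad [3] 2, .bad [3] 2, .bad [2, 3] 1, .bad [3] 1, .bad [1, 3] 1], .bad [2] 1, .bad [0, 2] 2, .bad [2] 2, .bad [0, 2] 2, .bad [0, 2] 2, .bad [2] 1, .bad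 [0, 2] 2, .bad [2] 2], .bad [1] 2, .bad [0, 1] 2, .bad [0, 1] 2, .bad [0, 1] 2], .bad [0] 1, .bad [0] 2, .bad [0] 1, .bad [0] 2, .node 1 [.bad [0, 1] 1, .node 2 [.bad [1, 2] 1, .bad [0, 2] 1, .bad [0, 2] 2, .bad [2] 1, .bad [0, 2] 2, .node 3 [.bad [0, 3] 1, .bad [0, 3] 2, .bad [1, 3] 1, .bad [0, 3] 1, .bad [3] 1, .bad [0, 3] 2, .bad [3] 2, .bad [3] 2, .bad [1, 3] 2, .bad [3] 1, .node 5 [.bad [0, 4] 1, .bad [0, 4] 1, .bad [3, 4] 2, .bad [4] 1, .bad [0, 4] 1, .bad [4] 2, .bad [1, 4] 2, .bad [1, 4] 1, .bad [4] 1, .bad [0, 4] 2, .bad [4] 2]], .bad [2] 2, .bad [1, 2] 1, .bad [2] 2, .bad [2] 1, .bad [0, 2] 2], .bad [1] 1, .node 5 [.bad [0, 2] 1, .bad [0, 2] 1, .bad [0, 1, 0, 2] 1, .bad [2] 1, .bad [0, 2] 1, .bad [2] 2, .bad [1, 2] 1, .bad [1, 2] 2, .bad [2] 1, .bad [0, 2] 2, .bad [2] 2], .bad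 [1] 2, .bad [1] 1, .bad [0, 1] 1, .bad [1] 2, .bad [0, 1] 2, .node 4 [.bad [1, 2] 2, .bad [1, 2] 2, .bad [2] 1, .bad [2] 1, .bad [1, 2] 2, .bad [0, 2] 1, .bad [0, 2] 2, .bad [0, 2] 2, .bad [2] 2, .bad [2] 2, .bad [0, 2] 2], .bad [0, 1] 1], .node 4 [.node 1 [.bad [0, 2] 2, .node 2 [.bad [2, 3] 1, .bad [0, 3] 2, .bad [2, 3] 2, .bad [3] 1, .bad [0, 3] 1, .node 3 [.bad [1, 4] 1, .bad [0, 4] 2, .bad [2, 4] 1, .bad [0, 4] 2, .bad [4] 1, .bad [2, 4] 2, .bad [4] 2, .bad [4] 2, .bad [2, 4] 2, .bad [4] 1, .node 5 [.bad [0, 5] 2, .bad [0, 5] 2, .bad [4, 5] 2, .bad [5] 1, .bad [1, 5] 1, .bad [5] 2, .bad [1, 5] 2, .bad [0, 5] 2, .bad [5] 1, .bad [0, 5] 1, .bad [5] 2]], .bad [3] 2, .bad [2, 3] 1, .bad [3] 2, .bad [3] 1, .bad [2, 3] 2], .bad [2] 1, .bad [1, 2] 2, .bad [2] 2, .bad [2] 1, .bad [0, 2]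 2, .bad [2] 2, .bad [1, 2] 2, .bad [1, 2] 2, .bad [1, 2] 1], .bad [0, 1] 2, .bad [1] 1, .bad [1] 1, .bad [0, 1] 2, .bad [0, 1] 2, .bad [0, 1] 1, .bad [0, 1] 2, .bad [1] 2, .bad [1] 2, .bad [0, 1] 2]]

theorem mono3_4_listed_0 : listedAt mono3_4 moves3_4 0 = true := by decide +kernel

theorem mono3_4_listed_1 : listedAt mono3_4 moves3_4 1 = true := by decide +kernel

theorem mono3_4_listed_2 : listedAt mono3_4 moves3_4 2 = true := by decide +kernel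

theorem mono3_4_listed_3 : listedAt mono3_4 moves3_4 3 = true := by decide +kernel

theorem mono3_4_listed_4 : listedAt mono3_4 moves3_4 4 = true := by decide +kernel

theorem mono3_4_listed_5 : listedAt mono3_4 moves3_4 5 = true := by decide +kernel

theorem mono3_4_listed_6 : listedAt mono3_4 moves3_4 6 = true := by decide +kernel

theorem mono3_4_listed_7 : listedAt mono3_4 moves3_4 7 = true := by decide +kernel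

theorem mono3_4_listed_8 : listedAt mono3_4 moves3_4 8 = true := by decide +kernel

theorem mono3_4_listed_9 : listedAt mono3_4 moves3_4 9 = true := by decide +kernel

theorem mono3_4_listed_10 : listedAt mono3_4 moves3_4 10 = true := by decide +kernel

theorem mono3_4_listed : listed mono3_4 moves3_4 = true := by
  simp only [listed, Bool.and_eq_true, List.all_eq_true, List.mem_range]
  refine ⟨by decide +kernel, fun j hj => ?_⟩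
  change j < 11 at hj
  interval_cases j
  · exact mono3_4_listed_0
  · exact mono3_4_listed_1
  · exact mono3_4_listed_2
  · exact mono3_4_listed_3
  · exact mono3_4_listed_4
  · exact mono3_4_listed_5
  · exact mono3_4_listed_6
  · exact mono3_4_listed_7
  · exact mono3_4_listed_8
  · exact mono3_4_listed_9
  · exact mono3_4_listed_10


theorem tree3_4_ok : treeOK 3 16 moves3_4 tree3_4 [] = true := by decide +kernel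

end CfsgLib.BaseThree.Check
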