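import Cfsg.Agent.Lib.BaseCoprime.MonoBridge
import Cfsg.Agent.Lib.BaseCoprime.Generic
import Cfsg.Agent.Lib.BaseCoprime.MonoData4
/-
The instances of the monomial criterion: supports, powers of a generator, and quaternion units.
-/
set_option autoImplicit false
set_option linter.unusedSectionVars false

universe u

open scoped commutatorElement

namespace CfsgLib.BaseThree

variable {K V H : Type u} [Field K] [Finite K] [AddCommGroup V] [Finite V] [Nontrivial V]
  [Module K V] [Group H] [Finite H] [DistribMulAction H V] [FaithfulSMul H V]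

theorem listed_single {D : Check.Mono} (h : D.moves = [] ∧ D.spans = true) :
    Check.listed [D] [[]] = true := by
  simp [Check.listed, Check.listedAt, h.1, h.2]

theorem treeOK_single (p size : ℕ) :
    Check.treeOK p size [[]] (Check.Tree.node 0 []) [] = true := by
  simp [Check.treeOK, Check.Tree.node, Check.walk]

/-- the values add like exponents and the allowed ones cover the exponents of fourth roots of unity -/
def Check.Mono.cyclicOK (D : Check.Mono) : Bool :=
  D.tableOK && decide (D.neg ≠ 0) && decide (2 * D.neg = D.m) &&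
    (List.range D.m).all fun a =>
      (decide (4 * a % D.m ≠ 0) || D.allowed.contains a) &&
        (List.range D.m).all fun b => D.op a b == (a + b) % D.m

/-- the values are the quaternion units in the standard order -/
def Check.Mono.quatOK (D : Check.Mono) : Bool :=
  D.tableOK && decide (D.m = 8) && decide (D.neg = 5) &&
    decide (D.mul = Check.tblQ) && (List.range 8).all fun a => D.allowed.contains a

namespace Setup

variable (S : Setup K V H)

/-- with a square root of `-1` there are no quaternion units -/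
theorem Y_eq_of_isSquare (hC : S.C ≠ S.A) {u : V} (hu : S.IsBest u) (hgood : S.GoodLine u)
    (h : IsSquare (-1 : K)) : S.Y u = S.X u := by
  rcases hgood with hXY | ⟨y1, hy1, y2, hy2, hy1X, hy2X, hy12, hgen, hχ, a, b, hab⟩
  · exact hXY
  exfalso
  obtain ⟨c1, hc1⟩ := (S.sq_mem_X hC hu hy1).2
  obtain ⟨c2, hc2⟩ := (S.sq_mem_X hC hu hy2).2
  have h2K := S.two_dvd_of_Y_ne hC hu fun h => hy1X (h ▸ hy1)
  have hroot : ∀ y ∈ S.Y u, y ∉ S.X u → ∀ c : K, (y ^ 2) • u = c • u → ¬ IsSquare c := by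
    rintro y hy hyX c hc ⟨s, rfl⟩
    exact hyX (S.mem_X_of_root hu Nat.prime_two h2K hy (s := s) (by rw [hc, sq]))
  have : Fintype K := Fintype.ofFinite K
  have hns : IsSquare (c1 * c2) := by
    have hp := hroot y1 hy1 hy1X c1 hc1
    have hq := hroot y2 hy2 hy2X c2 hc2
    rcases eq_or_ne c1 0 with rfl | hp0
    · exact absurd IsSquare.zero hp
    rcases eq_or_ne c2 0 with rfl | hq0
    · exact absurd IsSquare.zero hq
    classical
    rw [← quadraticChar_one_iff_isSquare (mul_ne_zero hp0 hq0), map_mul,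
      (quadraticChar_neg_one_iff_not_isSquare (a := c1)).mpr hp,
      (quadraticChar_neg_one_iff_not_isSquare (a := c2)).mpr hq]
    rfl
  have h21 : y2 * y1 ∉ S.X u := by
    intro h'
    refine hy12 ?_
    have := mul_mem (inv_mem (S.sq_mem_X hC hu hy2)) h'
    rwa [show (y2 ^ 2)⁻¹ * (y2 * y1) = y2⁻¹ * y1 by rw [sq]; group] at this
  refine hroot _ (mul_mem hy2 hy1) h21 (-1 * (c1 * c2)) ?_ (h.mul hns)
  rw [sq] at hc1 hc2 ⊢
  rw [mul_smul] at hc1 hc2
  rw [mul_smul, mul_smul, mul_smul, S.anticomm_smul hy1.1 hy2.1 hχ, smul_neg, hc1,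
    S.C_linear (S.B_le_C hy2.1), S.C_linear (S.B_le_C hy2.1), hc2, smul_smul, ← neg_smul]
  congr 1
  ring

namespace Coords

variable {S} {u : V} (co : S.Coords u)

/-- five binary coordinates -/
theorem pair_five {htwo : ∀ i, co.n i = 2} {ys : Set H} (fr : co.Frame htwo ys) (hC : S.C ≠ S.A)
    (hu : u ≠ 0) (hd : co.d = 5) {p : ℕ} (hp : (Nat.card H).Coprime p) {c₀ : V} (hc₀ : c₀ ∈ S.E u)
    (hctl : ∀ g : H, g • u = u → g • c₀ = c₀ → S.Ctl u g) :
    ∃ v w : V, ∀ g : H, g • v = v → g • w = w → g = 1 := by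
  have ht : Check.mono1_5.tableOK = true := by decide +kernel
  refine co.pair_mono fr hC hu hp hc₀ hctl (fun _ => u) [Check.mono1_5] [[]]
    (Check.Tree.node 0 []) ?_ ?_ ?_ ?_ (listed_single Check.mono1_5_ok) (treeOK_single _ _)
  · intro D hD
    rw [List.mem_singleton.mp hD, hd]
    rfl
  · intro D hD
    rw [List.mem_singleton.mp hD]
    exact ht
  · intro D _ a _
    exact ⟨1, one_ne_zero, 1, one_mem _, by rw [one_smul, one_smul]⟩
  · intro D hD
    rw [List.mem_singleton.mp hD]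
    exact co.movesListed_supp fr c₀ _ _ hd.symm rfl rfl ht (by decide) hu

/-- values given by powers of a generator -/
theorem pair_cyclic {htwo : ∀ i, co.n i = 2} {ys : Set H} (fr : co.Frame htwo ys) (hC : S.C ≠ S.A)
    (hu : S.IsBest u) (hYX : S.Y u = S.X u) {p : ℕ} (hp : (Nat.card H).Coprime p) {c₀ : V}
    (hc₀ : c₀ ∈ S.E u) (hctl : ∀ g : H, g • u = u → g • c₀ = c₀ → S.Ctl u g)
    (Ds : List Check.Mono) (L : List (List (List ℕ))) (t : Check.Tree)
    (hD : ∀ D ∈ Ds, D.d = co.d ∧ D.m = Nat.card K - 1 ∧ D.cyclicOK = true)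
    (hlist : Check.listed Ds L = true) (htree : Check.treeOK p (2 ^ co.d) L t [] = true) :
    ∃ v w : V, ∀ g : H, g • v = v → g • w = w → g = 1 := by
  obtain ⟨θ, hθ⟩ := exists_generator (K := K)
  have hspec : ∀ D ∈ Ds, D.tableOK = true ∧ D.neg ≠ 0 ∧ 2 * D.neg = D.m ∧
      ∀ a < D.m, (4 * a % D.m = 0 → a ∈ D.allowed) ∧ ∀ b < D.m, D.op a b = (a + b) % D.m := by
    intro D h
    have h' := (hD D h).2.2
    simp only [Check.Mono.cyclicOK, Bool.and_eq_true, decide_eq_true_eq, List.all_eq_true,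
      List.mem_range, Bool.or_eq_true, List.contains_iff_mem, beq_iff_eq] at h'
    obtain ⟨⟨⟨h1, h2⟩, h3⟩, h4⟩ := h'
    exact ⟨h1, h2, h3, fun a ha => ⟨fun he => (h4 a ha).1.resolve_left (by simpa using he), (h4 a ha).2⟩⟩
  have hθ0 : Ds ≠ [] → θ ≠ 0 := by
    intro hne h0
    obtain ⟨D, h⟩ := List.exists_mem_of_ne_nil Ds hne
    obtain ⟨-, hn, hm, -⟩ := hspec D h
    have hm' := (hD D h).2.1
    have key : ∀ x : K, x ≠ 0 → x = 1 := fun x hx => by
      obtain ⟨j, hj⟩ := (hθ x).resolve_left hx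
      rcases Nat.eq_zero_or_pos j with rfl | hp
      · simpa using hj
      · rw [h0, zero_pow hp.ne'] at hj; exact absurd hj hx
    classical
    have hinj : Function.Injective (fun x : K => decide (x = 0)) := fun x y hxy => by
      simp only [decide_eq_decide] at hxy
      by_cases hx : x = 0
      · rw [hx, hxy.mp hx]
      · rw [key x hx, key y fun hy => hx (hxy.mpr hy)]
    have := Nat.card_le_card_of_injective _ hinj
    rw [Nat.card_eq_fintype_card (α := Bool), Fintype.card_bool] at this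
    omega
  have hperiod : θ ≠ 0 → ∀ j, θ ^ (j % (Nat.card K - 1)) = θ ^ j := by
    intro h0 j
    have h1 : θ ^ (Nat.card K - 1) = 1 := by
      rw [← Nat.card_units]
      have := congrArg Units.val (pow_card_eq_one' (x := Units.mk0 θ h0))
      rwa [Units.val_pow_eq_pow_val, Units.val_mk0, Units.val_one] at this
    conv_rhs => rw [← Nat.div_add_mod j (Nat.card K - 1), pow_add, pow_mul, h1, one_pow, one_mul]
  have hinjθ : θ ≠ 0 → ∀ a b, a < Nat.card K - 1 → b < Nat.card K - 1 → θ ^ a = θ ^ b → a = b := by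
    intro h0 a b ha hb e
    wlog hab : a ≤ b generalizing a b
    · exact (this b a hb ha e.symm (Nat.le_of_not_le hab)).symm
    obtain ⟨c, rfl⟩ : ∃ c, b = a + c := ⟨b - a, by omega⟩
    have hc : θ ^ c = 1 := by
      rw [pow_add] at e
      exact mul_left_cancel₀ (pow_ne_zero a h0) (e.symm.trans (mul_one _).symm)
    rcases Nat.eq_zero_or_pos c with rfl | hcp
    · rfl
    · exact absurd (Nat.le_of_dvd hcp (generator_dvd hθ hc)) (by omega)
  refine co.pair_mono fr hC hu.1 hp hc₀ hctl (fun a => θ ^ a • u) Ds L t (fun D h => (hD D h).1)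
    (fun D h => (hspec D h).1) ?_ ?_ hlist htree
  · intro D h a _
    exact ⟨θ ^ a, pow_ne_zero _ (hθ0 (List.ne_nil_of_mem h)), 1, one_mem _, by rw [one_smul]⟩
  intro D h
  obtain ⟨ht, hn, hm, hop⟩ := hspec D h
  obtain ⟨-, -, -, -, -, -, hclosed, -⟩ := tableOK_spec ht
  have h0 : θ ≠ 0 := hθ0 (List.ne_nil_of_mem h)
  have hmK := (hD D h).2.1
  refine co.movesListed_values fr hC hu c₀ _ D (hD D h).1 ht hn ?_ ?_ ?_ ?_
  · exact fun a _ => ⟨θ ^ a, pow_ne_zero _ h0, 1, one_mem _, by rw [one_smul]⟩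
  · intro a ha b hb e
    exact hinjθ h0 a b (hmK ▸ ha) (hmK ▸ hb) (smul_left_injective K hu.1 e)
  · intro a ha
    show θ ^ D.op D.neg a • u = -(θ ^ a • u)
    rw [(hop D.neg (by omega)).2 a ha, hmK, hperiod h0, pow_add, ← neg_smul]
    congr 1
    have hsq : θ ^ D.neg * θ ^ D.neg = 1 := by
      rw [← pow_add, ← two_mul, hm, hmK, ← hperiod h0, Nat.mod_self, pow_zero]
    have hne : θ ^ D.neg ≠ 1 := fun e => hn (hinjθ h0 D.neg 0 (by omega) (by omega) (by rw [e, pow_zero]))
    rw [(mul_self_eq_one_iff.mp hsq).resolve_left hne]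
    ring
  · intro P c b hP hb hsq
    rw [hYX] at hb
    obtain ⟨k, hk⟩ := hb.2
    have hPu : P u = (c * k) • u := by rw [hP.2.2, hk, smul_smul]
    have hck : c * k ≠ 0 := mul_ne_zero hP.1 fun h0' =>
      hu.1 ((smul_eq_zero_iff_eq _).mp (by rw [hk, h0', zero_smul]))
    have h4 : (c * k) ^ 4 = 1 := by
      have hPP : P (P u) = ((c * k) * (c * k)) • u := by rw [hPu, map_smul, hPu, smul_smul]
      have h2 : (c * k) * (c * k) = 1 ∨ (c * k) * (c * k) = -1 := by
        rcases hsq with e | e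
        · refine Or.inl (smul_left_injective K hu.1 ?_)
          show _ • u = (1 : K) • u
          rw [← hPP, ← Module.End.mul_apply, e, one_smul]
          rfl
        · refine Or.inr (smul_left_injective K hu.1 ?_)
          show _ • u = (-1 : K) • u
          rw [← hPP, ← Module.End.mul_apply, e, neg_one_smul]
          rfl
      rw [show (c * k) ^ 4 = ((c * k) * (c * k)) * ((c * k) * (c * k)) by ring]
      rcases h2 with e | e <;> rw [e] <;> ring
    obtain ⟨j, hj⟩ := (hθ (c * k)).resolve_left hck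
    have hjm : j % D.m < D.m := Nat.mod_lt _ (by omega)
    refine ⟨j % D.m, (hop _ hjm).1 ?_, fun a ha => ?_⟩
    · have h4' : θ ^ (4 * j) = 1 := by rw [mul_comm, pow_mul, ← hj]; exact h4
      have hdvd := generator_dvd hθ h4'
      rw [← hmK] at hdvd
      rw [Nat.mul_mod, Nat.mod_mod, ← Nat.mul_mod]
      exact Nat.mod_eq_zero_of_dvd hdvd
    · show P (θ ^ a • u) = θ ^ D.op (j % D.m) a • u
      rw [map_smul, hPu, smul_smul, (hop _ hjm).2 a ha, Nat.mod_add_mod, hmK, hperiod h0, pow_add, hj,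
        mul_comm]

/-- values given by the quaternion units over the field of three elements -/
theorem pair_quat {htwo : ∀ i, co.n i = 2} {y1 y2 : H} (fr : co.Frame htwo {y1, y2})
    (hC : S.C ≠ S.A) (hu : S.IsBest u) (hq : Nat.card K = 3) (hy1 : y1 ∈ S.Y u) (hy2 : y2 ∈ S.Y u)
    (hy1X : y1 ∉ S.X u) (hy2X : y2 ∉ S.X u) (hy12 : y2⁻¹ * y1 ∉ S.X u)
    (hgen : ∀ b ∈ S.Y u, b ∈ S.X u ∨ y1⁻¹ * b ∈ S.X u ∨ y2⁻¹ * b ∈ S.X u ∨ (y2 * y1)⁻¹ * b ∈ S.X u)
    (hχ : S.χ' ⁅y1, y2⁆ = -1) {p : ℕ} (hp : (Nat.card H).Coprime p) {c₀ : V}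
    (hc₀ : c₀ ∈ S.E u) (hctl : ∀ g : H, g • u = u → g • c₀ = c₀ → S.Ctl u g)
    (D : Check.Mono) (hd : D.d = co.d) (hok : D.quatOK = true)
    (hmv : D.moves = [] ∧ D.spans = true) :
    ∃ v w : V, ∀ g : H, g • v = v → g • w = w → g = 1 := by
  classical
  have : Fintype K := Fintype.ofFinite K
  have hK : ∀ k : K, k ≠ 0 → k = 1 ∨ k = -1 := by
    intro k hk
    refine mul_self_eq_one_iff.mp ?_
    have := FiniteField.pow_card_sub_one_eq_one k hk
    rwa [← Nat.card_eq_fintype_card, hq, sq] at this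
  have h2K : 2 ∣ Nat.card K - 1 := by rw [hq]
  have hneg : (-1 : K) ≠ 1 := by
    intro h
    obtain ⟨z, hz⟩ := exists_prime_orderOf_dvd_card' (G := Kˣ) 2 (by rwa [Nat.card_units])
    have : z = 1 := Units.ext (by
      rcases hK z z.ne_zero with e | e
      · simpa using e
      · simpa [h] using e)
    rw [this, orderOf_one] at hz
    omega
  have hX : ∀ x ∈ S.X u, x • u = u ∨ x • u = -u := fun x hx => by
    obtain ⟨k, hk⟩ := hx.2
    rcases hK k fun h => hu.1 ((smul_eq_zero_iff_eq _).mp (by rw [hk, h, zero_smul])) with rfl | rfl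
    · exact Or.inl (by rw [hk, one_smul])
    · exact Or.inr (by rw [hk, neg_one_smul])
  have hsq : ∀ y ∈ S.Y u, y ∉ S.X u → y • y • u = -u := by
    intro y hy hyX
    rw [← mul_smul, ← sq]
    refine (hX _ (S.sq_mem_X hC hu hy)).resolve_left fun h => hyX
      (S.mem_X_of_root hu Nat.prime_two h2K hy (s := 1) (by rw [h, one_pow, one_smul]))
  have hlin : ∀ {y : H}, y ∈ S.Y u → ∀ v : V, y • -v = -(y • v) := fun {y} _ v => smul_neg y v
  have h11 : y1 • y1 • u = -u := hsq y1 hy1 hy1X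
  have h22 : y2 • y2 • u = -u := hsq y2 hy2 hy2X
  have h21 : y2 • y1 • u = -(y1 • y2 • u) := by
    rw [S.anticomm_smul hy1.1 hy2.1 hχ, neg_neg]
  have hxy : ∀ x ∈ S.X u, ∀ y ∈ S.Y u, x • y • u = y • x • u := fun x hx y hy => by
    rw [← mul_smul, ← mul_smul, Subgroup.mem_centralizer_iff.mp hy.2 x hx]
  have h112 : y1 • y1 • y2 • u = -(y2 • u) := by
    rw [← mul_smul y1 y1, hxy _ (sq y1 ▸ S.sq_mem_X hC hu hy1) _ hy2, mul_smul, h11, hlin hy2]
  have h212 : y2 • y1 • y2 • u = y1 • u := by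
    rw [← neg_neg (y2 • y1 • y2 • u), ← S.anticomm_smul hy1.1 hy2.1 hχ, h22, hlin hy1, neg_neg]
  have h12X : y1 * y2 ∉ S.X u := by
    intro h'
    refine hy12 ?_
    have hA : ⁅y2, y1⁆ ∈ S.X u := S.A_le_X hC u (S.B_comm _ hy2.1 _ hy1.1)
    have := mul_mem (inv_mem (S.sq_mem_X hC hu hy2)) (mul_mem hA h')
    rwa [show (y2 ^ 2)⁻¹ * (⁅y2, y1⁆ * (y1 * y2)) = y2⁻¹ * y1 by
      simp only [commutatorElement_def, sq]; group] at this
  let ν : ℕ → V := fun a =>
    [u, y1 • u, -(y1 • u), y2 • u, y1 • y2 • u, -u, -(y1 • y2 • u), -(y2 • u)].getD a 0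
  have hν : ∀ a < 8, ∃ k : K, k ≠ 0 ∧ ∃ z ∈ S.Y u, ν a = k • z • u := by
    have h1 : (1 : K) ≠ 0 := one_ne_zero
    have h2 : (-1 : K) ≠ 0 := neg_ne_zero.mpr h1
    intro a ha
    interval_cases a <;> simp only [ν, List.getD_cons_zero, List.getD_cons_succ]
    · exact ⟨1, h1, 1, one_mem _, by rw [one_smul, one_smul]⟩
    · exact ⟨1, h1, y1, hy1, by rw [one_smul]⟩
    · exact ⟨-1, h2, y1, hy1, by rw [neg_one_smul]⟩
    · exact ⟨1, h1, y2, hy2, by rw [one_smul]⟩
    · exact ⟨1, h1, y1 * y2, mul_mem hy1 hy2, by rw [one_smul, mul_smul]⟩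
    · exact ⟨-1, h2, 1, one_mem _, by rw [neg_one_smul, one_smul]⟩
    · exact ⟨-1, h2, y1 * y2, mul_mem hy1 hy2, by rw [neg_one_smul, mul_smul]⟩
    · exact ⟨-1, h2, y2, hy2, by rw [neg_one_smul]⟩
  have hne : ∀ y ∈ S.Y u, y ∉ S.X u → y • u ≠ u ∧ -(y • u) ≠ u := fun y hy hyX => by
    refine ⟨fun h => hyX ⟨hy.1, 1, by rw [one_smul]; exact h⟩, fun h => hyX ⟨hy.1, -1, ?_⟩⟩
    rw [neg_one_smul]
    exact neg_eq_iff_eq_neg.mp h
  have huneg : -u ≠ u := fun h => by
    have : (-1 : K) • u = (1 : K) • u := by rw [neg_one_smul, one_smul, h]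
    exact hneg (smul_left_injective K hu.1 this)
  have hν1 : ∀ c < 8, ν c = u → c = 0 := by
    intro c hc h
    interval_cases c <;> simp only [ν, List.getD_cons_zero, List.getD_cons_succ] at h
    · rfl
    · exact absurd h (hne y1 hy1 hy1X).1
    · exact absurd h (hne y1 hy1 hy1X).2
    · exact absurd h (hne y2 hy2 hy2X).1
    · exact absurd ((mul_smul y1 y2 u).trans h) (hne _ (mul_mem hy1 hy2) h12X).1
    · exact absurd h huneg
    · exact absurd (by rw [mul_smul]; exact h) (hne _ (mul_mem hy1 hy2) h12X).2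
    · exact absurd h (hne y2 hy2 hy2X).2
  simp only [Check.Mono.quatOK, Bool.and_eq_true, decide_eq_true_eq, List.all_eq_true,
    List.mem_range, List.contains_iff_mem] at hok
  obtain ⟨⟨⟨⟨ht, hm⟩, hnegD⟩, hmul⟩, hall⟩ := hok
  have hop : ∀ a b, D.op a b = (Check.tblQ.getD a []).getD b 0 := fun a b => by
    rw [Check.Mono.op, hmul]
  -- left multiplication
  let l1 : ∀ a < 8, y1 • ν a = ν (D.op 1 a) := fun a ha => by
    rw [hop]
    interval_cases a <;>
      simp only [ν, Check.tblQ, List.getD_cons_zero, List.getD_cons_succ] <;>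
      simp only [hlin hy1, h11, h112, neg_neg]
  let l2 : ∀ a < 8, y2 • ν a = ν (D.op 3 a) := fun a ha => by
    rw [hop]
    interval_cases a <;>
      simp only [ν, Check.tblQ, List.getD_cons_zero, List.getD_cons_succ] <;>
      simp only [hlin hy2, h22, h21, h212, neg_neg]
  have ln : ∀ a < 8, ν (D.op 5 a) = -ν a := fun a ha => by
    rw [hop]
    interval_cases a <;>
      simp only [ν, Check.tblQ, List.getD_cons_zero, List.getD_cons_succ, neg_neg]
  have hlin1 : ∀ {y : H}, y ∈ S.Y u → ∀ (k : K) (v : V), y • (k • v) = k • y • v :=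
    fun hy k v => S.C_linear (S.B_le_C hy.1) k v
  refine co.pair_mono fr hC hu.1 hp hc₀ hctl ν [D] [[]] (Check.Tree.node 0 [])
    (fun D' h => by rw [List.mem_singleton.mp h]; exact hd)
    (fun D' h => by rw [List.mem_singleton.mp h]; exact ht)
    (fun D' h a ha => hν a (by rw [List.mem_singleton.mp h, hm] at ha; exact ha)) (fun D' h => ?_)
    (listed_single hmv) (treeOK_single _ _)
  rw [List.mem_singleton.mp h]
  obtain ⟨-, -, -, -, hid, hcomm, hclosed, hassoc⟩ := tableOK_spec ht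
  rw [hm] at hid hcomm hclosed hassoc
  -- action of the units
  have hact : ∀ z ∈ S.Y u, ∃ f < 8, ∀ a < 8, z • ν a = ν (D.op f a) := by
    intro z hz
    have hscal : ∀ x ∈ S.X u, ∃ f < 8, ∀ a < 8, x • ν a = ν (D.op f a) := by
      intro x hx
      have hxz : ∀ a < 8, x • u = u → x • ν a = ν a := fun a ha h => by
        obtain ⟨k, -, z, hz, e⟩ := hν a ha
        rw [e, hlin1 (S.X_le_Y hu.1 hx), hxy x hx z hz, h]
      have hxn : ∀ a < 8, x • u = -u → x • ν a = -ν a := fun a ha h => by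
        obtain ⟨k, -, z, hz, e⟩ := hν a ha
        rw [e, hlin1 (S.X_le_Y hu.1 hx), hxy x hx z hz, h, smul_neg, smul_neg]
      rcases hX x hx with h | h
      · exact ⟨0, by omega, fun a ha => by rw [hid a ha, hxz a ha h]⟩
      · exact ⟨5, by omega, fun a ha => by rw [ln a ha, hxn a ha h]⟩
    rcases hgen z hz with h | h | h | h
    · exact hscal z h
    all_goals
      obtain ⟨f, hf, hfν⟩ := hscal _ h
    · refine ⟨D.op 1 f, hclosed 1 (by omega) f hf, fun a ha => ?_⟩
      rw [hassoc 1 (by omega) f hf a ha, ← l1 _ (hclosed f hf a ha), ← hfν a ha, ← mul_smul,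
        mul_inv_cancel_left]
    · refine ⟨D.op 3 f, hclosed 3 (by omega) f hf, fun a ha => ?_⟩
      rw [hassoc 3 (by omega) f hf a ha, ← l2 _ (hclosed f hf a ha), ← hfν a ha, ← mul_smul,
        mul_inv_cancel_left]
    · refine ⟨D.op (D.op 3 1) f, hclosed _ (hclosed 3 (by omega) 1 (by omega)) f hf, fun a ha => ?_⟩
      rw [hassoc _ (hclosed 3 (by omega) 1 (by omega)) f hf a ha,
        hassoc 3 (by omega) 1 (by omega) _ (hclosed f hf a ha),
        ← l2 _ (hclosed 1 (by omega) _ (hclosed f hf a ha)), ← l1 _ (hclosed f hf a ha), ← hfν a ha,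
        ← mul_smul, ← mul_smul, ← mul_assoc, mul_inv_cancel, one_mul]
  refine co.movesListed_values fr hC hu c₀ ν D hd ht (by omega) (fun a ha => hν a (hm ▸ ha)) ?_ ?_ ?_
  · rw [hm]
    intro a ha b hb e
    -- cancel on the left by the inverse
    obtain ⟨k, hk0, z, hz, hk⟩ := hν a ha
    have hinv : ∃ f < 8, D.op f a = 0 := by
      simp only [hop]
      interval_cases a <;> decide
    obtain ⟨f, hf, hfa⟩ := hinv
    have key : ∀ f < 8, ∀ x < 8, ∀ y < 8, ν x = ν y → ν (D.op f x) = ν (D.op f y) := by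
      intro f hf x hx y hy exy
      have hf' : f = 0 ∨ f = 1 ∨ f = D.op 5 1 ∨ f = 3 ∨ f = D.op 1 3 ∨ f = 5 ∨ f = D.op 3 1 ∨
          f = D.op 5 3 := by
        simp only [hop]; interval_cases f <;> decide
      rcases hf' with rfl | rfl | rfl | rfl | rfl | rfl | rfl | rfl
      · rw [hid x hx, hid y hy, exy]
      · rw [← l1 x hx, ← l1 y hy, exy]
      · rw [hassoc 5 (by omega) 1 (by omega) x hx, hassoc 5 (by omega) 1 (by omega) y hy,
          ln _ (hclosed 1 (by omega) x hx), ln _ (hclosed 1 (by omega) y hy), ← l1 x hx, ← l1 y hy, exy]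
      · rw [← l2 x hx, ← l2 y hy, exy]
      · rw [hassoc 1 (by omega) 3 (by omega) x hx, hassoc 1 (by omega) 3 (by omega) y hy,
          ← l1 _ (hclosed 3 (by omega) x hx), ← l1 _ (hclosed 3 (by omega) y hy), ← l2 x hx, ← l2 y hy, exy]
      · rw [ln x hx, ln y hy, exy]
      · rw [hassoc 3 (by omega) 1 (by omega) x hx, hassoc 3 (by omega) 1 (by omega) y hy,
          ← l2 _ (hclosed 1 (by omega) x hx), ← l2 _ (hclosed 1 (by omega) y hy), ← l1 x hx, ← l1 y hy, exy]
      · rw [hassoc 5 (by omega) 3 (by omega) x hx, hassoc 5 (by omega) 3 (by omega) y hy,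
          ln _ (hclosed 3 (by omega) x hx), ln _ (hclosed 3 (by omega) y hy), ← l2 x hx, ← l2 y hy, exy]
    have h0 := key f hf a ha b hb e
    rw [hfa] at h0
    have h0' := hν1 _ (hclosed f hf b hb) (by rw [← h0]; rfl)
    have huniq : ∀ f < 8, ∀ a < 8, ∀ b < 8, (Check.tblQ.getD f []).getD a 0 = 0 →
        (Check.tblQ.getD f []).getD b 0 = 0 → a = b := by decide
    exact huniq f hf a ha b hb (hop f a ▸ hfa) (hop f b ▸ h0')
  · rw [hm, hnegD]
    exact ln
  · intro P c b hP hb _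
    rw [hm]
    obtain ⟨f, hf, hfν⟩ := hact b hb
    rcases hK c hP.1 with rfl | rfl
    · exact ⟨f, hall f hf, fun a ha => by rw [hP.2.2, hfν a ha, one_smul]⟩
    · exact ⟨D.op 5 f, hall _ (hclosed 5 (by omega) f hf), fun a ha => by
        rw [hP.2.2, hfν a ha, neg_one_smul, hassoc 5 (by omega) f hf a ha, ln _ (hclosed f hf a ha)]⟩

end Coords

end Setup

end CfsgLib.BaseThree
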