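import Mathlib
/-
A small rigid subset of a binary vector space: the unit vectors, the sums of consecutive ones and
one vector of large weight.
-/
set_option autoImplicit false

namespace CfsgLib.BaseThree

/-- a unit vector, indexed by a natural number -/
def bvec (d i : ℕ) : Fin d → ZMod 2 := fun l => if l.val = i then 1 else 0

/-- a sum of two consecutive unit vectors -/
def pvec (d i : ℕ) : Fin d → ZMod 2 := fun l => if l.val = i ∨ l.val = i + 1 then 1 else 0

/-- the long vector -/
def qvec (d : ℕ) : Fin d → ZMod 2 := fun l => if l.val = 2 then 0 else 1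

/-- the set -/
def PathSet (d : ℕ) (w : Fin d → ZMod 2) : Prop :=
  (∃ i, i < d ∧ w = bvec d i) ∨ (∃ i, i + 1 < d ∧ w = pvec d i) ∨ w = qvec d

theorem zmod2_cases (x : ZMod 2) : x = 0 ∨ x = 1 := by revert x; decide

variable {d : ℕ}

theorem bvec_at (i : ℕ) (l : Fin d) : bvec d i l = 1 ↔ l.val = i := by
  unfold bvec; split_ifs with h <;> simp [h]

theorem pvec_at (i : ℕ) (l : Fin d) : pvec d i l = 1 ↔ (l.val = i ∨ l.val = i + 1) := by
  unfold pvec; split_ifs with h <;> simp [h]

theorem qvec_at (l : Fin d) : qvec d l = 1 ↔ l.val ≠ 2 := by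
  unfold qvec; split_ifs with h <;> simp [h]

theorem add_at (a b : Fin d → ZMod 2) (l : Fin d) : (a + b) l = 1 ↔ ¬ (a l = 1 ↔ b l = 1) := by
  rcases zmod2_cases (a l) with h | h <;> rcases zmod2_cases (b l) with h' | h' <;>
    simp [h, h'] <;> decide

theorem ext_at {a b : Fin d → ZMod 2} (h : ∀ l, a l = 1 ↔ b l = 1) : a = b := funext fun l => by
  rcases zmod2_cases (a l) with e | e <;> rcases zmod2_cases (b l) with e' | e' <;>
    have := h l <;> simp_all

/-- the only relations among three members -/
theorem path_rel (hd : 6 ≤ d) {a b c : Fin d → ZMod 2} (ha : PathSet d a) (hb : PathSet d b)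
    (hc : PathSet d c) (h : a + b = c) :
    ∃ k, k + 1 < d ∧
      ((a = bvec d k ∧ b = bvec d (k+1) ∧ c = pvec d k) ∨ (b = bvec d k ∧ a = bvec d (k+1) ∧ c = pvec d k) ∨
       (a = bvec d k ∧ c = bvec d (k+1) ∧ b = pvec d k) ∨ (c = bvec d k ∧ a = bvec d (k+1) ∧ b = pvec d k) ∨
       (b = bvec d k ∧ c = bvec d (k+1) ∧ a = pvec d k) ∨ (c = bvec d k ∧ b = bvec d (k+1) ∧ a = pvec d k)) := by
  have hv : ∀ n, ∀ hn : n < d, (c ⟨n, hn⟩ = 1 ↔ ¬ (a ⟨n, hn⟩ = 1 ↔ b ⟨n, hn⟩ = 1)) :=
    fun n hn => by rw [← h]; exact add_at a b _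
  have h0 := hv 0 (by omega)
  have h1 := hv 1 (by omega)
  have h3 := hv 3 (by omega)
  have h4 := hv 4 (by omega)
  have h5 := hv 5 (by omega)
  rcases ha with ⟨i, hi, rfl⟩ | ⟨i, hi, rfl⟩ | rfl <;>
  rcases hb with ⟨j, hj, rfl⟩ | ⟨j, hj, rfl⟩ | rfl <;>
  rcases hc with ⟨k, hk, rfl⟩ | ⟨k, hk, rfl⟩ | rfl <;>
    simp only [bvec_at, pvec_at, qvec_at] at h0 h1 h3 h4 h5 hv
  · have := hv i hi; have := hv j hj; have := hv k hk; omega
  · have := hv i hi; have := hv j hj; have := hv k (by omega); have := hv (k+1) hk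
    refine ⟨k, hk, ?_⟩
    rcases (by omega : (i = k ∧ j = k + 1) ∨ (j = k ∧ i = k + 1)) with ⟨rfl, rfl⟩ | ⟨rfl, rfl⟩
    · exact Or.inl ⟨rfl, rfl, rfl⟩
    · exact Or.inr (Or.inl ⟨rfl, rfl, rfl⟩)
  · exfalso; omega
  · have := hv i hi; have := hv j (by omega); have := hv (j+1) hj; have := hv k hk
    refine ⟨j, hj, ?_⟩
    rcases (by omega : (i = j ∧ k = j + 1) ∨ (k = j ∧ i = j + 1)) with ⟨rfl, rfl⟩ | ⟨rfl, rfl⟩
    · exact Or.inr (Or.inr (Or.inl ⟨rfl, rfl, rfl⟩))
    · exact Or.inr (Or.inr (Or.inr (Or.inl ⟨rfl, rfl, rfl⟩)))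
  · have := hv i hi; have := hv j (by omega); have := hv (j+1) hj; have := hv k (by omega); have := hv (k+1) hk
    exfalso; omega
  · exfalso; omega
  · exfalso; omega
  · exfalso; omega
  · exfalso; have := hv i hi; omega
  · have := hv i (by omega); have := hv (i+1) hi; have := hv j hj; have := hv k hk
    refine ⟨i, hi, ?_⟩
    rcases (by omega : (j = i ∧ k = i + 1) ∨ (k = i ∧ j = i + 1)) with ⟨rfl, rfl⟩ | ⟨rfl, rfl⟩
    · exact Or.inr (Or.inr (Or.inr (Or.inr (Or.inl ⟨rfl, rfl, rfl⟩))))
    · exact Or.inr (Or.inr (Or.inr (Or.inr (Or.inr ⟨rfl, rfl, rfl⟩))))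
  · have := hv i (by omega); have := hv (i+1) hi; have := hv j hj; have := hv k (by omega); have := hv (k+1) hk
    exfalso; omega
  · exfalso; omega
  · have := hv i (by omega); have := hv (i+1) hi; have := hv j (by omega); have := hv (j+1) hj; have := hv k hk
    exfalso; omega
  · have := hv i (by omega); have := hv (i+1) hi; have := hv j (by omega); have := hv (j+1) hj; have := hv k (by omega); have := hv (k+1) hk
    exfalso; omega
  · exfalso; omega
  · exfalso; omega
  · exfalso; omega
  · exfalso; have := hv i (by omega); have := hv (i+1) hi; omega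
  · exfalso; omega
  · exfalso; omega
  · exfalso; have := hv j hj; omega
  · exfalso; omega
  · exfalso; omega
  · exfalso; have := hv j (by omega); have := hv (j+1) hj; omega
  · exfalso; have := congrFun h ⟨k, hk⟩; simp [bvec, qvec, CharTwo.add_self_eq_zero] at this
  · exfalso; have := congrFun h ⟨k, by omega⟩; simp [pvec, qvec, CharTwo.add_self_eq_zero] at this
  · exfalso; have := congrFun h ⟨0, by omega⟩; simp [qvec, CharTwo.add_self_eq_zero] at this

theorem bvec_inj {i j : ℕ} (hi : i < d) (h : bvec d i = bvec d j) : i = j :=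
  (bvec_at j ⟨i, hi⟩).mp (h ▸ (bvec_at i ⟨i, hi⟩).mpr rfl)

theorem bvec_ne_pvec {i j : ℕ} (hj : j + 1 < d) : bvec d i ≠ pvec d j := fun h => by
  have h1 := (bvec_at i ⟨j, by omega⟩).mp (h ▸ (pvec_at j ⟨j, by omega⟩).mpr (Or.inl rfl))
  have h2 := (bvec_at i ⟨j + 1, hj⟩).mp (h ▸ (pvec_at j ⟨j + 1, hj⟩).mpr (Or.inr rfl))
  simp only at h1 h2
  omega

theorem pvec_inj {i j : ℕ} (hi : i + 1 < d) (h : pvec d i = pvec d j) : i = j := by
  have h1 := (pvec_at j ⟨i, by omega⟩).mp (h ▸ (pvec_at i ⟨i, by omega⟩).mpr (Or.inl rfl))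
  have h2 := (pvec_at j ⟨i + 1, hi⟩).mp (h ▸ (pvec_at i ⟨i + 1, hi⟩).mpr (Or.inr rfl))
  simp only at h1 h2
  omega

theorem pvec_eq (i : ℕ) : pvec d i = bvec d i + bvec d (i + 1) := ext_at fun l => by
  rw [add_at, pvec_at, bvec_at, bvec_at]; omega

/-- a member with two decompositions is an inner unit vector -/
theorem inner_of_two (hd : 6 ≤ d) {a b a' b' c : Fin d → ZMod 2} (ha : PathSet d a)
    (hb : PathSet d b) (ha' : PathSet d a') (hb' : PathSet d b') (hc : PathSet d c)
    (h : a + b = c) (h' : a' + b' = c) (hne : a ≠ a') (hne' : a ≠ b') :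
    ∃ j, 1 ≤ j ∧ j + 1 < d ∧ c = bvec d j := by
  obtain ⟨k, hk, h1⟩ := path_rel hd ha hb hc h
  obtain ⟨k', hk', h2⟩ := path_rel hd ha' hb' hc h'
  rcases h1 with ⟨e1, e2, e3⟩ | ⟨e1, e2, e3⟩ | ⟨e1, e2, e3⟩ | ⟨e1, e2, e3⟩ | ⟨e1, e2, e3⟩ | ⟨e1, e2, e3⟩ <;>
  rcases h2 with ⟨f1, f2, f3⟩ | ⟨f1, f2, f3⟩ | ⟨f1, f2, f3⟩ | ⟨f1, f2, f3⟩ | ⟨f1, f2, f3⟩ | ⟨f1, f2, f3⟩ <;>
  first
    | (exact absurd (e3.symm.trans f2).symm (bvec_ne_pvec hk))
    | (exact absurd (e3.symm.trans f1).symm (bvec_ne_pvec hk))
    | (exact absurd (e2.symm.trans f3) (bvec_ne_pvec hk'))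
    | (exact absurd (e1.symm.trans f3) (bvec_ne_pvec hk'))
    | (have := pvec_inj hk (e3.symm.trans f3); subst this
       first
         | exact absurd (e1.trans f1.symm) hne
         | exact absurd (e2.trans f2.symm) hne
         | exact absurd (e1.trans f2.symm) hne
         | exact absurd (e2.trans f1.symm) hne
         | exact absurd (e1.trans f1.symm) hne'
         | exact absurd (e2.trans f2.symm) hne'
         | exact absurd (e1.trans f2.symm) hne'
         | exact absurd (e2.trans f1.symm) hne')
    | (have := bvec_inj (by omega) (e2.symm.trans f2); 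
       first
         | exact ⟨k + 1, by omega, by omega, e2⟩
         | (have hkk : k = k' := by omega
            subst hkk
            first
              | exact absurd (e1.trans f1.symm) hne
              | exact absurd (e3.trans f3.symm) hne
              | exact absurd (e1.trans f1.symm) hne'
              | exact absurd (e3.trans f3.symm) hne'
              | exact absurd (e1.trans f3.symm) hne
              | exact absurd (e3.trans f1.symm) hne
              | exact absurd (e1.trans f3.symm) hne'
              | exact absurd (e3.trans f1.symm) hne'))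
    | (have := bvec_inj (by omega) (e1.symm.trans f1);
       first
         | exact ⟨k, by omega, by omega, e1⟩
         | (have hkk : k = k' := by omega
            subst hkk
            first
              | exact absurd (e2.trans f2.symm) hne
              | exact absurd (e3.trans f3.symm) hne
              | exact absurd (e2.trans f2.symm) hne'
              | exact absurd (e3.trans f3.symm) hne'
              | exact absurd (e2.trans f3.symm) hne
              | exact absurd (e3.trans f2.symm) hne
              | exact absurd (e2.trans f3.symm) hne'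
              | exact absurd (e3.trans f2.symm) hne'))
    | (have := bvec_inj (by omega) (e2.symm.trans f1); exact ⟨k + 1, by omega, by omega, e2⟩)
    | (have := bvec_inj (by omega) (e1.symm.trans f2); exact ⟨k, by omega, by omega, e1⟩)

/-- only the identity preserves the set -/
theorem path_fix (hd : 6 ≤ d) (M : (Fin d → ZMod 2) →+ (Fin d → ZMod 2))
    (hinj : Function.Injective M) (hM : ∀ w, PathSet d w → PathSet d (M w)) : ∀ w, M w = w := by
  classical
  have hvv : ∀ v : Fin d → ZMod 2, v + v = 0 := fun v => funext fun l => CharTwo.add_self_eq_zero (v l)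
  have hb : ∀ i, i < d → PathSet d (bvec d i) := fun i hi => Or.inl ⟨i, hi, rfl⟩
  have hp : ∀ i, i + 1 < d → PathSet d (pvec d i) := fun i hi => Or.inr (Or.inl ⟨i, hi, rfl⟩)
  have inner : ∀ i, ∃ j, 1 ≤ i → i + 1 < d → 1 ≤ j ∧ j + 1 < d ∧ M (bvec d i) = bvec d j := by
    intro i
    by_cases h : 1 ≤ i ∧ i + 1 < d
    swap
    · exact ⟨0, fun a b => absurd ⟨a, b⟩ h⟩
    obtain ⟨m, rfl⟩ : ∃ m, i = m + 1 := ⟨i - 1, by omega⟩
    have e1 : bvec d m + pvec d m = bvec d (m + 1) := by
      rw [pvec_eq, ← add_assoc, hvv, zero_add]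
    have e2 : bvec d (m + 2) + pvec d (m + 1) = bvec d (m + 1) := by
      rw [pvec_eq, show m + 1 + 1 = m + 2 from rfl, add_left_comm, hvv, add_zero]
    obtain ⟨j, hj⟩ := inner_of_two hd (hM _ (hb m (by omega))) (hM _ (hp m (by omega)))
      (hM _ (hb (m + 2) (by omega))) (hM _ (hp (m + 1) (by omega))) (hM _ (hb (m + 1) (by omega)))
      (by rw [← map_add, e1]) (by rw [← map_add, e2])
      (fun h => by have := bvec_inj (by omega) (hinj h); omega)
      (fun h => bvec_ne_pvec (by omega) (hinj h))
    exact ⟨j, fun _ _ => hj⟩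
  choose f hf using inner
  have hfinj : ∀ i j, 1 ≤ i → i + 1 < d → 1 ≤ j → j + 1 < d → f i = f j → i = j := by
    intro i j a b a' b' h
    have e1 := (hf i a b).2.2
    have e2 := (hf j a' b').2.2
    rw [h, ← e2] at e1
    exact bvec_inj (by omega) (hinj e1)
  have adj : ∀ i, 1 ≤ i → i + 2 < d → f (i + 1) = f i + 1 ∨ f i = f (i + 1) + 1 := by
    intro i a b
    obtain ⟨a1, b1, e1⟩ := hf i a (by omega)
    obtain ⟨a2, b2, e2⟩ := hf (i + 1) (by omega) (by omega)
    have hc := hM _ (hp i (by omega))
    rw [pvec_eq, map_add, e1, e2] at hc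
    obtain ⟨k, hk, h⟩ := path_rel hd (hb (f i) (by omega)) (hb (f (i + 1)) (by omega)) hc rfl
    rcases h with ⟨x, y, z⟩ | ⟨x, y, z⟩ | ⟨x, y, z⟩ | ⟨x, y, z⟩ | ⟨x, y, z⟩ | ⟨x, y, z⟩
    · left; rw [bvec_inj (by omega) x, bvec_inj (by omega) y]
    · right; rw [bvec_inj (by omega) x, bvec_inj (by omega) y]
    · exact absurd z (bvec_ne_pvec hk)
    · exact absurd z (bvec_ne_pvec hk)
    · exact absurd z (bvec_ne_pvec hk)
    · exact absurd z (bvec_ne_pvec hk)
  have mono : (∀ i, 1 ≤ i → i + 1 < d → f i = i) ∨ (∀ i, 1 ≤ i → i + 1 < d → f i + i + 1 = d) := by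
    have step : ∀ m, m + 2 < d → (∀ t, t ≤ m → f (1 + t) = f 1 + t) ∨
        (∀ t, t ≤ m → f (1 + t) + t = f 1) := by
      intro m
      induction m with
      | zero => intro _; left; intro t ht; rw [Nat.le_zero.mp ht]; simp
      | succ m ih =>
        intro hm
        have ha := adj (1 + m) (by omega) (by omega)
        rcases Nat.eq_zero_or_pos m with rfl | hm0
        · simp only [Nat.add_zero] at ha
          rcases ha with ha | ha
          · left; intro t ht; interval_cases t
            · simp
            · omega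
          · right; intro t ht; interval_cases t
            · simp
            · omega
        have hne : f (1 + m + 1) ≠ f (1 + (m - 1)) := fun h => by
          have := hfinj _ _ (by omega) (by omega) (by omega) (by omega) h
          omega
        rcases ih (by omega) with h | h
        · left; intro t ht
          rcases Nat.lt_or_ge m t with hlt | hge
          · have h1 := h m le_rfl
            have h2 := h (m - 1) (by omega)
            rw [show t = m + 1 by omega, show 1 + (m + 1) = 1 + m + 1 from rfl]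
            omega
          · exact h t hge
        · right; intro t ht
          rcases Nat.lt_or_ge m t with hlt | hge
          · have h1 := h m le_rfl
            have h2 := h (m - 1) (by omega)
            rw [show t = m + 1 by omega, show 1 + (m + 1) = 1 + m + 1 from rfl]
            omega
          · exact h t hge
    obtain ⟨r, hr⟩ : ∃ r, r + 3 = d := ⟨d - 3, by omega⟩
    obtain ⟨a1, b1, -⟩ := hf 1 le_rfl (by omega)
    obtain ⟨a2, b2, -⟩ := hf (1 + r) (by omega) (by omega)
    rcases step r (by omega) with h | h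
    · left; intro i a b
      have h1 := h r le_rfl
      have h2 := h (i - 1) (by omega)
      rw [show 1 + (i - 1) = i by omega] at h2
      omega
    · right; intro i a b
      have h1 := h r le_rfl
      have h2 := h (i - 1) (by omega)
      rw [show 1 + (i - 1) = i by omega] at h2
      omega
  -- the ends
  have ends : ∀ o n n2, o < d → 1 ≤ n → n + 1 < d → 1 ≤ n2 → n2 + 1 < d →
      (n = o + 1 ∧ n2 = n + 1 ∨ o = n + 1 ∧ n = n2 + 1) →
      (f n = 1 ∧ f n2 = 2 → M (bvec d o) = bvec d 0 ∨ M (bvec d o) = pvec d 0) ∧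
      (f n + 2 = d ∧ f n2 + 3 = d →
        M (bvec d o) = bvec d (d - 1) ∨ M (bvec d o) = pvec d (d - 2)) := by
    intro o n n2 ho a b a2 b2 hpos
    obtain ⟨-, -, e⟩ := hf n a b
    obtain ⟨-, -, e2⟩ := hf n2 a2 b2
    have hsum : PathSet d (bvec d o + bvec d n) := by
      rcases hpos with ⟨h, -⟩ | ⟨h, -⟩
      · rw [h, ← pvec_eq]; exact hp o (by omega)
      · rw [h, add_comm, ← pvec_eq]; exact hp n (by omega)
    have hsum2 : PathSet d (bvec d n + bvec d n2) := by
      rcases hpos with ⟨-, h⟩ | ⟨-, h⟩
      · rw [h, ← pvec_eq]; exact hp n (by omega)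
      · rw [h, add_comm, ← pvec_eq]; exact hp n2 (by omega)
    have hc := hM _ hsum
    rw [map_add] at hc
    obtain ⟨k, hk, h⟩ := path_rel hd (hM _ (hb o ho)) (hb (f n) (by have := hf n a b; omega))
      (e ▸ hc) rfl
    have ne2 : M (bvec d o) ≠ bvec d (f n2) := fun h' => by
      have := bvec_inj (by omega) (hinj (h'.trans e2.symm)); omega
    have nep : M (bvec d o) ≠ bvec d (f n) + bvec d (f n2) := fun h' => by
      rw [← e, ← e2, ← map_add] at h'
      have h'' := hinj h'
      rcases hpos with ⟨-, q⟩ | ⟨-, q⟩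
      · exact bvec_ne_pvec (show n + 1 < d from b) (by rw [pvec_eq, ← q]; exact h'')
      · exact bvec_ne_pvec (show n2 + 1 < d from b2) (by rw [pvec_eq, ← q, add_comm]; exact h'')
    rcases h with ⟨x, y, z⟩ | ⟨x, y, z⟩ | ⟨x, y, z⟩ | ⟨x, y, z⟩ | ⟨x, y, z⟩ | ⟨x, y, z⟩
    · have hk1 := bvec_inj (by have := hf n a b; omega) y
      refine ⟨fun h' => ?_, fun h' => ?_⟩
      · left; rw [x, show k = 0 by omega]
      · exfalso; exact ne2 (by rw [x, show k = f n2 by omega])
    · have hk1 := bvec_inj (by have := hf n a b; omega) x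
      refine ⟨fun h' => ?_, fun h' => ?_⟩
      · exfalso; exact ne2 (by rw [y, show k + 1 = f n2 by omega])
      · left; rw [y, show k + 1 = d - 1 by omega]
    · exact absurd z (bvec_ne_pvec hk)
    · exact absurd z (bvec_ne_pvec hk)
    · have hk1 := bvec_inj (by have := hf n a b; omega) x
      refine ⟨fun h' => ?_, fun h' => ?_⟩
      · exfalso
        refine nep (z.trans ?_)
        rw [pvec_eq, show k = f n by omega, show f n2 = f n + 1 by omega]
      · right; rw [z, show k = d - 2 by omega]
    · have hk1 := bvec_inj (by have := hf n a b; omega) y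
      refine ⟨fun h' => ?_, fun h' => ?_⟩
      · right; rw [z, show k = 0 by omega]
      · exfalso
        refine nep (z.trans ?_)
        rw [pvec_eq, add_comm, show k + 1 = f n by omega, show k = f n2 by omega]
  -- the long vector
  have hq : qvec d = ∑ i ∈ (Finset.range d).erase 2, bvec d i := by
    funext l
    rw [Finset.sum_apply]
    simp only [bvec]
    rw [Finset.sum_ite_eq]
    simp [qvec, l.2]
  have hMq := hM _ (Or.inr (Or.inr rfl))
  rw [hq, map_sum] at hMq
  set Q := ∑ i ∈ (Finset.range d).erase 2, M (bvec d i) with hQ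
  have one_at : ∀ (l : Fin d) (i0 : ℕ), i0 < d → i0 ≠ 2 → M (bvec d i0) l = 1 →
      (∀ i, i < d → i ≠ i0 → M (bvec d i) l ≠ 1) → Q l = 1 := by
    intro l i0 hi0 h2 h h'
    rw [hQ, Finset.sum_apply, Finset.sum_eq_single i0 (fun i hi hne =>
      (zmod2_cases _).resolve_right (h' i (Finset.mem_range.mp (Finset.mem_of_mem_erase hi)) hne))
      (fun hn => absurd (Finset.mem_erase.mpr ⟨h2, Finset.mem_range.mpr hi0⟩) hn)]
    exact h
  have classify : ∀ i, i < d → i = 0 ∨ i = d - 1 ∨ (1 ≤ i ∧ i + 1 < d) := fun i hi => by omega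
  rcases mono with hid | hrev
  · have h0 := (ends 0 1 2 (by omega) le_rfl (by omega) (by omega) (by omega) (Or.inl ⟨rfl, rfl⟩)).1
      ⟨hid 1 le_rfl (by omega), hid 2 (by omega) (by omega)⟩
    have hl := (ends (d - 1) (d - 2) (d - 3) (by omega) (by omega) (by omega) (by omega) (by omega)
      (Or.inr ⟨by omega, by omega⟩)).2 ⟨by rw [hid _ (by omega) (by omega)]; omega,
        by rw [hid _ (by omega) (by omega)]; omega⟩
    have hi : ∀ i, 1 ≤ i → i + 1 < d → M (bvec d i) = bvec d i := fun i a b => by
      rw [(hf i a b).2.2, hid i a b]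
    have q0 : Q ⟨0, by omega⟩ = 1 := one_at _ 0 (by omega) (by omega)
      (by rcases h0 with h | h <;> rw [h] <;> simp [bvec_at, pvec_at])
      fun i hid' hne => by
        rcases classify i hid' with rfl | rfl | ⟨a, b⟩
        · omega
        · rcases hl with h | h <;> rw [h] <;> simp [bvec_at, pvec_at] <;> omega
        · rw [hi i a b, Ne, bvec_at]; simp; omega
    have q3 : Q ⟨3, by omega⟩ = 1 := one_at _ 3 (by omega) (by omega)
      (by rw [hi 3 (by omega) (by omega)]; simp [bvec_at])
      fun i hid' hne => by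
        rcases classify i hid' with rfl | rfl | ⟨a, b⟩
        · rcases h0 with h | h <;> rw [h] <;> simp [bvec_at, pvec_at]
        · rcases hl with h | h <;> rw [h] <;> simp [bvec_at, pvec_at] <;> omega
        · rw [hi i a b, Ne, bvec_at]; simp; omega
    have qd : Q ⟨d - 1, by omega⟩ = 1 := one_at _ (d - 1) (by omega) (by omega)
      (by rcases hl with h | h <;> rw [h] <;> simp [bvec_at, pvec_at] <;> omega)
      fun i hid' hne => by
        rcases classify i hid' with rfl | rfl | ⟨a, b⟩
        · rcases h0 with h | h <;> rw [h] <;> simp [bvec_at, pvec_at] <;> omega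
        · omega
        · rw [hi i a b, Ne, bvec_at]; simp; omega
    have hQq : Q = qvec d := by
      rcases hMq with ⟨k, hk, h⟩ | ⟨k, hk, h⟩ | h
      · rw [h, bvec_at] at q0 q3; simp at q0 q3; omega
      · rw [h, pvec_at] at q0 q3; simp at q0 q3; omega
      · exact h
    -- the short ends
    have e0 : M (bvec d 0) = bvec d 0 := by
      refine h0.resolve_right fun h => ?_
      have h1 : Q ⟨1, by omega⟩ = 0 := by
        rw [hQ, Finset.sum_apply, ← Finset.sum_subset (s₁ := ({0, 1} : Finset ℕ))
          (fun i hi' => by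
            simp only [Finset.mem_insert, Finset.mem_singleton] at hi'
            exact Finset.mem_erase.mpr ⟨by omega, Finset.mem_range.mpr (by omega)⟩)
          (fun i hi' hne => by
            simp only [Finset.mem_insert, Finset.mem_singleton] at hne
            have := Finset.mem_range.mp (Finset.mem_of_mem_erase hi')
            refine (zmod2_cases _).resolve_right ?_
            rcases classify i this with rfl | rfl | ⟨a, b⟩
            · omega
            · rcases hl with h' | h' <;> rw [h'] <;> simp [bvec_at, pvec_at] <;> omega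
            · rw [hi i a b, bvec_at]; simp; omega),
          Finset.sum_pair (by omega), h, hi 1 le_rfl (by omega)]
        simp [pvec, bvec, CharTwo.add_self_eq_zero]
      rw [hQq] at h1
      simp [qvec] at h1
    have el : M (bvec d (d - 1)) = bvec d (d - 1) := by
      refine hl.resolve_right fun h => ?_
      have h1 : Q ⟨d - 2, by omega⟩ = 0 := by
        rw [hQ, Finset.sum_apply, ← Finset.sum_subset (s₁ := ({d - 1, d - 2} : Finset ℕ))
          (fun i hi' => by
            simp only [Finset.mem_insert, Finset.mem_singleton] at hi'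
            exact Finset.mem_erase.mpr ⟨by omega, Finset.mem_range.mpr (by omega)⟩)
          (fun i hi' hne => by
            simp only [Finset.mem_insert, Finset.mem_singleton] at hne
            have := Finset.mem_range.mp (Finset.mem_of_mem_erase hi')
            refine (zmod2_cases _).resolve_right ?_
            rcases classify i this with rfl | rfl | ⟨a, b⟩
            · rw [e0, bvec_at]; simp; omega
            · omega
            · rw [hi i a b, bvec_at]; simp; omega),
          Finset.sum_pair (by omega), h, hi (d - 2) (by omega) (by omega)]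
        simp [pvec, bvec, CharTwo.add_self_eq_zero]
      rw [hQq] at h1
      simp [qvec] at h1
      omega
    intro w
    show M w = AddMonoidHom.id _ w
    congr 1
    refine AddMonoidHom.functions_ext' _ _ _ fun i => AddMonoidHom.ext fun x => ?_
    have hs : (Pi.single i 1 : Fin d → ZMod 2) = bvec d i.val := funext fun l => by
      by_cases h : l = i
      · subst h; simp [bvec]
      · simp [bvec, Fin.val_inj, h]
    rcases zmod2_cases x with rfl | rfl
    · simp
    · simp only [AddMonoidHom.comp_apply, AddMonoidHom.single_apply, AddMonoidHom.id_apply, hs]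
      rcases classify i.val i.2 with h | h | ⟨a, b⟩
      · rw [h, e0]
      · rw [h, el]
      · exact hi _ a b
  · exfalso
    have hr : ∀ i, 1 ≤ i → i + 1 < d → M (bvec d i) = bvec d (d - 1 - i) := fun i a b => by
      rw [(hf i a b).2.2, show f i = d - 1 - i by have := hrev i a b; omega]
    have h0 := (ends 0 1 2 (by omega) le_rfl (by omega) (by omega) (by omega) (Or.inl ⟨rfl, rfl⟩)).2
      ⟨by have := hrev 1 le_rfl (by omega); omega, by have := hrev 2 (by omega) (by omega); omega⟩
    have hl := (ends (d - 1) (d - 2) (d - 3) (by omega) (by omega) (by omega) (by omega) (by omega)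
      (Or.inr ⟨by omega, by omega⟩)).1 ⟨by have := hrev (d - 2) (by omega) (by omega); omega,
        by have := hrev (d - 3) (by omega) (by omega); omega⟩
    have q0 : Q ⟨0, by omega⟩ = 1 := one_at _ (d - 1) (by omega) (by omega)
      (by rcases hl with h | h <;> rw [h] <;> simp [bvec_at, pvec_at])
      fun i hid' hne => by
        rcases classify i hid' with rfl | rfl | ⟨a, b⟩
        · rcases h0 with h | h <;> rw [h] <;> simp [bvec_at, pvec_at] <;> omega
        · omega
        · rw [hr i a b, Ne, bvec_at]; simp; omega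
    have q2 : Q ⟨2, by omega⟩ = 1 := one_at _ (d - 3) (by omega) (by omega)
      (by rw [hr _ (by omega) (by omega)]; simp [bvec_at]; omega)
      fun i hid' hne => by
        rcases classify i hid' with rfl | rfl | ⟨a, b⟩
        · rcases h0 with h | h <;> rw [h] <;> simp [bvec_at, pvec_at] <;> omega
        · rcases hl with h | h <;> rw [h] <;> simp [bvec_at, pvec_at]
        · rw [hr i a b, Ne, bvec_at]; simp; omega
    rcases hMq with ⟨k, hk, h⟩ | ⟨k, hk, h⟩ | h
    · rw [h, bvec_at] at q0 q2; simp at q0 q2; omega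
    · rw [h, pvec_at] at q0 q2; simp at q0 q2; omega
    · rw [h, qvec_at] at q2; simp at q2

end CfsgLib.BaseThree
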