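import Cfsg.Agent.Lib.BaseCoprime.Coords
import Cfsg.Agent.Lib.BaseCoprime.Path
/-
Two vectors when all coordinates have order two and there are at least six of them: the translates
outside a small rigid set.
-/
set_option autoImplicit false
set_option linter.unusedSectionVars false

universe u

open scoped commutatorElement

namespace CfsgLib.BaseThree

variable {K V H : Type u} [Field K] [Finite K] [AddCommGroup V] [Finite V] [Nontrivial V]
  [Module K V] [Group H] [Finite H] [DistribMulAction H V] [FaithfulSMul H V]

namespace Setup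

variable (S : Setup K V H)

namespace Coords

variable {S} {u : V} (co : S.Coords u)

/-- the coordinates as a binary space -/
def toBin (htwo : ∀ i, co.n i = 2) :
    ((i : Fin co.d) → ZMod (co.n i)) ≃+ (Fin co.d → ZMod 2) where
  toFun w i := ZMod.ringEquivCongr (htwo i) (w i)
  invFun w i := (ZMod.ringEquivCongr (htwo i)).symm (w i)
  left_inv w := funext fun i => (ZMod.ringEquivCongr (htwo i)).symm_apply_apply (w i)
  right_inv w := funext fun i => (ZMod.ringEquivCongr (htwo i)).apply_symm_apply (w i)
  map_add' w w' := funext fun i => map_add (ZMod.ringEquivCongr (htwo i)) (w i) (w' i)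

/-- two vectors from at least six binary coordinates -/
theorem pair_path (hC : S.C ≠ S.A) (hu : u ≠ 0) (htwo : ∀ i, co.n i = 2) (hd : 6 ≤ co.d)
    {c₀ : V} (hc₀ : c₀ ∈ S.E u)
    (hctl : ∀ g : H, g • u = u → g • c₀ = c₀ → g ∈ S.C ∧ ∀ y ∈ S.Y u, g • y • u = y • u) :
    ∃ v w : V, ∀ g : H, g • v = v → g • w = w → g = 1 := by
  classical
  have : ∀ i, NeZero (co.n i) := fun i => ⟨(co.prime i).ne_zero⟩
  let e := co.toBin htwo
  let bad : ((i : Fin co.d) → ZMod (co.n i)) → Prop := fun w => PathSet co.d (e w)
  let a : ((i : Fin co.d) → ZMod (co.n i)) → K := fun w => if bad w then 0 else 1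
  refine ⟨u, ∑ w, co.comp c₀ a w, fun g hg hgv => ?_⟩
  obtain ⟨h0, hw⟩ := co.comp_map hu hc₀ a hg hgv
  obtain ⟨hgC, hY⟩ := hctl g hg h0
  have hM0 : co.M g 0 = 0 := by
    have h := co.M_add hg 0 0
    rw [add_zero] at h
    simpa using h
  have hbad0 : ¬ bad 0 := by
    have hz : e 0 = 0 := map_zero e
    have h0' : ∀ l : Fin co.d, e 0 l = 0 := fun l => congrFun hz l
    rintro (⟨i, hi, h⟩ | ⟨i, hi, h⟩ | h)
    · have := congrFun h ⟨i, hi⟩; simp [h0', bvec] at this
    · have := congrFun h ⟨i, by omega⟩; simp [h0', pvec] at this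
    · have := congrFun h ⟨0, by omega⟩; simp [h0', qvec] at this
  have hpres : ∀ w, bad w → bad (co.M g w) := by
    intro w hb
    have hne : w ≠ 0 := fun h => hbad0 (h ▸ hb)
    obtain ⟨-, h⟩ := hw w hne
    by_contra hb'
    simp only [a, if_pos hb, if_neg hb'] at h
    rw [S.σ_zero, zero_smul, one_smul, eq_comm, smul_eq_zero_iff_eq] at h
    exact hu h
  let M2 : (Fin co.d → ZMod 2) →+ (Fin co.d → ZMod 2) :=
    (e.toAddMonoidHom.comp (AddMonoidHom.mk' (co.M g) (co.M_add hg))).comp e.symm.toAddMonoidHom
  have hM2 := path_fix hd M2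
    (e.injective.comp ((co.M_injective hg).comp e.symm.injective))
    (fun w hw' => by
      have := hpres (e.symm w) (by simpa [bad] using hw')
      simpa [bad, M2] using this)
  have hMid : ∀ w, co.M g w = w := fun w => e.injective (by simpa [M2] using hM2 (e w))
  have hfix : ∀ w, ¬ bad w → g • co.r w • u = co.r w • u := by
    intro w hb
    by_cases hne : w = 0
    · rw [hne, co.rep_zero, one_smul, hg]
    obtain ⟨-, h⟩ := hw w hne
    rw [hMid] at h
    simp only [a, if_neg hb, S.σ_unit, one_smul] at h
    exact h
  -- the complement is large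
  let W := (i : Fin co.d) → ZMod (co.n i)
  let P : Finset W :=
    ((Finset.range co.d).image fun i => e.symm (bvec co.d i)) ∪
      ((Finset.range co.d).image fun i => e.symm (pvec co.d i)) ∪ {e.symm (qvec co.d)}
  have hP : ∀ w, bad w → w ∈ P := by
    rintro w (⟨i, hi, h⟩ | ⟨i, hi, h⟩ | h) <;> rw [← e.eq_symm_apply] at h <;> subst h
    · exact Finset.mem_union_left _ (Finset.mem_union_left _
        (Finset.mem_image_of_mem _ (Finset.mem_range.mpr hi)))
    · exact Finset.mem_union_left _ (Finset.mem_union_right _
        (Finset.mem_image_of_mem (fun i => e.symm (pvec co.d i))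
          (Finset.mem_range.mpr (show i < co.d by omega))))
    · exact Finset.mem_union_right _ (Finset.mem_singleton_self _)
  have hPc : P.card ≤ 2 * co.d + 1 := by
    refine (Finset.card_union_le _ _).trans ?_
    refine Nat.add_le_add ((Finset.card_union_le _ _).trans ?_) (by simp)
    have h1 := Finset.card_image_le (s := Finset.range co.d) (f := fun i => e.symm (bvec co.d i))
    have h2 := Finset.card_image_le (s := Finset.range co.d) (f := fun i => e.symm (pvec co.d i))
    simp only [Finset.card_range] at h1 h2
    omega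
  have hcard : Nat.card W = 2 ^ co.d := by
    rw [Nat.card_congr e.toEquiv, Nat.card_eq_fintype_card]; simp
  have hbig : ∀ n, 6 ≤ n → 8 * n + 4 < 2 ^ n := by
    intro n hn
    induction n, hn using Nat.le_induction with
    | base => norm_num
    | succ n _ ih => rw [pow_succ]; omega
  have hclosure : ∀ U : Finset W, U.card ≤ 4 * co.d + 2 →
      AddSubgroup.closure {y : W | y ∉ U} = ⊤ := by
    intro U hU
    by_contra htop
    set G := AddSubgroup.closure {y : W | y ∉ U}
    have h2 : 2 ≤ G.index := by
      have h0 : G.index ≠ 0 := AddSubgroup.index_ne_zero_of_finite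
      have h1 : G.index ≠ 1 := fun h => htop (AddSubgroup.index_eq_one.mp h)
      omega
    have h3 := AddSubgroup.card_mul_index G
    have h4 : (Finset.univ \ U).card ≤ Nat.card G := by
      rw [← Nat.card_eq_finsetCard]
      exact Nat.card_le_card_of_injective
        (fun y => (⟨y.1, AddSubgroup.subset_closure (Finset.mem_sdiff.mp y.2).2⟩ : G))
        fun y z h => Subtype.ext (congrArg Subtype.val h :)
    rw [Finset.card_sdiff_of_subset (Finset.subset_univ U), Finset.card_univ, ← Nat.card_eq_fintype_card] at h4
    change Nat.card W - U.card ≤ _ at h4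
    have h5 := hbig co.d hd
    have h6 : Nat.card G * 2 ≤ Nat.card G * G.index := Nat.mul_le_mul_left _ h2
    rw [h3] at h6
    omega
  refine co.finish hC hu hgC hg hY {x | x ∉ P} (hclosure P (by omega))
    (fun x hx => hfix x fun h => hx (hP x h)) fun x hx => ?_
  rw [eq_top_iff, ← hclosure (P ∪ P.image fun p => p - x) (by
    refine (Finset.card_union_le _ _).trans ?_
    have := Finset.card_image_le (s := P) (f := fun p => p - x)
    omega)]
  refine AddSubgroup.closure_mono fun y hy => ?_
  simp only [Set.mem_setOf_eq, Finset.mem_union, not_or] at hy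
  refine co.commute_of_fixed hu hg hY (hfix x fun h => hx (hP x h)) (hfix y fun h => hy.1 (hP y h))
    (hfix _ fun h => hy.2 (Finset.mem_image.mpr ⟨x + y, hP _ h, add_sub_cancel_left x y⟩))

end Coords

end Setup

end CfsgLib.BaseThree
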