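import Cfsg.Agent.Lib.BaseCoprime.Coords
import Cfsg.Agent.Lib.BaseCoprime.Sparse
/-
Scaled layer elements as operators, and commuting involutions lifting binary coordinates.
-/
set_option autoImplicit false
set_option linter.unusedSectionVars false

universe u

open scoped commutatorElement

namespace CfsgLib.BaseThree

/-- commuting involutions give a map of a binary space -/
theorem exists_binary_word {G : Type*} [Monoid G] : ∀ {d : ℕ} (f : Fin d → G),
    (∀ i, f i * f i = 1) → (∀ i j, Commute (f i) (f j)) →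
    ∃ Φ : (Fin d → ZMod 2) → G, Φ 0 = 1 ∧ (∀ a b, Φ (a + b) = Φ a * Φ b) ∧
      (∀ i, Φ (Pi.single i 1) = f i) ∧ ∀ x, (∀ i, Commute x (f i)) → ∀ a, Commute x (Φ a) := by
  intro d
  induction d with
  | zero =>
    intro f _ _
    exact ⟨fun _ => 1, rfl, fun _ _ => (mul_one 1).symm, fun i => i.elim0, fun x _ _ => Commute.one_right x⟩
  | succ d ih =>
    intro f h2 hc
    obtain ⟨Ψ, hΨ0, hΨm, hΨs, hΨc⟩ := ih (fun i => f i.succ) (fun i => h2 _) fun i j => hc _ _
    let h : ZMod 2 → G := fun a => f 0 ^ a.val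
    have hh : ∀ a b, h (a + b) = h a * h b := by
      intro a b
      rcases (show a = 0 ∨ a = 1 by revert a; decide) with rfl | rfl <;>
        rcases (show b = 0 ∨ b = 1 by revert b; decide) with rfl | rfl <;>
        simp [h, h2, show (1 : ZMod 2) + 1 = 0 by decide, show ZMod.val (1 : ZMod 2) = 1 by decide,
          show ZMod.val (0 : ZMod 2) = 0 by decide]
    have hf0 : ∀ a, Commute (f 0) (Ψ a) := hΨc _ fun i => hc _ _
    refine ⟨fun a => h (a 0) * Ψ (Fin.tail a), ?_, fun a b => ?_, fun i => ?_, fun x hx a => ?_⟩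
    · simp only [h, Pi.zero_apply, show ZMod.val (0 : ZMod 2) = 0 by decide, pow_zero, one_mul]
      exact hΨ0
    · dsimp only
      rw [Pi.add_apply, hh, show Fin.tail (a + b) = Fin.tail a + Fin.tail b from rfl, hΨm]
      rw [mul_assoc, ← mul_assoc (h (b 0)), show h (b 0) * Ψ (Fin.tail a) = Ψ (Fin.tail a) * h (b 0) from
        ((hf0 _).pow_left _).eq, mul_assoc, mul_assoc]
    · refine Fin.cases ?_ (fun j => ?_) i
      · dsimp only
        rw [show Fin.tail (Pi.single (M := fun _ : Fin (d + 1) => ZMod 2) 0 1) = 0 from funext fun l => by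
          simp [Fin.tail, Fin.succ_ne_zero], hΨ0, mul_one]
        simp [h, show ZMod.val (1 : ZMod 2) = 1 by decide]
      · dsimp only
        rw [show Fin.tail (Pi.single (M := fun _ : Fin (d + 1) => ZMod 2) j.succ 1) = Pi.single j 1 from funext fun l => by
          simp only [Fin.tail, Pi.single_apply, Fin.succ_inj], hΨs]
        simp [h, Ne.symm (Fin.succ_ne_zero j), show ZMod.val (0 : ZMod 2) = 0 by decide]
    · exact ((hx 0).pow_right _).mul_right (hΨc x (fun i => hx _) _)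

variable {K V H : Type u} [Field K] [Finite K] [AddCommGroup V] [Finite V] [Nontrivial V]
  [Module K V] [Group H] [Finite H] [DistribMulAction H V] [FaithfulSMul H V]

namespace Setup

variable (S : Setup K V H)

/-- an element of the centraliser of the scalars as a linear map -/
def lin {g : H} (hg : g ∈ S.C) : Module.End K V where
  toFun v := g • v
  map_add' := smul_add g
  map_smul' c v := S.C_linear hg c v

/-- a scaled layer element -/
def IsOp (T : Module.End K V) (c : K) (b : H) : Prop :=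
  c ≠ 0 ∧ b ∈ S.B ∧ ∀ v, T v = c • b • v

theorem isOp_one : S.IsOp 1 1 1 :=
  ⟨one_ne_zero, one_mem _, fun v => by rw [one_smul, one_smul]; rfl⟩

theorem isOp_mul {T T' : Module.End K V} {c c' : K} {b b' : H} (h : S.IsOp T c b)
    (h' : S.IsOp T' c' b') : S.IsOp (T * T') (c * c') (b * b') :=
  ⟨mul_ne_zero h.1 h'.1, mul_mem h.2.1 h'.2.1, fun v => by
    show T (T' v) = _
    rw [h.2.2, h'.2.2, S.C_linear (S.B_le_C h.2.1), smul_smul, mul_smul b]⟩

theorem isOp_smul {T : Module.End K V} {c k : K} {b : H} (h : S.IsOp T c b) (hk : k ≠ 0) :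
    S.IsOp (k • T) (k * c) b :=
  ⟨mul_ne_zero hk h.1, h.2.1, fun v => by rw [LinearMap.smul_apply, h.2.2, smul_smul]⟩

theorem isOp_lin {b : H} (hb : b ∈ S.B) : S.IsOp (S.lin (S.B_le_C hb)) 1 b :=
  ⟨one_ne_zero, hb, fun v => (one_smul K _).symm⟩

theorem op_comm {T T' : Module.End K V} {c c' : K} {b b' : H} (h : S.IsOp T c b)
    (h' : S.IsOp T' c' b') : T * T' = S.χ' ⁅b, b'⁆ • (T' * T) := by
  refine LinearMap.ext fun v => ?_
  rw [LinearMap.smul_apply, (S.isOp_mul h h').2.2, (S.isOp_mul h' h).2.2, mul_comm c' c,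
    smul_comm (S.χ' ⁅b, b'⁆) (c * c'), ← S.χ'_spec (S.B_comm b h.2.1 b' h'.2.1),
    ← mul_smul ⁅b, b'⁆]
  congr 2
  simp only [commutatorElement_def]; group

theorem op_commute {T T' : Module.End K V} {c c' : K} {b b' : H} (h : S.IsOp T c b)
    (h' : S.IsOp T' c' b') (hbb : ⁅b, b'⁆ = 1) : Commute T T' := by
  show T * T' = T' * T
  rw [S.op_comm h h', hbb, S.χ'_one, one_smul]

theorem op_sq {T : Module.End K V} {c : K} {b : H} (h : S.IsOp T c b) (hb : b ^ 2 ∈ S.A) :
    T * T = (c ^ 2 * S.χ' (b ^ 2)) • (1 : Module.End K V) := by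
  refine LinearMap.ext fun v => ?_
  rw [LinearMap.smul_apply, (S.isOp_mul h h).2.2, ← sq b, S.χ'_spec hb, smul_smul, ← sq c]
  rfl

theorem op_fix {g : H} (hg : g ∈ S.C) {T : Module.End K V} {c : K} {b : H} (h : S.IsOp T c b) :
    S.IsOp (S.lin hg * T * S.lin (inv_mem hg)) c (g * b * g⁻¹) :=
  ⟨h.1, S.B_normal.conj_mem b h.2.1 g, fun v => by
    show g • T (g⁻¹ • v) = _
    rw [h.2.2, S.C_linear hg, mul_smul, mul_smul]⟩

namespace Coords

variable {S} {u : V} (co : S.Coords u)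

theorem map_pow {b : H} (hb : b ∈ S.B) (m : ℕ) : co.f (b ^ m) = m • co.f b := by
  induction m with
  | zero => rw [pow_zero, zero_smul, co.map_one]
  | succ m ih => rw [pow_succ, co.map_mul _ (pow_mem hb m) _ hb, ih, succ_nsmul]

/-- with binary coordinates every square of the layer is a scalar -/
theorem sq_mem_A (hC : S.C ≠ S.A) (hu : S.IsBest u) (htwo : ∀ i, co.n i = 2) {b : H}
    (hb : b ∈ S.B) : b ^ 2 ∈ S.A := by
  have hY : ∀ c ∈ S.B, c ^ 2 ∈ S.Y u := fun c hc => (co.ker _ (pow_mem hc 2)).mp (by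
    rw [co.map_pow hc]
    funext i
    rw [Pi.smul_apply, Pi.zero_apply, nsmul_eq_mul]
    rw [show ((2 : ℕ) : ZMod (co.n i)) = 0 from (ZMod.natCast_eq_zero_iff _ _).mpr (by rw [htwo i]),
      zero_mul])
  have hX : ∀ x ∈ S.X u, x ^ 2 ∈ S.A := fun x hx => by
    refine S.centralizer_B hC (pow_mem (S.B_le_C hx.1) 2) (Subgroup.mem_centralizer_iff.mpr fun c hc => ?_)
    have h1 : ⁅x, c⁆ ^ 2 = 1 := by
      rw [← S.comm_pow hx.1 hc]
      exact commutatorElement_eq_one_iff_mul_comm.mpr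
        (Subgroup.mem_centralizer_iff.mp (hY c hc).2 x hx)
    have h2 : ⁅c, x ^ 2⁆ = 1 := by
      rw [S.comm_pow hc hx.1, ← inv_inj, ← inv_pow, commutatorElement_inv, h1, inv_one]
    exact (commutatorElement_eq_one_iff_mul_comm.mp h2)
  obtain ⟨N, hN, -, hNB⟩ := S.exists_squarefree_exponent hC
  have h8 : b ^ 8 ∈ S.A := by
    rw [show b ^ 8 = ((b ^ 2) ^ 2) ^ 2 by rw [← pow_mul, ← pow_mul]]
    exact hX _ (S.sq_mem_X hC hu (hY b hb))
  have hgcd : Nat.gcd 8 N ∣ 2 := by
    obtain ⟨i, hi, he⟩ := (Nat.dvd_prime_pow Nat.prime_two).mp (show Nat.gcd 8 N ∣ 2 ^ 3 from Nat.gcd_dvd_left 8 N)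
    rw [he]
    rcases (by omega : i = 0 ∨ i = 1 ∨ 2 ≤ i) with rfl | rfl | h
    · norm_num
    · norm_num
    · exfalso
      have h4 : 2 * 2 ∣ N := (dvd_trans (pow_dvd_pow 2 h) (he ▸ Nat.gcd_dvd_right 8 N))
      exact absurd (Nat.isUnit_iff.mp (hN 2 h4)) (by norm_num)
  have hg : b ^ Nat.gcd 8 N ∈ S.A := by
    have := hNB b hb
    have e : (b ^ 8) ^ Nat.gcdA 8 N * (b ^ N) ^ Nat.gcdB 8 N = b ^ Nat.gcd 8 N := by
      rw [← zpow_natCast b 8, ← zpow_natCast b N, ← zpow_mul, ← zpow_mul, ← zpow_add, ← zpow_natCast,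
        ← Nat.gcd_eq_gcd_ab 8 N]
    exact e ▸ mul_mem (zpow_mem h8 _) (zpow_mem this _)
  obtain ⟨m, hm⟩ := hgcd
  rw [hm, pow_mul]
  exact pow_mem hg m

theorem comm_sign (hC : S.C ≠ S.A) (hu : S.IsBest u) (htwo : ∀ i, co.n i = 2) {b c : H}
    (hb : b ∈ S.B) (hc : c ∈ S.B) : S.χ' ⁅b, c⁆ = 1 ∨ S.χ' ⁅b, c⁆ = -1 := by
  have hA := S.B_comm b hb c hc
  refine mul_self_eq_one_iff.mp ?_
  rw [← S.χ'_mul hA hA, ← sq, ← S.comm_pow hb hc, commutatorElement_eq_one_iff_mul_comm.mpr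
    (S.A_central (co.sq_mem_A hC hu htwo hc) (S.B_le_C hb)).symm, S.χ'_one]

/-- every prescribed pairing with the coordinates is realised inside `X` -/
theorem exists_X (hC : S.C ≠ S.A) (hu : S.IsBest u) (htwo : ∀ i, co.n i = 2) (hneg : (-1 : K) ≠ 1)
    (l : Fin co.d → ZMod 2) : ∃ x ∈ S.X u, ∀ b ∈ S.B,
      S.χ' ⁅x, b⁆ = if ∑ i, l i * co.toBin htwo (co.f b) i = 0 then 1 else -1 := by
  classical
  let W := Fin co.d → ZMod 2
  let e := co.toBin htwo
  let bit : K → ZMod 2 := fun c => if c = 1 then 0 else 1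
  have hbit : ∀ {a b : K}, (a = 1 ∨ a = -1) → (b = 1 ∨ b = -1) → bit (a * b) = bit a + bit b := by
    rintro a b (rfl | rfl) (rfl | rfl) <;> simp [bit, hneg] <;> decide
  let rep : W → H := fun w => co.r (e.symm w)
  have hrep : ∀ w, rep w ∈ S.B := fun w => co.mem _
  have indep : ∀ x ∈ S.X u, ∀ b ∈ S.B, S.χ' ⁅x, b⁆ = S.χ' ⁅x, rep (e (co.f b))⁆ := by
    intro x hx b hb
    have hy := co.coset (co.mem (co.f b)) hb (co.spec _)
    have h0 : ⁅x, (co.r (co.f b))⁻¹ * b⁆ = 1 := commutatorElement_eq_one_iff_mul_comm.mpr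
      (Subgroup.mem_centralizer_iff.mp hy.2 x hx)
    have := S.comm_mul_right (x := x) (y := co.r (co.f b)) (S.B_le_C (co.mem _))
      (h0 ▸ one_mem S.A)
    rw [mul_inv_cancel_left, h0, mul_one] at this
    rw [this]
    simp only [rep, AddEquiv.symm_apply_apply]
  let φ : H → W → ZMod 2 := fun x w => bit (S.χ' ⁅x, rep w⁆)
  have φadd : ∀ x ∈ S.X u, ∀ w w', φ x (w + w') = φ x w + φ x w' := by
    intro x hx w w'
    show bit _ = bit _ + bit _
    rw [← hbit (co.comm_sign hC hu htwo hx.1 (hrep w)) (co.comm_sign hC hu htwo hx.1 (hrep w'))]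
    congr 1
    rw [← S.χ'_mul (S.B_comm _ hx.1 _ (hrep w)) (S.B_comm _ hx.1 _ (hrep w')),
      ← S.comm_mul_right (S.B_le_C (hrep w)) (S.B_comm _ hx.1 _ (hrep w'))]
    rw [indep x hx _ (mul_mem (hrep w) (hrep w'))]
    simp only [rep, co.map_mul _ (co.mem _) _ (co.mem _), co.spec, map_add, AddEquiv.apply_symm_apply]
  have φzero : ∀ x ∈ S.X u, φ x 0 = 0 := fun x hx => by
    have h := φadd x hx 0 0
    rw [add_zero] at h
    simpa using h
  let Φ : Submodule (ZMod 2) (Module.Dual (ZMod 2) W) :=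
    { carrier := {m | ∃ x ∈ S.X u, ∀ w, m w = φ x w}
      zero_mem' := ⟨1, one_mem _, fun w => by simp [φ, bit, S.χ'_one]⟩
      add_mem' := by
        rintro m m' ⟨x, hx, hm⟩ ⟨x', hx', hm'⟩
        refine ⟨x * x', mul_mem hx hx', fun w => ?_⟩
        rw [LinearMap.add_apply, hm, hm']
        show bit _ + bit _ = bit _
        rw [S.comm_mul_left (S.B_le_C hx.1) (S.B_comm _ hx'.1 _ (hrep w)),
          S.χ'_mul (S.B_comm _ hx'.1 _ (hrep w)) (S.B_comm _ hx.1 _ (hrep w)),
          hbit (co.comm_sign hC hu htwo hx'.1 (hrep w)) (co.comm_sign hC hu htwo hx.1 (hrep w)), add_comm]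
      smul_mem' := by
        rintro k m ⟨x, hx, hm⟩
        rcases (show k = 0 ∨ k = 1 by revert k; decide) with rfl | rfl
        · exact ⟨1, one_mem _, fun w => by simp [φ, bit, S.χ'_one]⟩
        · exact ⟨x, hx, fun w => by rw [one_smul]; exact hm w⟩ }
  have hco : Φ.dualCoannihilator = ⊥ := by
    rw [eq_bot_iff]
    intro w hw
    rw [Submodule.mem_bot]
    by_contra hw0
    refine hw0 ?_
    have hY : rep w ∈ S.Y u := Subgroup.mem_inf.mpr ⟨hrep w, Subgroup.mem_centralizer_iff.mpr fun x hx => by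
      refine commutatorElement_eq_one_iff_mul_comm.mp (S.χ'_eq_one (S.B_comm _ hx.1 _ (hrep w)) ?_)
      have hlin : (∃ m ∈ Φ, ∀ w, m w = φ x w) := by
        let m : Module.Dual (ZMod 2) W :=
          (AddMonoidHom.mk' (φ x) (φadd x hx)).toZModLinearMap 2
        exact ⟨m, ⟨x, hx, fun w => rfl⟩, fun w => rfl⟩
      obtain ⟨m, hm, hmw⟩ := hlin
      have h0 : φ x w = 0 := by
        rw [← hmw]; exact (Submodule.mem_dualCoannihilator _).mp hw m hm
      by_contra h1
      simp [φ, bit, h1] at h0⟩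
    have := (co.ker _ (hrep w)).mpr hY
    simp only [rep, co.spec] at this
    simpa using this
  have htop : Φ = ⊤ := by
    rw [← Subspace.dualCoannihilator_dualAnnihilator_eq (W := Φ), hco, Submodule.dualAnnihilator_bot]
  let L : Module.Dual (ZMod 2) W := ∑ i, l i • LinearMap.proj i
  obtain ⟨x, hx, hxl⟩ : L ∈ Φ := htop ▸ Submodule.mem_top
  refine ⟨x, hx, fun b hb => ?_⟩
  have h := hxl (e (co.f b))
  simp only [L, LinearMap.sum_apply, LinearMap.smul_apply, LinearMap.proj_apply, smul_eq_mul] at h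
  rw [indep x hx b hb]
  show _ = if ∑ i, l i * e (co.f b) i = 0 then (1 : K) else -1
  have h' : ∑ i, l i * e (co.f b) i = φ x (e (co.f b)) := h
  rw [h']
  show _ = if bit _ = 0 then (1 : K) else -1
  rcases co.comm_sign hC hu htwo hx.1 (hrep (e (co.f b))) with h' | h' <;> rw [h'] <;>
    simp [bit, hneg]

end Coords

end Setup

end CfsgLib.BaseThree
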