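import Cfsg.Agent.Lib.BaseCoprime.Digits
import Mathlib
/-
Soundness of the operator search: packed vectors stand for combinations of a family of vectors, and
the images of the generators under a map fixing the two vectors occur among the candidates.
-/
set_option autoImplicit false

namespace CfsgLib.BaseThree.Check

variable {K V : Type*} [Field K] [AddCommGroup V] [Module K V] {M : Model}

/-- the vector of a packed vector -/
def Model.vec (M : Model) (b : ℕ → V) (v : ℕ) : V :=
  ∑ j ∈ Finset.range M.e, ((dig j v : ℕ) : K) • b j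

theorem natCast_mod_eq {q : ℕ} (hq : (q : K) = 0) (a : ℕ) : ((a % q : ℕ) : K) = (a : K) := by
  conv_rhs => rw [← Nat.div_add_mod a q]
  push_cast
  rw [hq, zero_mul, zero_add]

variable (b : ℕ → V)

theorem vec_zero : M.vec (K := K) b 0 = 0 := by simp [Model.vec, dig_zero_right]

theorem vec_add (h : M.constOK = true) (hq : (M.q : K) = 0) {v w : ℕ} (hv : M.Valid v)
    (hw : M.Valid w) : M.vec (K := K) b (M.add v w) = M.vec (K := K) b v + M.vec (K := K) b w := by
  rw [Model.vec, Model.vec, Model.vec, ← Finset.sum_add_distrib]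
  refine Finset.sum_congr rfl fun j _ => ?_
  rw [dig_vadd h hv hw, natCast_mod_eq hq, Nat.cast_add, add_smul]

theorem vec_neg (h : M.constOK = true) (hq : (M.q : K) = 0) {v : ℕ} (hv : M.Valid v) :
    M.vec (K := K) b (M.neg v) = - M.vec (K := K) b v := by
  rw [Model.vec, Model.vec, ← Finset.sum_neg_distrib]
  refine Finset.sum_congr rfl fun j hj => ?_
  rw [dig_vneg h hv, natCast_mod_eq hq, if_pos (Finset.mem_range.mp hj),
    Nat.cast_sub (Nat.le_of_lt (hv.1 j (Finset.mem_range.mp hj))), hq, zero_sub, neg_smul]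

theorem smul_spec (h : M.constOK = true) (hq : (M.q : K) = 0) {v : ℕ} (hv : M.Valid v) :
    ∀ c : ℕ, M.Valid (M.smul c v) ∧ M.vec (K := K) b (M.smul c v) = (c : K) • M.vec (K := K) b v
  | 0 => by simp [Model.smul, valid_zero h, vec_zero]
  | c + 1 => by
    obtain ⟨h1, h2⟩ := smul_spec h hq hv c
    refine ⟨valid_add h h1 hv, ?_⟩
    rw [Model.smul, vec_add b h hq h1 hv, h2, Nat.cast_succ, add_smul, one_smul]

theorem vec_inj {q : ℕ} [CharP K q] (hMq : M.q = q)
    (hind : ∀ c : ℕ → K, ∑ j ∈ Finset.range M.e, c j • b j = 0 → ∀ j, j < M.e → c j = 0) {v w : ℕ}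
    (hv : M.Valid v) (hw : M.Valid w) (he : M.vec (K := K) b v = M.vec (K := K) b w) : v = w := by
  refine dig_ext fun j => ?_
  by_cases hj : j < M.e
  · have h0 := hind (fun i => ((dig i v : ℕ) : K) - ((dig i w : ℕ) : K))
      (by simp only [sub_smul, Finset.sum_sub_distrib]; exact sub_eq_zero.mpr he) j hj
    have h1 := (CharP.natCast_eq_natCast K q).mp (sub_eq_zero.mp h0)
    have h2 := hv.1 j hj
    have h3 := hw.1 j hj
    rw [hMq] at h2 h3
    exact Nat.ModEq.eq_of_lt_of_lt h1 h2 h3
  · rw [hv.2 j (Nat.le_of_not_lt hj), hw.2 j (Nat.le_of_not_lt hj)]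

/-- an action on packed vectors stands for a linear map -/
def Model.Acts (M : Model) (b : ℕ → V) (g : Gen) (G : Module.End K V) : Prop :=
  ∀ v, M.Valid v → M.Valid (M.act g v) ∧ M.vec (K := K) b (M.act g v) = G (M.vec (K := K) b v)

/-- the digits of a sign mask -/
def Model.sgnOK (M : Model) (mask : ℕ) (f : ℕ → Bool) : Bool :=
  decide (mask < 16 ^ M.e) && (List.range M.e).all fun j => dig j mask == if f j then 15 else 0

theorem acts_sgn (h : M.constOK = true) (hq : (M.q : K) = 0) {mask : ℕ} {f : ℕ → Bool}
    (hm : M.sgnOK mask f = true) (G : Module.End K V)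
    (hG : ∀ j, j < M.e → G (b j) = (if f j then (-1 : K) else 1) • b j) :
    M.Acts b (.sgn mask) G := by
  simp only [Model.sgnOK, Bool.and_eq_true, decide_eq_true_eq, List.all_eq_true, List.mem_range,
    beq_iff_eq] at hm
  intro v hv
  have hq' := (constOK_spec h).1
  have hmd : ∀ j, dig j mask = if decide (j < M.e) && f j then 15 else 0 := fun j => by
    by_cases hj : j < M.e
    · rw [hm.2 j hj]; simp [hj]
    · rw [dig_eq_zero_of_lt hm.1 (Nat.le_of_not_lt hj)]; simp [hj]
  have hd : ∀ j, dig j (M.act (.sgn mask) v) =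
      if decide (j < M.e) && f j then dig j (M.neg v) else dig j v := by
    intro j
    have h1 : ∀ i, dig i (v &&& mask) = if decide (i < M.e) && f i then dig i v else 0 := fun i => by
      rw [dig_and, hmd]
      cases decide (i < M.e) && f i <;> simp [and_fifteen (dig_lt i v)]
    have h2 : ∀ i, dig i (M.neg v &&& mask) =
        if decide (i < M.e) && f i then dig i (M.neg v) else 0 := fun i => by
      rw [dig_and, hmd]
      cases decide (i < M.e) && f i <;> simp [and_fifteen (dig_lt i (M.neg v))]
    have h3 : ∀ i, dig i (v - (v &&& mask)) = if decide (i < M.e) && f i then 0 else dig i v :=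
      fun i => by
        rw [dig_sub i _ _ fun k => by rw [h1]; split_ifs <;> omega, h1]
        split_ifs <;> omega
    rw [Model.act, dig_add j _ _ fun k => by
      rw [h3, h2]; have := dig_lt k v; have := dig_lt k (M.neg v); split_ifs <;> omega, h3, h2]
    split_ifs <;> omega
  refine ⟨⟨fun j hj => ?_, fun j hj => ?_⟩, ?_⟩
  · rw [hd]; split_ifs
    · exact (valid_neg h hv).1 j hj
    · exact hv.1 j hj
  · rw [hd]; simp [Nat.not_lt.mpr hj, hv.2 j hj]
  · rw [Model.vec, Model.vec, map_sum]
    refine Finset.sum_congr rfl fun j hj => ?_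
    rw [Finset.mem_range] at hj
    rw [map_smul, hG j hj, hd, smul_smul]
    simp only [hj, decide_true, Bool.true_and]
    cases hf : f j <;> simp only [↓reduceIte, Bool.false_eq_true, mul_one, mul_neg_one]
    rw [dig_vneg h hv, natCast_mod_eq hq, if_pos hj, Nat.cast_sub (Nat.le_of_lt (hv.1 j hj)), hq,
      zero_sub]

/-- the digits of a block swap -/
def Model.swpOK (M : Model) (s mask : ℕ) (perm : ℕ → ℕ) : Bool :=
  decide (s % 4 = 0) && decide (mask < 16 ^ M.e) && (List.range M.e).all fun j =>
    decide (perm j < M.e) && decide (perm (perm j) = j) &&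
      if dig j mask == 15 then decide (perm j = j + s / 4) &&
        (decide (j < s / 4) || dig (j - s / 4) mask == 0)
      else dig j mask == 0 && decide (s / 4 ≤ j) && dig (j - s / 4) mask == 15 &&
        decide (perm j = j - s / 4)

theorem acts_swp (h : M.constOK = true) {s mask : ℕ} {perm : ℕ → ℕ}
    (hm : M.swpOK s mask perm = true) (G : Module.End K V)
    (hG : ∀ j, j < M.e → G (b j) = b (perm j)) : M.Acts b (.swp s mask) G := by
  simp only [Model.swpOK, Bool.and_eq_true, decide_eq_true_eq, List.all_eq_true, List.mem_range] at hm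
  obtain ⟨⟨hs, hmask⟩, hj'⟩ := hm
  intro v hv
  set k := s / 4
  have hs' : 2 ^ s = 16 ^ k := by
    rw [show (16 : ℕ) = 2 ^ 4 by norm_num, ← pow_mul]; congr 1; omega
  have hperm : ∀ j, j < M.e → perm j < M.e ∧ perm (perm j) = j := fun j hj => (hj' j hj).1
  have hd : ∀ j, dig j (M.act (.swp s mask) v) = if j < M.e then dig (perm j) v else 0 := by
    intro j
    have h1 : ∀ i, dig i ((v &&& mask) * 2 ^ s) =
        if i < k then 0 else dig (i - k) v &&& dig (i - k) mask := fun i => by
      rw [hs', dig_mul_pow, dig_and]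
    have h2 : ∀ i, dig i (v / 2 ^ s &&& mask) = dig (i + k) v &&& dig i mask := fun i => by
      rw [dig_and, hs', dig_div_pow]
    have hsum : ∀ i, dig i ((v &&& mask) * 2 ^ s) + dig i (v / 2 ^ s &&& mask) =
        if i < M.e then dig (perm i) v else 0 := by
      intro i
      rw [h1, h2]
      by_cases hi : i < M.e
      · rw [if_pos hi]
        have hc := (hj' i hi).2
        by_cases hm15 : dig i mask = 15
        · simp only [hm15, beq_self_eq_true, ↓reduceIte, Bool.and_eq_true, decide_eq_true_eq,
            Bool.or_eq_true, beq_iff_eq] at hc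
          rw [hm15, and_fifteen (dig_lt _ v), hc.1]
          rcases hc.2 with hlt | hz
          · rw [if_pos hlt, Nat.zero_add]
          · rw [hz, Nat.and_zero, ite_self, Nat.zero_add]
        · rw [if_neg (by simpa using hm15)] at hc
          simp only [Bool.and_eq_true, decide_eq_true_eq, beq_iff_eq] at hc
          obtain ⟨⟨⟨hz, hle⟩, h15⟩, hp⟩ := hc
          rw [hz, Nat.and_zero, if_neg (Nat.not_lt.mpr hle), h15, and_fifteen (dig_lt _ v), hp,
            Nat.add_zero]
      · rw [if_neg hi, dig_eq_zero_of_lt hmask (Nat.le_of_not_lt hi), Nat.and_zero, Nat.add_zero]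
        split_ifs with hik
        · rfl
        by_cases hl : i - k < M.e
        · have hc := (hj' _ hl).2
          by_cases hm15 : dig (i - k) mask = 15
          · simp only [hm15, beq_self_eq_true, ↓reduceIte, Bool.and_eq_true,
              decide_eq_true_eq] at hc
            have := (hperm _ hl).1
            omega
          · rw [if_neg (by simpa using hm15)] at hc
            simp only [Bool.and_eq_true, decide_eq_true_eq, beq_iff_eq] at hc
            rw [hc.1.1.1, Nat.and_zero]
        · rw [dig_eq_zero_of_lt hmask (Nat.le_of_not_lt hl), Nat.and_zero]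
    rw [Model.act, dig_add j _ _ fun i => by
      rw [hsum]; have := dig_lt (perm i) v; split_ifs <;> omega]
    exact hsum j
  refine ⟨⟨fun j hj => ?_, fun j hj => ?_⟩, ?_⟩
  · rw [hd, if_pos hj]; exact hv.1 _ (hperm j hj).1
  · rw [hd, if_neg (Nat.not_lt.mpr hj)]
  · rw [Model.vec, Model.vec, map_sum]
    refine Finset.sum_bij' (fun j _ => perm j) (fun j _ => perm j) ?_ ?_ ?_ ?_ ?_
    · intro j hj; exact Finset.mem_range.mpr (hperm j (Finset.mem_range.mp hj)).1
    · intro j hj; exact Finset.mem_range.mpr (hperm j (Finset.mem_range.mp hj)).1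
    · intro j hj; exact (hperm j (Finset.mem_range.mp hj)).2
    · intro j hj; exact (hperm j (Finset.mem_range.mp hj)).2
    · intro j hj
      rw [Finset.mem_range] at hj
      rw [map_smul, hG _ (hperm j hj).1, (hperm j hj).2, hd, if_pos hj]

theorem sum_range_pairs {A : Type*} [AddCommMonoid A] (F : ℕ → A) :
    ∀ D : ℕ, ∑ j ∈ Finset.range (2 * D), F j = ∑ w ∈ Finset.range D, (F (2 * w) + F (2 * w + 1))
  | 0 => rfl
  | D + 1 => by
    rw [show 2 * (D + 1) = 2 * D + 1 + 1 by ring, Finset.sum_range_succ, Finset.sum_range_succ,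
      Finset.sum_range_succ _ D, sum_range_pairs F D, add_assoc]

theorem dig_evens_and (h : M.constOK = true) (x i : ℕ) :
    dig i (x &&& M.evens) = if i < M.e ∧ i % 2 = 0 then dig i x else 0 := by
  rw [dig_and, (constOK_spec h).2.2]
  split_ifs with hi
  · exact and_fifteen (dig_lt i x)
  · exact Nat.and_zero _

theorem acts_unit1 (h : M.constOK = true) (hq : (M.q : K) = 0) {D : ℕ} (hD : M.e = 2 * D)
    (G : Module.End K V)
    (hG : ∀ w, w < D → G (b (2 * w)) = b (2 * w + 1) ∧ G (b (2 * w + 1)) = - b (2 * w)) :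
    M.Acts b .unit1 G := by
  intro v hv
  have hn := valid_neg h hv
  have hd : ∀ j, dig j (M.act .unit1 v) =
      if j < M.e then (if j % 2 = 0 then dig (j + 1) (M.neg v) else dig (j - 1) v) else 0 := by
    intro j
    have h1 : ∀ i, dig i (M.neg v / 16 &&& M.evens) =
        if i < M.e ∧ i % 2 = 0 then dig (i + 1) (M.neg v) else 0 := fun i => by
      rw [dig_evens_and h]; rfl
    have h2 : ∀ i, dig i ((v &&& M.evens) * 16) =
        if i < M.e ∧ i % 2 = 1 then dig (i - 1) v else 0 := fun i => by
      rw [show (16 : ℕ) = 16 ^ 1 by norm_num, dig_mul_pow, dig_evens_and h]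
      split_ifs <;> omega
    have hsum : ∀ i, dig i (M.neg v / 16 &&& M.evens) + dig i ((v &&& M.evens) * 16) < 16 := fun i => by
      rw [h1, h2]
      have := dig_lt (i + 1) (M.neg v); have := dig_lt (i - 1) v
      split_ifs <;> omega
    rw [Model.act, dig_add j _ _ hsum, h1, h2]
    split_ifs <;> omega
  refine ⟨⟨fun j hj => ?_, fun j hj => by rw [hd, if_neg (Nat.not_lt.mpr hj)]⟩, ?_⟩
  · rw [hd, if_pos hj]
    split_ifs with he
    · exact hn.1 _ (by omega)
    · exact hv.1 _ (by omega)
  · rw [Model.vec, Model.vec, map_sum, hD, sum_range_pairs, sum_range_pairs]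
    refine Finset.sum_congr rfl fun w hw => ?_
    rw [Finset.mem_range] at hw
    rw [map_smul, map_smul, (hG w hw).1, (hG w hw).2, hd, hd, if_pos (by omega), if_pos (by omega),
      if_pos (by omega), if_neg (by omega), dig_vneg h hv, natCast_mod_eq hq, if_pos (by omega),
      Nat.cast_sub (Nat.le_of_lt (hv.1 _ (by omega))), hq, zero_sub, Nat.add_sub_cancel, neg_smul,
      smul_neg, add_comm]

theorem acts_unit2 (h : M.constOK = true) (hq : (M.q : K) = 0) {D : ℕ} (hD : M.e = 2 * D)
    (G : Module.End K V)
    (hG : ∀ w, w < D → G (b (2 * w)) = b (2 * w) + b (2 * w + 1) ∧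
      G (b (2 * w + 1)) = b (2 * w) - b (2 * w + 1)) : M.Acts b .unit2 G := by
  intro v hv
  have hn := valid_neg h hv
  have hq' := (constOK_spec h).1
  have hA : ∀ (x : ℕ), M.Valid x → ∀ i, dig i ((v &&& M.evens) + (x / 16 &&& M.evens)) =
      if i < M.e ∧ i % 2 = 0 then dig i v + dig (i + 1) x else 0 := by
    intro x hx i
    rw [dig_add i _ _ fun k => by
      rw [dig_evens_and h, dig_evens_and h]
      have := Valid.lt h hv k
      have : dig k (x / 16) < M.q := Valid.lt h hx (k + 1)
      split_ifs <;> omega, dig_evens_and h, dig_evens_and h]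
    have : dig i (x / 16) = dig (i + 1) x := rfl
    split_ifs <;> omega
  have hR : ∀ (x : ℕ), M.Valid x → ∀ i, dig i (M.red ((v &&& M.evens) + (x / 16 &&& M.evens))) =
      if i < M.e ∧ i % 2 = 0 then (dig i v + dig (i + 1) x) % M.q else 0 := by
    intro x hx i
    rw [dig_red h (fun k => by
        rw [hA x hx]; have := Valid.lt h hv k; have := Valid.lt h hx (k + 1); split_ifs <;> omega)
      (fun k hk => by rw [hA x hx, if_neg (by omega)]), hA x hx]
    split_ifs
    · rfl
    · exact Nat.zero_mod _
  have hd : ∀ j, dig j (M.act .unit2 v) = if j < M.e then (if j % 2 = 0 then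
      (dig j v + dig (j + 1) v) % M.q else (dig (j - 1) v + dig j (M.neg v)) % M.q) else 0 := by
    intro j
    have h2 : ∀ i, dig i (M.red ((v &&& M.evens) + (M.neg v / 16 &&& M.evens)) * 16) =
        if i < M.e ∧ i % 2 = 1 then (dig (i - 1) v + dig i (M.neg v)) % M.q else 0 := fun i => by
      rw [show M.red ((v &&& M.evens) + (M.neg v / 16 &&& M.evens)) * 16 =
        M.red ((v &&& M.evens) + (M.neg v / 16 &&& M.evens)) * 16 ^ 1 by rw [pow_one], dig_mul_pow,
        hR _ hn]
      by_cases hi : i < M.e ∧ i % 2 = 1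
      · rw [if_neg (by omega), if_pos (by omega), if_pos hi, Nat.sub_add_cancel (by omega)]
      · rw [if_neg hi]
        split_ifs <;> omega
    have hsum : ∀ i, dig i (M.red ((v &&& M.evens) + (v / 16 &&& M.evens))) +
        dig i (M.red ((v &&& M.evens) + (M.neg v / 16 &&& M.evens)) * 16) < 16 := fun i => by
      rw [hR _ hv, h2]
      have := Nat.mod_lt (dig i v + dig (i + 1) v) (show M.q > 0 by omega)
      have := Nat.mod_lt (dig (i - 1) v + dig i (M.neg v)) (show M.q > 0 by omega)
      split_ifs <;> omega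
    rw [Model.act, dig_add j _ _ hsum, hR _ hv, h2]
    split_ifs <;> omega
  refine ⟨⟨fun j hj => ?_, fun j hj => by rw [hd, if_neg (Nat.not_lt.mpr hj)]⟩, ?_⟩
  · rw [hd, if_pos hj]
    split_ifs <;> exact Nat.mod_lt _ (by omega)
  · rw [Model.vec, Model.vec, map_sum, hD, sum_range_pairs, sum_range_pairs]
    refine Finset.sum_congr rfl fun w hw => ?_
    rw [Finset.mem_range] at hw
    rw [map_smul, map_smul, (hG w hw).1, (hG w hw).2, hd, hd, if_pos (by omega), if_pos (by omega),
      if_pos (by omega), if_neg (by omega), natCast_mod_eq hq, natCast_mod_eq hq, Nat.cast_add,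
      Nat.cast_add, Nat.add_sub_cancel, dig_vneg h hv, natCast_mod_eq hq, if_pos (by omega),
      Nat.cast_sub (Nat.le_of_lt (hv.1 _ (by omega))), hq, zero_sub]
    simp only [add_smul, neg_smul, smul_add, smul_sub]
    abel

/-- the operator product belonging to a mask, higher generators outside -/
def prodMask (G : ℕ → Module.End K V) (t : ℕ) : ℕ → Module.End K V
  | 0 => 1
  | k + 1 => (if t.testBit k then G k else 1) * prodMask G t k

theorem prodMask_congr (G : ℕ → Module.End K V) {t t' : ℕ} :
    ∀ k, (∀ i, i < k → t.testBit i = t'.testBit i) → prodMask G t k = prodMask G t' k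
  | 0, _ => rfl
  | k + 1, h => by
    rw [prodMask, prodMask, h k (Nat.lt_succ_self k),
      prodMask_congr G k fun i hi => h i (Nat.lt_succ_of_lt hi)]

theorem prodMask_zero (G : ℕ → Module.End K V) : ∀ k, prodMask G 0 k = 1
  | 0 => rfl
  | k + 1 => by simp [prodMask, prodMask_zero G k]

theorem prodMask_pow (G : ℕ → Module.End K V) (i : ℕ) :
    ∀ k, prodMask G (2 ^ i) k = if i < k then G i else 1
  | 0 => by simp [prodMask]
  | k + 1 => by
    rw [prodMask, prodMask_pow G i k, Nat.testBit_two_pow]
    rcases lt_trichotomy i k with h | rfl | h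
    · simp [h, Nat.ne_of_lt h, Nat.lt_succ_of_lt h]
    · simp
    · simp [Nat.ne_of_gt h, show ¬ i < k by omega, show ¬ i < k + 1 by omega]

theorem word_append (M : Model) (t : ℕ) (g : Gen) : ∀ (l : List Gen) (i v : ℕ),
    M.word t (l ++ [g]) i v =
      if t / 2 ^ (i + l.length) % 2 == 1 then M.act g (M.word t l i v) else M.word t l i v
  | [], i, v => by simp [Model.word, withNat_eq]
  | x :: l, i, v => by
    simp only [List.cons_append, Model.word, withNat_eq, word_append M t g l, List.length_cons]
    rw [show i + 1 + l.length = i + (l.length + 1) by omega]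

theorem word_spec (G : ℕ → Module.End K V) (t : ℕ) : ∀ (k : ℕ) (gens : List Gen),
    gens.length = k → (∀ i, i < k → M.Acts b (gens.getD i .unit1) (G i)) → ∀ v, M.Valid v →
    M.Valid (M.word t gens 0 v) ∧
      M.vec (K := K) b (M.word t gens 0 v) = prodMask G t k (M.vec (K := K) b v)
  | 0, gens, hlen, _, v, hv => by
    rw [List.length_eq_zero_iff.mp hlen]
    exact ⟨hv, rfl⟩
  | k + 1, gens, hlen, hact, v, hv => by
    obtain ⟨l, g, rfl⟩ : ∃ l g, gens = l ++ [g] := by
      rcases List.eq_nil_or_concat gens with rfl | ⟨l, g, rfl⟩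
      · simp at hlen
      · exact ⟨l, g, List.concat_eq_append⟩
    simp only [List.length_append, List.length_singleton, Nat.add_right_cancel_iff] at hlen
    obtain ⟨h1, h2⟩ := word_spec G t k l hlen (fun i hi => by
      have := hact i (Nat.lt_succ_of_lt hi)
      rwa [List.getD_append _ _ _ _ (by omega)] at this) v hv
    have hg := hact k (Nat.lt_succ_self k)
    rw [List.getD_append_right _ _ _ _ (by omega), show k - l.length = 0 by omega] at hg
    rw [word_append, Nat.zero_add, hlen]
    have e : (t / 2 ^ k % 2 == 1) = t.testBit k := by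
      rw [Nat.testBit_eq_decide_div_mod_eq]
      rcases Nat.mod_two_eq_zero_or_one (t / 2 ^ k) with h | h <;> rw [h] <;> rfl
    rw [e, prodMask, Module.End.mul_apply, ← h2]
    cases t.testBit k
    · exact ⟨h1, rfl⟩
    · exact hg _ h1

theorem table'_succ (M : Model) (pre : List (ℕ × ℕ)) (a : ℕ × ℕ) (v : ℕ) :
    M.table' (pre ++ [a]) v = M.table' pre v ++ (M.table' pre v).map (M.img a) := by
  have : ∀ (l full : List ℕ), M.grow a full l = full ++ l.map (M.img a) := by
    intro l
    induction l with
    | nil => intro full; simp [Model.grow]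
    | cons x l ih => intro full; simp [Model.grow, withNat_eq, ih]
  simp only [Model.table', List.foldl_append, List.foldl_cons, List.foldl_nil, this]

/-- the search meets the images of the generators under a map fixing both vectors -/
theorem ops_mem (hM : M.constOK = true) (hq : (M.q : K) = 0)
    (hinj : ∀ v w, M.Valid v → M.Valid w → M.vec (K := K) b v = M.vec (K := K) b w → v = w)
    (G : ℕ → Module.End K V) (hlen : M.gens.length = M.n)
    (hact : ∀ i, i < M.n → M.Acts b (M.gens.getD i .unit1) (G i))
    (hx : M.Valid M.x) (hy : M.Valid M.y) {L : List (List ℕ)} (hL : M.listed L = true)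
    (g : Module.End K V) (hgx : g (M.vec (K := K) b M.x) = M.vec (K := K) b M.x)
    (hgy : g (M.vec (K := K) b M.y) = M.vec (K := K) b M.y)
    (t c : ℕ → ℕ) (ht : ∀ i, i < M.n → t i < 2 ^ M.n)
    (hc : ∀ i, i < M.n → 1 ≤ c i ∧ c i < M.q)
    (hgG : ∀ i, i < M.n → g * G i = ((c i : K) • prodMask G (t i) M.n) * g) :
    (∀ i, i < M.n → t i = 2 ^ i ∧ c i = 1) ∨
      (table M.n ((List.range M.n).map t) ∈ L ∧
        table M.n ((List.range M.n).map t) ≠ List.range (2 ^ M.n)) := by
  simp only [Model.listed, Bool.and_eq_true, List.all_eq_true, List.mem_range,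
    List.contains_iff_mem, bne_iff_ne] at hL
  obtain ⟨hmoves, hstd⟩ := hL
  let e : ℕ → ℕ × ℕ := fun i => (t i, c i)
  let e0 : ℕ → ℕ × ℕ := fun i => (2 ^ i, 1)
  have himg : ∀ (a : ℕ × ℕ) (v : ℕ), M.Valid v → M.Valid (M.img a v) ∧ M.vec (K := K) b (M.img a v) =
      (a.2 : K) • prodMask G a.1 M.n (M.vec (K := K) b v) := by
    intro a v hv
    obtain ⟨h1, h2⟩ := word_spec b G a.1 M.n M.gens hlen hact v hv
    obtain ⟨h3, h4⟩ := smul_spec b hM hq h1 a.2
    simp only [Model.img, withNat_eq]
    exact ⟨h3, h4.trans (by rw [h2])⟩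
  have hG0 : ∀ i, i < M.n → ∀ v, M.Valid v →
      M.vec (K := K) b (M.img (e0 i) v) = G i (M.vec (K := K) b v) := fun i hi v hv => by
    rw [(himg _ v hv).2, prodMask_pow, if_pos hi, Nat.cast_one, one_smul]
  -- the tables
  have htab : ∀ (k : ℕ), k ≤ M.n → ∀ (v : ℕ), M.Valid v →
      g (M.vec (K := K) b v) = M.vec (K := K) b v →
      (M.table' ((List.range k).map e) v).length = (M.table' ((List.range k).map e0) v).length ∧
      ∀ s, M.Valid ((M.table' ((List.range k).map e) v).getD s 0) ∧
        M.Valid ((M.table' ((List.range k).map e0) v).getD s 0) ∧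
        M.vec (K := K) b ((M.table' ((List.range k).map e) v).getD s 0) =
          g (M.vec (K := K) b ((M.table' ((List.range k).map e0) v).getD s 0)) := by
    intro k
    induction k with
    | zero =>
      intro _ v hv hgv
      refine ⟨rfl, fun s => ?_⟩
      rcases s with _ | s
      · exact ⟨hv, hv, hgv.symm⟩
      · have z := valid_zero hM
        exact ⟨z, z, by simp [Model.table', vec_zero]⟩
    | succ k ih =>
      intro hk v hv hgv
      obtain ⟨hl, ih⟩ := ih (by omega) v hv hgv
      rw [List.range_succ, List.map_append, List.map_append, List.map_singleton, List.map_singleton,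
        table'_succ, table'_succ]
      refine ⟨by simp [hl], fun s => ?_⟩
      set A := M.table' ((List.range k).map e) v
      set B := M.table' ((List.range k).map e0) v
      rcases Nat.lt_or_ge s A.length with hs | hs
      · rw [List.getD_append _ _ _ _ hs, List.getD_append _ _ _ _ (hl ▸ hs)]
        exact ih s
      rw [List.getD_append_right _ _ _ _ hs, List.getD_append_right _ _ _ _ (hl ▸ hs)]
      rcases Nat.lt_or_ge (s - A.length) A.length with hs' | hs'
      · obtain ⟨hva, hvb, heq⟩ := ih (s - A.length)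
        rw [List.getD_eq_getElem _ _ hs', List.getD_eq_getElem _ _ (hl ▸ hs')] at heq
        rw [List.getD_eq_getElem _ _ hs'] at hva
        rw [List.getD_eq_getElem _ _ (hl ▸ hs')] at hvb
        rw [List.getD_eq_getElem _ _ (by simpa using hs'),
          List.getD_eq_getElem _ _ (by simpa [← hl] using hs'), List.getElem_map, List.getElem_map]
        simp only [← hl]
        refine ⟨(himg _ _ hva).1, (himg _ _ hvb).1, ?_⟩
        rw [(himg _ _ hva).2, hG0 k hk _ hvb, heq]
        exact (LinearMap.congr_fun (hgG k hk) _).symm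
      · rw [List.getD_eq_default _ _ (by simpa using hs'),
          List.getD_eq_default _ _ (by simpa [← hl] using hs'), vec_zero, map_zero]
        exact ⟨valid_zero hM, valid_zero hM, rfl⟩
  have hcand : ∀ k, k < M.n → e k ∈ M.cand ((List.range k).map e) := by
    intro k hk
    have hk' := hstd k hk
    rw [show M.std.take k = (List.range k).map e0 by
        simp [Model.std, ← List.map_take, List.take_range, Nat.min_eq_left hk.le, e0],
      show M.std.getD k (0, 0) = e0 k by
        simp [Model.std, e0, List.getD_eq_getElem?_getD, hk]] at hk'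
    obtain ⟨-, htx⟩ := htab k hk.le M.x hx hgx
    obtain ⟨-, hty⟩ := htab k hk.le M.y hy hgy
    set tx := M.table' ((List.range k).map e) M.x
    set ty := M.table' ((List.range k).map e) M.y
    set tx0 := M.table' ((List.range k).map e0) M.x
    set ty0 := M.table' ((List.range k).map e0) M.y
    have hcomb : ∀ (l : List (ℕ × ℕ)) (a a0 : ℕ), M.Valid a → M.Valid a0 →
        M.vec (K := K) b a = g (M.vec (K := K) b a0) →
        M.Valid (M.comb tx ty l a) ∧ M.Valid (M.comb tx0 ty0 l a0) ∧
          M.vec (K := K) b (M.comb tx ty l a) = g (M.vec (K := K) b (M.comb tx0 ty0 l a0)) := by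
      intro l
      induction l with
      | nil => intro a a0 h1 h2 h3; exact ⟨h1, h2, h3⟩
      | cons r l ih =>
        intro a a0 h1 h2 h3
        simp only [Model.comb, withNat_eq]
        have hsel : M.Valid ((if r.1 % 2 == 0 then tx else ty).getD (r.1 / 2) 0) ∧
            M.Valid ((if r.1 % 2 == 0 then tx0 else ty0).getD (r.1 / 2) 0) ∧
            M.vec (K := K) b ((if r.1 % 2 == 0 then tx else ty).getD (r.1 / 2) 0) =
              g (M.vec (K := K) b ((if r.1 % 2 == 0 then tx0 else ty0).getD (r.1 / 2) 0)) := by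
          cases (r.1 % 2 == 0)
          · exact hty _
          · exact htx _
        obtain ⟨s1, s2, s3⟩ := hsel
        obtain ⟨m1, m2⟩ := smul_spec b hM hq s1 r.2
        obtain ⟨m1', m2'⟩ := smul_spec b hM hq s2 r.2
        refine ih _ _ (valid_add hM h1 m1) (valid_add hM h2 m1') ?_
        rw [vec_add b hM hq h1 m1, vec_add b hM hq h2 m1', m2, m2', s3, h3, map_add, map_smul]
    simp only [Model.cand, List.length_map, List.length_range, List.mem_filter, List.mem_flatMap,
      List.mem_map, List.mem_range, List.all_eq_true]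
    obtain ⟨hc1, hc2⟩ := hc k hk
    refine ⟨⟨t k, ht k hk, c k - 1, by omega, by simp [e, Nat.sub_add_cancel hc1]⟩, ?_⟩
    have hall : ∀ R : List (List (ℕ × ℕ) × List (ℕ × ℕ)),
        (∀ x ∈ M.targets tx0 ty0 R, (M.img (e0 k) x.1 == x.2) = true) →
        ∀ x ∈ M.targets tx ty R, (M.img (e k) x.1 == x.2) = true := by
      intro R
      induction R with
      | nil => intro _ x hx'; simp [Model.targets] at hx'
      | cons r R ih =>
        intro h0 x hx'
        simp only [Model.targets, withNat_eq, List.mem_cons] at hx' h0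
        rcases hx' with rfl | hx'
        swap
        · exact ih (fun y hy' => h0 y (Or.inr hy')) x hx'
        have h00 := h0 _ (Or.inl rfl)
        simp only [beq_iff_eq] at h00 ⊢
        obtain ⟨w1, w2, w3⟩ := hcomb r.1 0 0 (valid_zero hM) (valid_zero hM) (by simp [vec_zero])
        obtain ⟨o1, o2, o3⟩ := hcomb r.2 0 0 (valid_zero hM) (valid_zero hM) (by simp [vec_zero])
        refine hinj _ _ (himg _ _ w1).1 (valid_neg hM o1) ?_
        rw [(himg _ _ w1).2, w3, vec_neg b hM hq o1, o3, ← map_neg, ← vec_neg b hM hq o2, ← h00,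
          hG0 k hk _ w2]
        exact (LinearMap.congr_fun (hgG k hk) _).symm
    exact hall _ hk'
  have hleaf := mem_leaves M.cand e M.n hcand
  by_cases hl : (List.range M.n).map e = M.std
  · refine Or.inl fun i hi => ?_
    have := congrArg (fun l => l[i]?) hl
    simp only [Model.std, List.getElem?_map, List.getElem?_range hi, Option.map_some,
      Option.some.injEq, e, Prod.mk.injEq] at this
    exact this
  · right
    refine hmoves _ ?_
    simp only [Model.moves, List.mem_map, List.mem_filter, bne_iff_ne]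
    exact ⟨_, ⟨hleaf, hl⟩, by rw [List.map_map]; rfl⟩

end CfsgLib.BaseThree.Check
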