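import Cfsg.Agent.Lib.BaseCoprime.Frame
import Cfsg.Agent.Lib.BaseCoprime.OpsSound
import Cfsg.Agent.Lib.BaseCoprime.MonoSound
import Cfsg.Agent.Lib.BaseCoprime.TreeSound
/-
Two vectors from operator models over a field of prime order.
-/
set_option autoImplicit false
set_option linter.unusedSectionVars false

universe u

open scoped commutatorElement

namespace CfsgLib.BaseThree

namespace Check

/-- validity of a packed vector, decidably -/
def Model.validB (M : Model) (v : ℕ) : Bool :=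
  decide (v < 16 ^ M.e) && (List.range M.e).all fun j => decide (dig j v < M.q)

theorem valid_of_validB {M : Model} {v : ℕ} (h : M.validB v = true) : M.Valid v := by
  simp only [Model.validB, Bool.and_eq_true, decide_eq_true_eq, List.all_eq_true, List.mem_range] at h
  exact ⟨h.2, fun j hj => dig_eq_zero_of_lt h.1 hj⟩

/-- the sign pattern of the `i`-th coordinate with blocks of `k` entries -/
def sgnPat (k i j : ℕ) : Bool := (j / k).testBit i

/-- the flip of the `i`-th coordinate with blocks of `k` entries -/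
def flipPat (k i j : ℕ) : ℕ := k * ((j / k) ^^^ 2 ^ i) + j % k

/-- the shape of a model with `d` coordinates and blocks of `k` entries -/
def Model.shapeOK (M : Model) (q d k : ℕ) : Bool :=
  M.constOK && decide (M.q = q) && decide (M.e = k * 2 ^ d) && decide (M.gens.length = M.n) &&
    decide (M.n = 2 * d + if k = 2 then 2 else 0) && M.validB M.x && M.validB M.y && decide (M.x ≠ 0) &&
    ((List.range d).all fun i => match M.gens.getD i .unit1 with
      | .sgn m => M.sgnOK m (sgnPat k i)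
      | _ => false) &&
    ((List.range d).all fun i => match M.gens.getD (d + i) .unit1 with
      | .swp s m => M.swpOK s m (flipPat k i)
      | _ => false) &&
    (decide (k = 1) || match M.gens.getD (2 * d) (.sgn 0), M.gens.getD (2 * d + 1) (.sgn 0) with
      | .unit1, .unit2 => decide (k = 2)
      | _, _ => false)

end Check

open Check

variable {K V H : Type u} [Field K] [Finite K] [AddCommGroup V] [Finite V] [Nontrivial V]
  [Module K V] [Group H] [Finite H] [DistribMulAction H V] [FaithfulSMul H V]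

theorem exists_natCast {q : ℕ} (hq : q.Prime) (hK : Nat.card K = q) :
    CharP K q ∧ ∀ c : K, c ≠ 0 → ∃ m : ℕ, 1 ≤ m ∧ m < q ∧ c = (m : K) := by
  classical
  have : Fintype K := Fintype.ofFinite K
  have : Fact q.Prime := ⟨hq⟩
  have hcard : Fintype.card K = q := by rw [← hK, Nat.card_eq_fintype_card]
  have hp : CharP K q := charP_of_card_eq_prime hcard
  refine ⟨hp, fun c hc => ?_⟩
  have hbij : Function.Bijective (fun m : Fin q => ((m.val : ℕ) : K)) := by
    refine (Fintype.bijective_iff_injective_and_card _).mpr ⟨fun a b h => Fin.ext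
      (Nat.ModEq.eq_of_lt_of_lt ((CharP.natCast_eq_natCast K q).mp h) a.2 b.2), ?_⟩
    rw [Fintype.card_fin, hcard]
  obtain ⟨m, hm⟩ := hbij.2 c
  refine ⟨m, Nat.pos_of_ne_zero fun h => hc ?_, m.2, hm.symm⟩
  rw [← hm]
  simp [h]

namespace Setup

variable (S : Setup K V H)

theorem mem_C_of_prime {q : ℕ} (hq : q.Prime) (hK : Nat.card K = q) (h : H) : h ∈ S.C := by
  obtain ⟨-, hnat⟩ := exists_natCast hq hK
  have hadd : ∀ a b : K, S.σ h (a + b) = S.σ h a + S.σ h b := by
    intro a b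
    refine scal_eq (V := V) fun v => ?_
    obtain ⟨w, rfl⟩ := MulAction.surjective h v
    rw [← S.smul_comm', add_smul, add_smul, smul_add, S.smul_comm', S.smul_comm']
  rw [S.mem_C_iff]
  intro c
  rcases eq_or_ne c 0 with rfl | hc
  · exact S.σ_zero h
  obtain ⟨m, -, -, rfl⟩ := hnat c hc
  induction m with
  | zero => simp [S.σ_zero]
  | succ m ih =>
    rw [Nat.cast_succ, hadd, S.σ_unit]
    congr 1
    by_cases hm : (m : K) = 0
    · rw [hm, S.σ_zero]
    · exact ih hm

theorem op_ne_zero {T : Module.End K V} {c : K} {b : H} (h : S.IsOp T c b) {v : V} (hv : v ≠ 0) :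
    T v ≠ 0 := by
  rw [h.2.2]
  exact smul_ne_zero h.1 ((smul_ne_zero_iff_ne _).mpr hv)

theorem χ_eq {T T' : Module.End K V} {c c' s : K} {b b' : H} (h : S.IsOp T c b)
    (h' : S.IsOp T' c' b') (he : T * T' = s • (T' * T)) : S.χ' ⁅b, b'⁆ = s := by
  rw [S.op_comm h h'] at he
  obtain ⟨v, hv⟩ := exists_ne (0 : V)
  exact smul_left_injective K (S.op_ne_zero (S.isOp_mul h' h) hv) (LinearMap.congr_fun he v)

/-- pairs from operator models -/
theorem pair_ops (hC : S.C ≠ S.A) {q : ℕ} (hq : q.Prime) (hK : Nat.card K = q) (hneg : (-1 : K) ≠ 1)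
    (hcop : (Nat.card H).Coprime q)
    (hsgn : ∀ x ∈ S.B, ∀ y ∈ S.B, S.χ' ⁅x, y⁆ = 1 ∨ S.χ' ⁅x, y⁆ = -1)
    (n : ℕ) (el : ℕ → H) (cf : ℕ → K) (G : ℕ → Module.End K V)
    (hop : ∀ i, i < n → S.IsOp (G i) (cf i) (el i)) (dual : ℕ → ℕ)
    (hdual : ∀ i, i < n → dual i < n ∧ dual (dual i) = i)
    (hpair : ∀ i, i < n → ∀ j, j < n → S.χ' ⁅el i, el (dual j)⁆ = if i = j then -1 else 1)
    (hgen : ∀ b ∈ S.B, (∀ i, i < n → ⁅b, el i⁆ = 1) → b ∈ S.A)
    (Ms : List Model) (Ls : List (List (List ℕ))) (t : Tree) (basis : ℕ → V)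
    (hspec : ∀ M ∈ Ms, M.constOK = true ∧ M.q = q ∧ M.n = n ∧ M.gens.length = M.n ∧
      M.Valid M.x ∧ M.Valid M.y ∧ M.x ≠ 0 ∧
      (∀ i, i < n → M.Acts basis (M.gens.getD i .unit1) (G i)) ∧
      ∀ v w, M.Valid v → M.Valid w → M.vec (K := K) basis v = M.vec (K := K) basis w → v = w)
    (hlen : Ms.length = Ls.length)
    (hlist : (Ms.zip Ls).all (fun e => e.1.listed e.2) = true)
    (htree : treeOK q (2 ^ n) Ls t [] = true) :
    ∃ v w : V, ∀ g : H, g • v = v → g • w = w → g = 1 := by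
  classical
  obtain ⟨hchar, hnat⟩ := exists_natCast hq hK
  have hCtop := S.mem_C_of_prime hq hK
  have := S.B_normal
  have := S.normal
  by_contra hno
  push Not at hno
  -- coordinates of the layer modulo the scalars
  let bit : K → ZMod 2 := fun c => if c = 1 then 0 else 1
  have hbit : ∀ {a b : K}, (a = 1 ∨ a = -1) → (b = 1 ∨ b = -1) → bit (a * b) = bit a + bit b := by
    rintro a b (rfl | rfl) (rfl | rfl) <;> simp [bit, hneg] <;> decide
  let ψ : H → Fin n → ZMod 2 := fun x j => bit (S.χ' ⁅x, el (dual j)⁆)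
  have hel : ∀ i, i < n → el i ∈ S.B := fun i hi => (hop i hi).2.1
  have hψadd : ∀ x ∈ S.B, ∀ y ∈ S.B, ψ (x * y) = ψ x + ψ y := by
    intro x hx y hy
    funext j
    have hd := hel _ (hdual j j.2).1
    show bit _ = bit _ + bit _
    rw [S.comm_mul_left (S.B_le_C hx) (S.B_comm _ hy _ hd),
      S.χ'_mul (S.B_comm _ hy _ hd) (S.B_comm _ hx _ hd),
      hbit (hsgn _ hy _ hd) (hsgn _ hx _ hd), add_comm]
  have hψ1 : ψ 1 = 0 := funext fun j => by simp [ψ, bit, S.χ'_one]
  have hψinv : ∀ x ∈ S.B, ψ x⁻¹ = ψ x := by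
    intro x hx
    have h := hψadd _ (inv_mem hx) _ hx
    rw [inv_mul_cancel, hψ1] at h
    funext j
    have h' := congrFun h j
    simp only [Pi.zero_apply, Pi.add_apply] at h'
    rcases zmod2_cases (ψ x⁻¹ j) with a | a <;> rcases zmod2_cases (ψ x j) with b | b <;>
      rw [a, b] at h' ⊢ <;> revert h' <;> decide
  have hψker : ∀ x ∈ S.B, ψ x = 0 → x ∈ S.A := by
    intro x hx h
    refine hgen x hx fun i hi => ?_
    have h' := congrFun h ⟨dual i, (hdual i hi).1⟩
    simp only [ψ, (hdual i hi).2, Pi.zero_apply] at h'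
    refine S.χ'_eq_one (S.B_comm _ hx _ (hel i hi)) ?_
    by_contra hne
    simp [bit, hne] at h'
  have hψA : ∀ a ∈ S.A, ψ a = 0 := fun a ha => funext fun j => by
    simp [ψ, bit, S.χ'_one, commutatorElement_eq_one_iff_mul_comm.mpr
      (S.A_central ha (S.B_le_C (hel _ (hdual j j.2).1)))]
  have hψel : ∀ i, i < n → ψ (el i) = mask n (2 ^ i) := by
    intro i hi
    funext j
    show bit _ = _
    rw [hpair i hi j j.2]
    by_cases h : i = j
    · simp [bit, hneg, mask, h]
    · simp [bit, mask, h]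
  have hwords : ∀ k, k ≤ n → ∀ s < 2 ^ k, ∃ c e,
      S.IsOp (prodMask G s k) c e ∧ ψ e = mask n s := by
    intro k
    induction k with
    | zero =>
      intro _ s hs
      have : s = 0 := by simpa using hs
      subst this
      exact ⟨1, 1, S.isOp_one, by rw [hψ1, mask_zero]⟩
    | succ k ih =>
      intro hk s hs
      by_cases h : s < 2 ^ k
      · obtain ⟨c, e, h1, h2⟩ := ih (by omega) s h
        refine ⟨c, e, ?_, h2⟩
        rwa [prodMask, Nat.testBit_lt_two_pow h, if_neg (by simp), one_mul]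
      · have h' := xor_pow_lt (Nat.le_of_not_lt h) hs
        obtain ⟨c, e, h1, h2⟩ := ih (by omega) _ h'
        refine ⟨cf k * c, el k * e, ?_, ?_⟩
        · have hlow : ∀ i, i < k → s.testBit i = (s ^^^ 2 ^ k).testBit i := fun i hi => by
            simp [Nat.testBit_xor, Nat.testBit_two_pow, Nat.ne_of_gt hi]
          have htop : s.testBit k = true := by
            by_contra hne
            refine h (Nat.lt_pow_two_of_testBit _ fun i hi => ?_)
            rcases Nat.eq_or_lt_of_le hi with rfl | hlt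
            · simpa using hne
            · exact Nat.testBit_lt_two_pow (lt_of_lt_of_le hs (Nat.pow_le_pow_right two_pos hlt))
          rw [prodMask, htop, if_pos rfl, prodMask_congr G k hlow]
          exact S.isOp_mul (hop k (by omega)) h1
        · rw [hψadd _ (hel k (by omega)) _ h1.2.1, hψel k (by omega), h2, ← mask_xor]
          congr 1
          rw [Nat.xor_comm, Nat.xor_assoc, Nat.xor_self, Nat.xor_zero]
  choose wc we hwop hwψ using fun v : Fin n → ZMod 2 => hwords n le_rfl (code v) (code_lt v)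
  have hrep : ∀ v, ψ (we v) = v := fun v => (hwψ v).trans (mask_code v)
  have hweB : ∀ v, we v ∈ S.B := fun v => (hwop v).2.1
  -- scaled products
  have hclass : ∀ (T : Module.End K V) c x, S.IsOp T c x → ∃ k : K, k ≠ 0 ∧
      T = k • prodMask G (code (ψ x)) n := by
    intro T c x hT
    have hA : (we (ψ x))⁻¹ * x ∈ S.A := hψker _ (mul_mem (inv_mem (hweB _)) hT.2.1) (by
      rw [hψadd _ (inv_mem (hweB _)) _ hT.2.1, hψinv _ (hweB _), hrep]
      funext j
      rcases zmod2_cases (ψ x j) with h | h <;> simp [h]; decide)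
    refine ⟨c * S.χ' ((we (ψ x))⁻¹ * x) * (wc (ψ x))⁻¹,
      mul_ne_zero (mul_ne_zero hT.1 (S.χ'_ne hA)) (inv_ne_zero (hwop (ψ x)).1), LinearMap.ext fun v => ?_⟩
    have e : x • v = S.χ' ((we (ψ x))⁻¹ * x) • we (ψ x) • v := by
      rw [← S.C_linear (S.B_le_C (hweB _)), ← S.χ'_spec hA, ← mul_smul, mul_inv_cancel_left]
    rw [LinearMap.smul_apply, hT.2.2, (hwop (ψ x)).2.2, e, smul_smul, smul_smul]
    congr 1
    rw [mul_assoc _ _ (wc (ψ x)), inv_mul_cancel₀ (hwop (ψ x)).1, mul_one]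
  -- the induced maps
  let P : H → (Fin n → ZMod 2) → Fin n → ZMod 2 := fun g v => ψ (g * we v * g⁻¹)
  have hP : ∀ g, ∀ x ∈ S.B, P g (ψ x) = ψ (g * x * g⁻¹) := by
    intro g x hx
    have hA : (we (ψ x))⁻¹ * x ∈ S.A := hψker _ (mul_mem (inv_mem (hweB _)) hx) (by
      rw [hψadd _ (inv_mem (hweB _)) _ hx, hψinv _ (hweB _), hrep]
      funext j
      rcases zmod2_cases (ψ x j) with h | h <;> simp [h]; decide)
    show ψ (g * we (ψ x) * g⁻¹) = _
    have hA' := S.normal.conj_mem _ hA g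
    rw [show g * x * g⁻¹ = (g * we (ψ x) * g⁻¹) * (g * ((we (ψ x))⁻¹ * x) * g⁻¹) by group,
      hψadd _ (S.B_normal.conj_mem _ (hweB _) g) _ (S.A_le_B hC hA'), hψA _ hA', add_zero]
  have hPadd : ∀ g v w, P g (v + w) = P g v + P g w := by
    intro g v w
    conv_lhs => rw [← hrep v, ← hrep w, ← hψadd _ (hweB v) _ (hweB w), hP g _ (mul_mem (hweB v) (hweB w))]
    show _ = ψ (g * we v * g⁻¹) + ψ (g * we w * g⁻¹)
    rw [← hψadd _ (S.B_normal.conj_mem _ (hweB v) g) _ (S.B_normal.conj_mem _ (hweB w) g)]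
    congr 1
    group
  have hPmul : ∀ g h v, P (g * h) v = P g (P h v) := by
    intro g h v
    show _ = P g (ψ (h * we v * h⁻¹))
    rw [hP g _ (S.B_normal.conj_mem _ (hweB v) h)]
    show ψ _ = ψ _
    congr 1
    group
  have hP1 : ∀ v, P 1 v = v := fun v => by simp [P, hrep]
  let Lp : List ℕ → Prop := fun Q => ∃ g : H, Q = tabOf (P g)
  refine treeOK_sound (p := q) (size := 2 ^ n) (S := Ls) Lp ?_ ?_ ?_ ?_ ?_ t []
    (fun i hi => absurd hi (Nat.not_lt_zero i)) htree
  · rintro Q ⟨g, rfl⟩; simp [tabOf]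
  · exact ⟨1, (tabOf_id.mpr hP1).symm⟩
  · rintro a b ⟨g, rfl⟩ ⟨h, rfl⟩
    refine ⟨g * h, ?_⟩
    rw [pmul_tabOf]
    congr 1
    funext v
    exact (hPmul g h v).symm
  · rintro Q ⟨g, rfl⟩ hQ
    rw [ppow_tabOf] at hQ
    have hit : ∀ (g : H) (k : ℕ) v, (P g)^[k] v = P (g ^ k) v := by
      intro g k
      induction k with
      | zero => intro v; rw [pow_zero, hP1]; rfl
      | succ k ih => intro v; rw [Function.iterate_succ_apply', ih, pow_succ', hPmul]
    obtain ⟨m, hm⟩ := exists_pow_eq_self_of_coprime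
      (Nat.Coprime.coprime_dvd_right (orderOf_dvd_natCard g) hcop.symm)
    refine tabOf_id.mpr fun v => ?_
    rw [← hm]
    have h1 : ∀ v, P (g ^ q) v = v := fun v => by rw [← hit]; exact tabOf_id.mp hQ v
    have : ∀ j v, P ((g ^ q) ^ j) v = v := fun j => by
      induction j with
      | zero => intro v; rw [pow_zero, hP1]
      | succ j ih => intro v; rw [pow_succ, hPmul, h1, ih]
    exact this m v
  intro j hj
  have hjM : j < Ms.length := hlen ▸ hj
  obtain ⟨hMc, hMq, hMn, hMl, hMx, hMy, hMx0, hacts, hinj⟩ := hspec _ (List.getElem_mem hjM)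
  set M := Ms[j]
  have hlistj : M.listed Ls[j] = true := by
    refine List.all_eq_true.mp hlist (M, Ls[j]) (List.mem_iff_getElem.mpr ⟨j, by
      rw [List.length_zip]; omega, ?_⟩)
    simp [M]
  obtain ⟨g, hgx, hgy, hg1⟩ := hno (M.vec (K := K) basis M.x) (M.vec (K := K) basis M.y)
  have hgC := hCtop g
  have hTop : ∀ i, i < n → ∃ c : ℕ, 1 ≤ c ∧ c < q ∧ S.lin hgC * G i =
      ((c : K) • prodMask G (code (P g (mask n (2 ^ i)))) n) * S.lin hgC := by
    intro i hi
    obtain ⟨k, hk, hT⟩ := hclass _ _ _ (S.op_fix hgC (hop i hi))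
    obtain ⟨c, hc1, hc2, rfl⟩ := hnat k hk
    refine ⟨c, hc1, hc2, ?_⟩
    rw [← hψel i hi, hP g _ (hel i hi), ← hT, mul_assoc, show S.lin (inv_mem hgC) * S.lin hgC = 1 from
      LinearMap.ext fun x => inv_smul_smul g x, mul_one]
  choose! cc hc1 hc2 hcT using hTop
  have hq0 : (M.q : K) = 0 := by rw [hMq]; exact CharP.cast_eq_zero K q
  rcases ops_mem basis hMc hq0 hinj G hMl (hMn ▸ hacts) hMx hMy hlistj (S.lin hgC) hgx hgy
    (fun i => code (P g (mask n (2 ^ i)))) cc
    (fun i _ => hMn.symm ▸ code_lt _) (fun i hi => by rw [hMq]; exact ⟨hc1 i (hMn ▸ hi), hc2 i (hMn ▸ hi)⟩)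
    (fun i hi => by rw [hMn]; exact hcT i (hMn ▸ hi)) with hstd | ⟨hmem, -⟩
  · exfalso
    refine hg1 (S.A_fix_trivial (S.centralizer_B hC hgC (Subgroup.mem_centralizer_iff.mpr fun x hx => ?_))
      (fun h0 => hMx0 (hinj _ _ hMx (valid_zero hMc) (h0.trans (vec_zero basis).symm))) hgx)
    have hcommG : ∀ i, i < n → Commute (S.lin hgC) (G i) := by
      intro i hi
      have h := hcT i hi
      obtain ⟨h1, h2⟩ := hstd i (hMn.symm ▸ hi)
      rw [h1, h2, Nat.cast_one, one_smul, prodMask_pow, if_pos hi] at h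
      exact h
    have hcommW : ∀ k, k ≤ n → ∀ s, Commute (S.lin hgC) (prodMask G s k) := by
      intro k
      induction k with
      | zero => intro _ s; exact Commute.one_right _
      | succ k ih =>
        intro hk s
        refine Commute.mul_right ?_ (ih (by omega) s)
        cases s.testBit k
        · exact Commute.one_right _
        · exact hcommG k (by omega)
    obtain ⟨k, -, hk⟩ := hclass _ _ _ (S.isOp_lin hx)
    have hc : Commute (S.lin hgC) (S.lin (S.B_le_C hx)) := hk ▸ (hcommW n le_rfl _).smul_right k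
    refine FaithfulSMul.eq_of_smul_eq_smul (α := V) fun v => ?_
    rw [mul_smul, mul_smul]
    exact (LinearMap.congr_fun hc.eq v).symm
  · refine ⟨_, ?_, g, rfl⟩
    rw [List.getD_eq_getElem _ _ hj]
    have e : table M.n ((List.range M.n).map fun i => code (P g (mask n (2 ^ i)))) = tabOf (P g) := by
      rw [hMn, table, tabOf]
      exact List.map_congr_left fun w hw =>
        imgOf_map (AddMonoidHom.mk' (P g) (hPadd g)) n le_rfl w (List.mem_range.mp hw)
    rwa [e] at hmem

namespace Coords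

variable {S} {u : V} (co : S.Coords u) {htwo : ∀ i, co.n i = 2} {ys : Set H}
  (fr : co.Frame htwo ys)

theorem R_inj (z : Fin co.d → ZMod 2) {x : V} (hz : fr.R z x = 0) : x = 0 := by
  obtain ⟨c, b, hb, -, -⟩ := fr.R_op z
  by_contra hx
  exact S.op_ne_zero hb hx hz

theorem inEig_R (hu : u ≠ 0) (w : (i : Fin co.d) → ZMod (co.n i)) {z : H} (hz : z ∈ S.Y u) :
    S.InEig u (co.r w) (fr.R (co.toBin htwo w) (z • u)) := by
  obtain ⟨c, b, hb, hbw, -⟩ := fr.R_op (co.toBin htwo w)
  intro x hx k hk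
  rw [hb.2.2, ← mul_smul b z, S.C_linear (S.B_le_C hx.1),
    S.inEig_translate (co.mem w) (mul_mem hb.2.1 hz.1) ?_ x hx k hk, smul_comm]
  refine co.coset (co.mem w) (mul_mem hb.2.1 hz.1) ?_
  rw [co.spec, co.map_mul _ hb.2.1 _ hz.1, (co.ker z hz.1).mpr hz, add_zero]
  exact (co.toBin htwo).injective hbw.symm

/-- commuting with the frame means lying in `Y` -/
theorem mem_Y_of_commute (hu : u ≠ 0) (hneg : (-1 : K) ≠ 1) {b : H} (hb : b ∈ S.B)
    (hX : ∀ i, ∃ c e, S.IsOp (fr.X i) c e ∧ e ∈ S.X u ∧ ⁅b, e⁆ = 1) : b ∈ S.Y u := by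
  rw [← co.ker b hb]
  refine (co.toBin htwo).injective (funext fun i => ?_)
  rw [map_zero, Pi.zero_apply]
  set w := co.toBin htwo (co.f b)
  by_contra hi
  obtain ⟨c, e, he, heX, hbe⟩ := hX i
  obtain ⟨c', b', hb', hbw, -⟩ := fr.R_op w
  have h1 : S.χ' ⁅e, b'⁆ = -1 := by
    refine S.χ_eq he hb' ?_
    rw [fr.X_R, if_neg hi]
  have hy := co.coset hb'.2.1 hb ((co.toBin htwo).injective hbw)
  have h2 : ⁅e, b'⁻¹ * b⁆ = 1 := commutatorElement_eq_one_iff_mul_comm.mpr
    (Subgroup.mem_centralizer_iff.mp hy.2 e heX)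
  have h3 : ⁅e, b⁆ = 1 := by rw [← commutatorElement_inv, hbe, inv_one]
  have h4 := S.comm_mul_right (x := e) (y := b') (S.B_le_C hb'.2.1) (h2 ▸ one_mem S.A)
  rw [mul_inv_cancel_left, h2, mul_one, h3] at h4
  rw [← h4, S.χ'_one] at h1
  exact hneg h1.symm

end Coords

end Setup

end CfsgLib.BaseThree
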