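import Cfsg.Agent.Lib.BaseCoprime.CheckOps
/-
Operator models with few coordinates and their checked certificates.
-/
set_option autoImplicit false
set_option maxRecDepth 100000
set_option maxHeartbeats 1000000

namespace CfsgLib.BaseThree.Check

/-- generators -/
def ops5_2_gens : List Gen := [.sgn 61680, .sgn 65280, .swp 4 3855, .swp 8 255]

/-- the models -/
def ops5_2 : List Model := [
  ⟨5, 4, 4, ops5_2_gens, 12353, 4624, [[], [([(0, 1)], [(3, 3), (2, 3), (0, 1), (1, 2)]), ([(1, 1)], [(2, 1), (3, 2), (1, 4), (0, 4)]), ([(2, 1)], [(2, 1), (3, 2), (0, 3), (1, 3)]), ([(3, 1)], [(3, 4), (2, 4), (1, 2), (0, 1)])], [([(0, 1)], [(2, 1), (3, 4), (1, 2)]), ([(1, 1)], [(2, 1), (0, 3), (1, 2)]), ([(2, 1)], [(3, 3), (0, 4), (1, 1)]), ([(3, 1)], [(2, 2), (3, 3), (0, 4)]), ([(4, 1)], [(2, 1), (3,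 3), (1, 1)]), ([(5, 1)], [(2, 3), (0, 1), (1, 3)]), ([(6, 1)], [(3, 4), (0, 4), (1, 2)]), ([(7, 1)], [(2, 4), (3, 2), (0, 2)])], [([(0, 1)], [(3, 2), (2, 2), (0, 3)]), ([(2, 1)], [(2, 3), (1, 2), (0, 2)]), ([(5, 1)], [(3, 1), (0, 2), (1, 4)]), ([(7, 1)], [(2, 2), (3, 4), (1, 1)]), ([(1, 1)], [(2, 4), (3, 3), (0, 4), (1, 2)]), ([(3, 1)], [(2, 4), (3, 2), (0, 4), (1, 3)]), ([(4, 1)], [(2, 4), (3, 1), (1, 1), (0, 1)]), ([(6, 1)], [(3, 1), (2, 1), (1, 1), (0, 4)]), ([(8, 1)], [(2, 3), (3, 1), (0, 4), (1, 2)]), ([(9, 1)], [(3, 3), (2, 3), (0, 1), (1, 4)]), ([(10, 1)], [(2, 1), (3, 3), (0, 2), (1, 4)]), ([(11, 1)], [(2, 4), (3, 1), (0, 2), (1, 2)]), ([(12, 1)], [(3, 1), (2, 1), (0, 2), (1, 2)]), ([(13, 1)], [(2, 2), (3, 4), (0, 4), (1, 3)]), ([(14, 1)], [(3, 3), (2, 3), (0, 4), (1, 4)]), ([(15,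 1)], [(2, 1), (3, 2), (0, 3), (1, 1)])]]⟩]

/-- their moves -/
def ops5_2_moves : List (List (List Nat)) := [
  []]

/-- the certificate -/
def ops5_2_tree : Tree := .node 0 []

theorem ops5_2_listed : (ops5_2.zip ops5_2_moves).all (fun e => e.1.listed e.2) = true := by decide +kernel

theorem ops5_2_tree_ok : treeOK 5 16 ops5_2_moves ops5_2_tree [] = true := by decide +kernel

/-- generators -/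
def ops5_3_gens : List Gen := [.sgn 4042322160, .sgn 4278255360, .sgn 4294901760, .swp 4 252645135, .swp 8 16711935, .swp 16 65535]

/-- the models -/
def ops5_3 : List Model := [
  ⟨5, 6, 8, ops5_3_gens, 33752064, 1142952193, [[([(0, 1)], [(0, 4)])], [([(2, 1), (0, 4)], [])], [([(5, 1), (1, 1)], [(7, 4), (3, 4)]), ([(0, 1)], [(7, 4), (4, 4), (5, 4), (3, 1), (0, 2), (1, 1)]), ([(2, 1)], [(7, 4), (4, 4), (5, 4), (3, 1), (0, 2), (1, 1)]), ([(4, 1)], [(7, 1), (4, 2), (5, 1), (3, 4), (0, 4), (1, 4)]), ([(6, 1)], [(7, 1), (4, 2), (5, 1), (3, 4), (0, 4), (1, 4)]), ([(3, 1), (1, 1)], [(7, 1), (5, 1), (4, 2), (3, 3), (0, 3), (1, 3)]), ([(7, 1), (1, 4)], [(7, 4), (4, 3), (5, 3), (3, 2), (0, 2), (1, 1)])], [([(5, 1), (1, 4)], [(5, 4), (1, 1)]), ([(0, 1)], [(9, 2), (5, 2), (4, 2), (0, 3), (1, 1)]),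 ([(2, 1)], [(9, 2), (5, 2), (4, 2), (0, 3), (1, 1)]), ([(12, 1)], [(9, 1), (5, 1), (4, 1), (3, 2), (0, 4), (1, 1)]), ([(14, 1)], [(9, 1), (5, 1), (4, 1), (3, 2), (0, 4), (1, 1)]), ([(3, 1), (1, 4)], [(7, 2), (5, 2), (4, 4), (3, 3), (0, 4), (1, 3)]), ([(4, 1)], [(9, 3), (7, 2), (5, 1), (4, 3), (3, 2), (0, 2), (1, 2)]), ([(6, 1)], [(9, 3), (7, 2), (5, 1), (4, 3), (3, 2), (0, 2), (1, 2)]), ([(7, 1), (1, 4)], [(7, 3), (4, 4), (5, 2), (3, 2), (0, 4), (1, 3)]), ([(8, 1)], [(9, 4), (7, 3), (5, 1), (4, 4), (3, 1), (0, 1), (1, 1)]), ([(10, 1)], [(9, 4), (7, 3), (5, 1), (4, 4), (3, 1), (0, 1), (1, 1)]), ([(9, 1), (1, 4)], [(9, 4), (7, 3), (4, 4), (5, 2), (3, 3), (0, 4), (1, 3)]), ([(11, 1), (1, 4)], [(9, 4), (7, 4), (4, 3), (5, 3), (3, 2), (0, 2), (1, 2)]), ([(13, 1), (1, 4)], [(9, 1), (7, 2), (5,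 2), (4, 4), (3, 2), (0, 4), (1, 3)]), ([(15, 1), (1, 4)], [(9, 1), (7, 1), (5, 1), (4, 2), (3, 3), (0, 3), (1, 4)])], [([(21, 1)], [(17, 1), (9, 2), (5, 4), (0, 4)]), ([(7, 1)], [(17, 4), (9, 1), (5, 2), (3, 3), (0, 2)]), ([(27, 1)], [(17, 4), (9, 2), (4, 1), (5, 3), (1, 1)]), ([(29, 1)], [(17, 1), (9, 2), (5, 2), (3, 2), (0, 3)]), ([(0, 1)], [(7, 1), (4, 2), (5, 1), (3, 2), (1, 2), (0, 4)]), ([(2, 1)], [(7, 1), (4, 2), (5, 1), (3, 2), (1, 2), (0, 4)]), ([(4, 1)], [(7, 3), (4, 1), (5, 3), (3, 4), (1, 4), (0, 3)]), ([(6, 1)], [(7, 3), (4, 1), (5, 3), (3, 4), (1, 4), (0, 3)]), ([(8, 1)], [(7, 2), (4, 3), (5, 2), (3, 1), (1, 1), (0, 1)]), ([(9, 1)], [(17, 4), (9, 1), (7, 1), (3, 4), (0, 2), (1, 3)]), ([(10, 1)], [(7, 2), (4, 3), (5, 2), (3, 1), (1, 1), (0, 1)]), ([(12, 1)], [(7, 4), (4, 4),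 (5, 4), (3, 3), (1, 3), (0, 2)]), ([(13, 1)], [(17, 1), (9, 1), (5, 3), (4, 3), (3, 3), (1, 4)]), ([(14, 1)], [(7, 4), (4, 4), (5, 4), (3, 3), (1, 3), (0, 2)]), ([(19, 1)], [(17, 4), (9, 2), (4, 2), (5, 1), (3, 2), (1, 1)]), ([(23, 1)], [(17, 1), (9, 2), (7, 1), (3, 3), (1, 3), (0, 3)]), ([(28, 1)], [(17, 4), (9, 4), (7, 4), (5, 2), (4, 1), (0, 3)]), ([(30, 1)], [(17, 4), (9, 4), (7, 4), (5, 2), (4, 1), (0, 3)]), ([(31, 1)], [(17, 1), (9, 2), (7, 3), (3, 3), (1, 1), (0, 4)]), ([(1, 1)], [(17, 4), (9, 4), (7, 2), (5, 2), (3, 2), (0, 1), (1, 4)]), ([(3, 1)], [(17, 1), (9, 1), (7, 1), (4, 3), (5, 1), (3, 4), (1, 2)]), ([(5, 1)], [(17, 1), (9, 4), (7, 4), (4, 4), (5, 2), (3, 4), (1, 2)]), ([(11, 1)], [(17, 1), (9, 4), (7, 2), (4, 4), (5, 3), (3, 2), (1, 3)]), ([(15, 1)], [(17, 4), (9, 4), (7,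 4), (5, 1), (3, 4), (0, 1), (1, 3)]), ([(16, 1)], [(17, 1), (9, 1), (7, 4), (4, 4), (3, 3), (0, 2), (1, 2)]), ([(17, 1)], [(17, 4), (9, 2), (7, 3), (4, 1), (5, 4), (3, 3), (1, 2)]), ([(18, 1)], [(17, 1), (9, 1), (7, 4), (4, 4), (3, 3), (0, 2), (1, 2)]), ([(20, 1)], [(17, 4), (9, 1), (7, 1), (5, 2), (4, 3), (0, 1), (1, 1)]), ([(22, 1)], [(17, 4), (9, 1), (7, 1), (5, 2), (4, 3), (0, 1), (1, 1)]), ([(25, 1)], [(17, 4), (9, 2), (7, 1), (4, 2), (5, 4), (3, 3), (1, 4)]), ([(24, 1)], [(17, 1), (9, 4), (7, 1), (5, 1), (4, 2), (3, 2), (0, 4), (1, 2)]), ([(26, 1)], [(17, 1), (9, 4), (7, 1), (5, 1), (4, 2), (3, 2), (0, 4), (1, 2)])], [([(0, 1)], [(4, 3), (3, 1), (0, 2), (1, 1)]), ([(2, 1)], [(4, 3), (3, 1), (0, 2), (1, 1)]), ([(4, 1)], [(7, 1), (4, 2), (5, 1), (0, 3)]), ([(6, 1)], [(7, 1), (4, 2),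 (5, 1), (0, 3)]), ([(17, 1)], [(7, 4), (5, 2), (3, 4), (1, 3)]), ([(19, 1)], [(7, 3), (5, 1), (3, 2), (1, 1)]), ([(21, 1)], [(7, 4), (5, 3), (3, 4), (1, 2)]), ([(23, 1)], [(7, 2), (5, 1), (3, 3), (1, 1)]), ([(41, 1)], [(17, 4), (9, 1), (5, 3), (0, 2)]), ([(1, 1)], [(17, 3), (4, 3), (5, 1), (0, 3), (1, 4)]), ([(3, 1)], [(17, 2), (7, 2), (5, 1), (3, 3), (1, 4)]), ([(5, 1)], [(17, 3), (4, 3), (5, 2), (0, 3), (1, 3)]), ([(7, 1)], [(17, 2), (7, 3), (5, 1), (3, 2), (1, 4)]), ([(15, 1)], [(17, 3), (9, 4), (7, 4), (4, 1), (3, 2)]), ([(24, 1)], [(17, 3), (9, 4), (7, 3), (4, 3), (3, 3)]), ([(25, 1)], [(9, 4), (7, 3), (5, 1), (3, 3), (1, 1)]), ([(26, 1)], [(17, 3), (9, 4), (7, 3), (4, 3), (3, 3)]), ([(29, 1)], [(9, 1), (7, 2), (5, 1), (3, 2), (1, 1)]), ([(32, 1)], [(7, 1), (5, 1), (3, 3), (0, 2), (1,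 3)]), ([(34, 1)], [(7, 1), (5, 1), (3, 3), (0, 2), (1, 3)]), ([(36, 1)], [(7, 2), (4, 3), (5, 2), (3, 4), (1, 4)]), ([(37, 1)], [(17, 4), (9, 4), (5, 1), (3, 4), (0, 1)]), ([(38, 1)], [(7, 2), (4, 3), (5, 2), (3, 4), (1, 4)]), ([(39, 1)], [(17, 1), (9, 1), (4, 3), (5, 4), (1, 4)]), ([(40, 1)], [(7, 4), (4, 2), (5, 4), (3, 2), (1, 2)]), ([(42, 1)], [(7, 4), (4, 2), (5, 4), (3, 2), (1, 2)]), ([(44, 1)], [(7, 3), (5, 3), (3, 1), (0, 3), (1, 1)]), ([(46, 1)], [(7, 3), (5, 3), (3, 1), (0, 3), (1, 1)]), ([(56, 1)], [(17, 2), (9, 4), (3, 2), (0, 2), (1, 4)]), ([(58, 1)], [(17, 2), (9, 4), (3, 2), (0, 2), (1, 4)]), ([(8, 1)], [(7, 2), (4, 1), (5, 2), (3, 2), (0, 4), (1, 2)]), ([(9, 1)], [(17, 2), (9, 4), (7, 3), (5, 1), (3, 3), (1, 4)]), ([(10, 1)], [(7, 2), (4, 1), (5, 2), (3, 2), (0, 4), (1, 2)]),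 ([(12, 1)], [(7, 2), (4, 4), (5, 2), (3, 2), (0, 1), (1, 2)]), ([(13, 1)], [(17, 2), (9, 1), (7, 2), (5, 1), (3, 2), (1, 4)]), ([(14, 1)], [(7, 2), (4, 4), (5, 2), (3, 2), (0, 1), (1, 2)]), ([(31, 1)], [(9, 1), (4, 2), (5, 4), (3, 2), (0, 3), (1, 1)]), ([(35, 1)], [(17, 4), (9, 1), (7, 4), (3, 4), (1, 2), (0, 2)]), ([(43, 1)], [(17, 1), (9, 4), (4, 4), (5, 2), (3, 4), (1, 4)]), ([(47, 1)], [(17, 4), (9, 4), (7, 2), (3, 1), (1, 4), (0, 1)]), ([(48, 1)], [(17, 3), (9, 1), (7, 1), (5, 4), (3, 4), (0, 3)]), ([(50, 1)], [(17, 3), (9, 1), (7, 1), (5, 4), (3, 4), (0, 3)]), ([(51, 1)], [(17, 1), (9, 2), (7, 2), (5, 3), (3, 2), (0, 3)]), ([(52, 1)], [(17, 2), (9, 1), (5, 2), (4, 2), (3, 3), (1, 4)]), ([(53, 1)], [(17, 4), (9, 2), (4, 1), (5, 3), (3, 1), (1, 3)]), ([(54, 1)], [(17, 2), (9, 1), (5,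 2), (4, 2), (3, 3), (1, 4)]), ([(61, 1)], [(17, 1), (9, 2), (7, 1), (3, 1), (0, 3), (1, 2)]), ([(63, 1)], [(17, 1), (9, 2), (5, 4), (3, 1), (0, 4), (1, 2)]), ([(11, 1)], [(17, 3), (9, 1), (7, 1), (5, 3), (3, 3), (0, 1), (1, 2)]), ([(27, 1)], [(9, 4), (7, 3), (4, 3), (5, 1), (3, 1), (0, 2), (1, 4)]), ([(28, 1)], [(17, 3), (9, 1), (7, 2), (5, 3), (3, 2), (0, 3), (1, 2)]), ([(30, 1)], [(17, 3), (9, 1), (7, 2), (5, 3), (3, 2), (0, 3), (1, 2)]), ([(33, 1)], [(17, 1), (9, 4), (7, 2), (4, 4), (5, 1), (3, 1), (1, 3)]), ([(45, 1)], [(17, 1), (9, 1), (7, 4), (4, 3), (5, 1), (3, 4), (1, 1)]), ([(49, 1)], [(17, 1), (9, 2), (7, 2), (5, 3), (3, 3), (0, 4), (1, 1)]), ([(55, 1)], [(17, 4), (9, 2), (7, 1), (4, 2), (5, 4), (3, 1), (1, 3)]), ([(57, 1)], [(17, 4), (9, 2), (7, 2), (4, 2), (5, 2), (3, 2), (1,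 1)]), ([(59, 1)], [(17, 4), (9, 2), (7, 2), (4, 1), (5, 2), (3, 3), (1, 2)]), ([(60, 1)], [(17, 3), (9, 4), (7, 4), (5, 4), (4, 3), (3, 1), (1, 2)]), ([(62, 1)], [(17, 3), (9, 4), (7, 4), (5, 4), (4, 3), (3, 1), (1, 2)]), ([(16, 1)], [(17, 2), (9, 2), (7, 2), (5, 1), (4, 3), (3, 1), (0, 4), (1, 4)]), ([(18, 1)], [(17, 2), (9, 2), (7, 2), (5, 1), (4, 3), (3, 1), (0, 4), (1, 4)]), ([(20, 1)], [(17, 2), (9, 3), (7, 3), (5, 1), (4, 4), (3, 4), (0, 3), (1, 4)]), ([(22, 1)], [(17, 2), (9, 3), (7, 3), (5, 1), (4, 4), (3, 4), (0, 3), (1, 4)])]]⟩]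

/-- their moves -/
def ops5_3_moves : List (List (List Nat)) := [
  []]

/-- the certificate -/
def ops5_3_tree : Tree := .node 0 []

theorem ops5_3_listed : (ops5_3.zip ops5_3_moves).all (fun e => e.1.listed e.2) = true := by decide +kernel

theorem ops5_3_tree_ok : treeOK 5 64 ops5_3_moves ops5_3_tree [] = true := by decide +kernel

/-- generators -/
def ops3_3m_gens : List Gen := [.sgn 4278255360, .sgn 4294901760, .swp 8 16711935, .swp 16 65535, .unit1, .unit2]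

/-- the models -/
def ops3_3m : List Model := [
  ⟨3, 6, 8, ops3_3m_gens, 2101280, 35655952, [[], [([(3, 1), (1, 1)], [(2, 1), (0, 1)]), ([(0, 1)], [(3, 2), (2, 2), (0, 1), (1, 2)]), ([(2, 1)], [(2, 1), (3, 2), (0, 2), (1, 2)])], [([(6, 1), (0, 1)], [(2, 2), (0, 1)]), ([(4, 1), (0, 1)], [(3, 1), (2, 1), (1, 1)]), ([(2, 1), (0, 2)], [(2, 1), (3, 2), (0, 1), (1, 2)]), ([(3, 1), (0, 1), (1, 1)], [(3, 2), (0, 2), (1, 2)]), ([(7, 1), (5, 1), (0, 2)], [(3, 1), (2, 2), (0, 2), (1, 1)])], [([(4, 1)], [(8, 1), (2, 2)]), ([(14, 1)], [(8, 2), (2, 2)]), ([(8, 1)], [(8, 2), (3, 2), (1, 2)]), ([(9, 1)], [(9, 1), (2, 2), (0, 2)]), ([(10, 1)], [(8, 2), (2, 1), (0, 1)]), ([(13, 1)], [(13, 2), (3, 2), (1, 2)]), ([(0, 1)], [(8, 1), (3, 2), (0, 1), (1, 2)]), ([(1, 1)], [(8, 1), (2, 1), (3, 2), (0, 1)]), ([(6,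 1)], [(8, 2), (2, 1), (3, 2), (1, 2)]), ([(2, 1)], [(8, 2), (2, 2), (3, 1), (0, 1), (1, 1)]), ([(3, 1)], [(8, 2), (3, 2), (2, 2), (0, 2), (1, 1)]), ([(5, 1)], [(8, 1), (5, 2), (3, 2), (0, 2), (1, 2)]), ([(12, 1)], [(8, 2), (2, 1), (3, 2), (0, 2), (1, 2)]), ([(7, 1)], [(8, 2), (5, 1), (3, 1), (2, 1), (0, 2), (1, 1)]), ([(11, 1)], [(8, 2), (9, 2), (2, 1), (3, 1), (0, 2), (1, 1)]), ([(15, 1)], [(13, 1), (8, 2), (2, 2), (3, 2), (0, 2), (1, 2)])], [([(23, 1)], [(13, 1), (5, 1), (3, 1)]), ([(14, 1)], [(13, 1), (9, 1), (2, 1), (1, 2)]), ([(18, 1)], [(13, 2), (8, 2), (5, 1), (3, 1)]), ([(0, 1)], [(13, 2), (8, 2), (5, 2), (2, 1), (3, 1)]), ([(3, 1)], [(9, 1), (5, 1), (2, 1), (1, 1), (0, 2)]), ([(7, 1)], [(13, 1), (5, 1), (2, 1), (1, 1), (0, 2)]), ([(9, 1)], [(13, 2), (9, 2), (3, 1), (2, 2), (1, 2)]),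 ([(12, 1)], [(13, 2), (9, 2), (2, 1), (3, 1), (0, 1)]), ([(17, 1)], [(8, 2), (9, 2), (5, 2), (0, 1), (1, 1)]), ([(19, 1)], [(9, 2), (5, 1), (2, 1), (0, 1), (1, 2)]), ([(25, 1)], [(13, 2), (8, 1), (9, 1), (0, 2), (1, 2)]), ([(30, 1)], [(13, 1), (8, 2), (9, 2), (3, 2), (0, 1)]), ([(1, 1)], [(8, 1), (9, 1), (5, 2), (2, 1), (1, 2), (0, 2)]), ([(2, 1)], [(13, 2), (8, 2), (5, 1), (2, 1), (1, 1), (0, 2)]), ([(4, 1)], [(9, 2), (8, 1), (5, 2), (2, 2), (3, 2), (1, 1)]), ([(5, 1)], [(13, 1), (8, 2), (5, 2), (3, 2), (1, 1), (0, 2)]), ([(11, 1)], [(13, 1), (9, 1), (2, 2), (3, 1), (0, 2), (1, 2)]), ([(13, 1)], [(13, 2), (9, 2), (5, 1), (3, 2), (0, 1), (1, 2)]), ([(16, 1)], [(13, 2), (8, 2), (5, 2), (2, 2), (0, 2), (1, 1)]), ([(20, 1)], [(9, 1), (8, 2), (5, 2), (3, 1), (2, 2), (1, 2)]), ([(22, 1)], [(9,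 1), (8, 2), (5, 1), (3, 2), (0, 1), (1, 1)]), ([(26, 1)], [(13, 1), (8, 2), (9, 2), (5, 2), (3, 1), (1, 1)]), ([(27, 1)], [(13, 1), (8, 2), (9, 2), (2, 2), (3, 1), (0, 2)]), ([(28, 1)], [(13, 2), (8, 1), (9, 1), (2, 1), (1, 1), (0, 1)]), ([(6, 1)], [(9, 2), (8, 1), (5, 1), (2, 2), (3, 1), (1, 2), (0, 2)]), ([(8, 1)], [(13, 2), (9, 2), (5, 2), (2, 2), (3, 2), (1, 2), (0, 2)]), ([(10, 1)], [(13, 1), (9, 1), (5, 2), (2, 2), (3, 1), (1, 1), (0, 1)]), ([(15, 1)], [(13, 1), (9, 1), (5, 1), (2, 2), (3, 1), (0, 2), (1, 1)]), ([(21, 1)], [(13, 1), (8, 2), (5, 2), (2, 1), (3, 1), (0, 1), (1, 2)]), ([(24, 1)], [(13, 2), (8, 1), (9, 1), (5, 2), (2, 1), (3, 2), (1, 2)]), ([(31, 1)], [(13, 1), (8, 2), (9, 2), (5, 1), (3, 1), (0, 1), (1, 1)]), ([(29, 1)], [(13, 2), (8, 1), (9, 1), (5, 1), (3, 2), (2, 2),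 (0, 2), (1, 2)])], [([(5, 1)], [(13, 2), (3, 2)]), ([(11, 1)], [(13, 2), (3, 1)]), ([(25, 1)], [(13, 1), (3, 1), (1, 2)]), ([(55, 1)], [(13, 1), (5, 2), (3, 1)]), ([(1, 1)], [(9, 2), (5, 1), (2, 1), (0, 1)]), ([(15, 1)], [(9, 2), (5, 2), (2, 2), (0, 2)]), ([(16, 1)], [(13, 1), (5, 1), (2, 1), (3, 1)]), ([(28, 1)], [(13, 1), (9, 2), (3, 1), (2, 1)]), ([(29, 1)], [(9, 2), (5, 2), (2, 1), (0, 1)]), ([(33, 1)], [(9, 1), (5, 2), (3, 2), (0, 1)]), ([(37, 1)], [(13, 1), (5, 1), (3, 1), (2, 2)]), ([(2, 1)], [(13, 1), (8, 1), (5, 2), (0, 1), (1, 2)]), ([(6, 1)], [(9, 1), (8, 2), (5, 2), (0, 2), (1, 2)]), ([(9, 1)], [(13, 1), (8, 2), (3, 1), (2, 2), (0, 2)]), ([(10, 1)], [(13, 2), (8, 1), (9, 2), (5, 1), (0, 1)]), ([(14, 1)], [(13, 2), (8, 2), (9, 2), (0, 2), (1, 1)]), ([(20, 1)], [(9, 2), (5, 1),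 (2, 2), (3, 2), (1, 1)]), ([(21, 1)], [(13, 2), (8, 2), (2, 2), (3, 1), (0, 2)]), ([(23, 1)], [(13, 2), (8, 2), (2, 2), (0, 2), (1, 1)]), ([(27, 1)], [(13, 2), (8, 1), (2, 1), (0, 1), (1, 1)]), ([(36, 1)], [(9, 2), (8, 1), (5, 2), (0, 2), (1, 2)]), ([(38, 1)], [(9, 2), (8, 1), (5, 1), (3, 2), (2, 1)]), ([(41, 1)], [(13, 2), (8, 2), (9, 1), (3, 2), (0, 2)]), ([(44, 1)], [(13, 2), (8, 2), (9, 2), (0, 1), (1, 2)]), ([(50, 1)], [(13, 2), (5, 1), (2, 1), (0, 2), (1, 2)]), ([(51, 1)], [(9, 2), (5, 1), (2, 1), (0, 1), (1, 1)]), ([(52, 1)], [(8, 1), (9, 1), (5, 2), (3, 1), (1, 2)]), ([(53, 1)], [(13, 1), (8, 2), (5, 1), (3, 1), (1, 2)]), ([(54, 1)], [(9, 1), (5, 1), (2, 2), (0, 1), (1, 2)]), ([(56, 1)], [(13, 2), (8, 2), (9, 1), (5, 2), (2, 1)]), ([(62, 1)], [(13, 1), (9, 2), (2, 1), (3, 2), (0,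 1)]), ([(0, 1)], [(13, 1), (8, 1), (5, 1), (2, 2), (3, 2), (0, 1)]), ([(3, 1)], [(8, 2), (9, 2), (5, 2), (3, 1), (0, 1), (1, 1)]), ([(4, 1)], [(9, 1), (8, 2), (5, 1), (2, 2), (3, 2), (0, 2)]), ([(7, 1)], [(13, 2), (8, 1), (3, 2), (2, 1), (0, 1), (1, 1)]), ([(13, 1)], [(8, 1), (9, 1), (5, 2), (3, 2), (1, 2), (0, 2)]), ([(17, 1)], [(9, 1), (8, 2), (5, 1), (3, 1), (0, 1), (1, 1)]), ([(19, 1)], [(9, 1), (8, 2), (5, 2), (3, 1), (2, 2), (1, 1)]), ([(22, 1)], [(8, 2), (9, 2), (5, 2), (2, 2), (3, 2), (0, 2)]), ([(24, 1)], [(13, 1), (9, 2), (5, 1), (3, 2), (2, 2), (1, 2)]), ([(30, 1)], [(13, 2), (8, 2), (9, 1), (3, 1), (2, 1), (0, 2)]), ([(31, 1)], [(8, 1), (9, 1), (5, 2), (2, 1), (3, 2), (1, 2)]), ([(32, 1)], [(13, 2), (8, 2), (5, 2), (2, 1), (3, 1), (0, 1)]), ([(34, 1)], [(13, 2), (8, 2), (5, 1),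 (2, 2), (0, 2), (1, 1)]), ([(35, 1)], [(8, 1), (9, 1), (5, 1), (2, 2), (3, 2), (1, 1)]), ([(39, 1)], [(13, 1), (8, 2), (5, 2), (2, 1), (3, 1), (1, 2)]), ([(43, 1)], [(13, 1), (9, 2), (3, 1), (2, 1), (0, 1), (1, 2)]), ([(45, 1)], [(13, 1), (8, 1), (9, 2), (5, 1), (2, 1), (0, 2)]), ([(46, 1)], [(13, 1), (8, 2), (9, 1), (2, 2), (0, 2), (1, 2)]), ([(49, 1)], [(8, 2), (9, 2), (5, 2), (3, 2), (0, 1), (1, 1)]), ([(57, 1)], [(13, 2), (8, 2), (9, 2), (3, 2), (0, 1), (1, 1)]), ([(59, 1)], [(13, 1), (8, 2), (9, 1), (2, 2), (3, 1), (0, 2)]), ([(60, 1)], [(13, 2), (8, 2), (9, 1), (3, 1), (1, 2), (0, 2)]), ([(61, 1)], [(13, 1), (8, 2), (9, 1), (5, 1), (3, 1), (1, 1)]), ([(12, 1)], [(13, 1), (8, 2), (9, 1), (2, 1), (3, 1), (0, 2), (1, 2)]), ([(18, 1)], [(13, 1), (8, 2), (5, 2), (2, 1), (3, 1), (0, 2),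 (1, 2)]), ([(42, 1)], [(13, 1), (8, 1), (9, 1), (5, 2), (3, 2), (2, 1), (1, 2)]), ([(47, 1)], [(13, 2), (9, 1), (5, 1), (3, 2), (2, 2), (0, 2), (1, 2)]), ([(48, 1)], [(13, 2), (8, 1), (5, 2), (2, 2), (3, 1), (0, 1), (1, 2)]), ([(58, 1)], [(13, 1), (9, 2), (5, 2), (2, 2), (3, 1), (1, 1), (0, 2)]), ([(63, 1)], [(13, 2), (8, 2), (9, 2), (5, 1), (3, 1), (0, 1), (1, 1)]), ([(8, 1)], [(13, 1), (8, 1), (9, 1), (5, 1), (2, 1), (3, 1), (0, 1), (1, 1)]), ([(26, 1)], [(13, 2), (8, 2), (9, 1), (5, 1), (3, 2), (2, 2), (1, 2), (0, 2)]), ([(40, 1)], [(13, 2), (8, 1), (9, 2), (5, 2), (2, 2), (3, 2), (0, 2), (1, 2)])]]⟩,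
  ⟨3, 6, 8, ops3_3m_gens, 570561041, 571613473, [[], [([(2, 1), (0, 2)], [(3, 1), (1, 2)]), ([(3, 1), (1, 2)], [(2, 1), (0, 2)])], [([(5, 1), (1, 1)], [(5, 2), (1, 2)]), ([(2, 1), (0, 2)], [(4, 1), (2, 1), (0, 1), (1, 1)]), ([(4, 1), (0, 2), (1, 1)], [(4, 2), (0, 1), (1, 2)]), ([(3, 1), (1, 2)], [(5, 2), (4, 1), (3, 1), (0, 2), (1, 2)]), ([(6, 1), (0, 2), (1, 1)], [(5, 1), (4, 1), (3, 2), (0, 2)]), ([(7, 1), (1, 1)], [(4, 2), (5, 2), (2, 2), (0, 2), (1, 1)])], [([(0, 1)], [(8, 1), (4, 1), (2, 1)]), ([(8, 1)], [(8, 2), (9, 2), (2, 2), (0, 2)]), ([(15, 1)], [(9, 1), (5, 1), (3, 1), (2, 1)]), ([(4, 1)], [(8, 2), (9, 1), (4, 1), (3, 1), (1, 1)]), ([(9, 1)], [(9, 1), (2, 2), (3, 1), (0, 2), (1, 1)]), ([(12, 1)], [(8, 1), (9, 1), (5, 1), (3, 2), (0, 2)]), ([(13, 1)], [(9, 1), (4, 2), (2, 1), (3,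 2), (0, 2)]), ([(1, 1)], [(8, 1), (9, 2), (5, 1), (2, 1), (3, 2), (0, 2)]), ([(2, 1)], [(8, 2), (4, 2), (2, 1), (3, 2), (0, 2), (1, 2)]), ([(7, 1)], [(8, 1), (4, 1), (5, 2), (2, 2), (3, 2), (1, 2)]), ([(11, 1)], [(9, 1), (5, 1), (4, 2), (3, 1), (2, 1), (0, 2)]), ([(3, 1)], [(8, 2), (9, 1), (5, 2), (2, 2), (3, 2), (0, 1), (1, 1)]), ([(5, 1)], [(8, 2), (4, 2), (5, 2), (3, 1), (2, 2), (0, 2), (1, 1)]), ([(6, 1)], [(8, 1), (9, 2), (4, 1), (5, 2), (2, 2), (3, 1), (0, 1)]), ([(10, 1)], [(8, 2), (9, 2), (4, 2), (5, 2), (3, 1), (2, 2), (0, 1)]), ([(14, 1)], [(8, 1), (9, 1), (4, 1), (3, 2), (2, 1), (0, 2), (1, 1)])], [([(16, 1)], [(4, 1), (5, 1), (0, 1)]), ([(17, 1)], [(5, 2), (4, 1), (1, 1)]), ([(20, 1)], [(4, 2), (1, 2), (0, 2)]), ([(21, 1)], [(5, 2), (0, 2), (1, 1)]), ([(22, 1)], [(4, 2), (2,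 2), (1, 2)]), ([(23, 1)], [(5, 2), (3, 1), (0, 2)]), ([(30, 1)], [(8, 1), (2, 1), (0, 2)]), ([(8, 1)], [(9, 2), (5, 2), (4, 1), (3, 2)]), ([(10, 1)], [(9, 2), (3, 2), (2, 2), (1, 2)]), ([(12, 1)], [(9, 1), (5, 1), (2, 1), (1, 1)]), ([(28, 1)], [(8, 1), (4, 2), (0, 1), (1, 2)]), ([(29, 1)], [(8, 2), (9, 2), (5, 2), (1, 2)]), ([(1, 1)], [(8, 2), (5, 1), (4, 1), (2, 1), (3, 1)]), ([(6, 1)], [(8, 2), (5, 1), (2, 2), (3, 2), (0, 1)]), ([(7, 1)], [(8, 1), (9, 2), (3, 2), (2, 1), (0, 1)]), ([(18, 1)], [(4, 1), (5, 1), (3, 2), (1, 1), (0, 1)]), ([(19, 1)], [(5, 2), (4, 1), (2, 1), (0, 2), (1, 1)]), ([(25, 1)], [(8, 1), (9, 1), (4, 1), (5, 2), (0, 2)]), ([(31, 1)], [(8, 2), (9, 2), (4, 2), (3, 2), (0, 1)]), ([(3, 1)], [(8, 1), (5, 1), (3, 2), (2, 1), (0, 1), (1, 1)]), ([(4, 1)], [(8, 1), (4, 2),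 (5, 1), (2, 2), (0, 2), (1, 1)]), ([(5, 1)], [(8, 2), (9, 1), (5, 1), (2, 2), (3, 2), (1, 1)]), ([(11, 1)], [(8, 2), (9, 2), (3, 1), (2, 2), (0, 2), (1, 2)]), ([(14, 1)], [(9, 1), (4, 2), (3, 1), (2, 1), (0, 2), (1, 1)]), ([(15, 1)], [(8, 2), (9, 2), (5, 2), (3, 1), (2, 2), (0, 2)]), ([(24, 1)], [(8, 2), (9, 1), (5, 1), (4, 1), (0, 2), (1, 2)]), ([(26, 1)], [(8, 2), (9, 1), (4, 2), (3, 1), (0, 1), (1, 1)]), ([(27, 1)], [(8, 1), (9, 1), (5, 2), (2, 2), (0, 1), (1, 2)]), ([(0, 1)], [(8, 1), (9, 2), (4, 2), (5, 1), (3, 1), (0, 1), (1, 1)]), ([(2, 1)], [(8, 2), (9, 1), (4, 2), (5, 2), (2, 1), (3, 1), (1, 2)]), ([(13, 1)], [(8, 2), (9, 2), (4, 2), (2, 1), (3, 1), (0, 2), (1, 2)]), ([(9, 1)], [(8, 2), (9, 2), (4, 2), (5, 2), (2, 2), (3, 2), (0, 1), (1, 2)])], [([(32, 1)], [(8, 1), (2, 1)]), ([(42,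 1)], [(8, 1), (2, 2)]), ([(30, 1)], [(8, 2), (2, 2), (0, 2)]), ([(52, 1)], [(8, 1), (4, 2), (2, 1)]), ([(0, 1)], [(8, 1), (5, 2), (2, 2), (1, 1)]), ([(7, 1)], [(8, 1), (4, 1), (2, 1), (1, 2)]), ([(15, 1)], [(8, 2), (9, 1), (2, 2), (0, 2)]), ([(22, 1)], [(8, 1), (4, 1), (2, 1), (1, 1)]), ([(40, 1)], [(8, 1), (4, 2), (2, 2), (1, 2)]), ([(45, 1)], [(8, 2), (4, 1), (2, 1), (3, 1)]), ([(46, 1)], [(8, 1), (9, 2), (3, 1), (0, 2)]), ([(47, 1)], [(8, 2), (2, 1), (3, 1), (1, 2)]), ([(51, 1)], [(8, 1), (5, 2), (4, 2), (2, 2)]), ([(54, 1)], [(8, 2), (2, 1), (3, 1), (0, 2)]), ([(56, 1)], [(9, 1), (5, 1), (3, 2), (0, 2)]), ([(6, 1)], [(8, 2), (9, 1), (5, 2), (2, 2), (3, 1)]), ([(9, 1)], [(8, 2), (4, 1), (5, 2), (2, 1), (3, 1)]), ([(11, 1)], [(8, 2), (5, 1), (3, 1), (1, 2), (0, 1)]), ([(16, 1)], [(8, 1),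 (9, 2), (4, 1), (5, 1), (3, 1)]), ([(17, 1)], [(8, 1), (5, 2), (4, 2), (2, 2), (3, 1)]), ([(20, 1)], [(8, 2), (4, 2), (2, 1), (0, 2), (1, 2)]), ([(25, 1)], [(8, 1), (4, 2), (3, 2), (2, 1), (0, 1)]), ([(26, 1)], [(8, 1), (9, 2), (3, 2), (0, 2), (1, 2)]), ([(27, 1)], [(8, 1), (3, 2), (2, 1), (0, 1), (1, 1)]), ([(28, 1)], [(8, 2), (4, 1), (2, 2), (0, 2), (1, 1)]), ([(34, 1)], [(8, 2), (4, 1), (2, 1), (1, 1), (0, 2)]), ([(41, 1)], [(8, 2), (9, 1), (5, 1), (2, 2), (3, 2)]), ([(43, 1)], [(8, 2), (9, 1), (2, 2), (3, 2), (0, 2)]), ([(44, 1)], [(8, 1), (9, 2), (5, 2), (3, 1), (0, 1)]), ([(49, 1)], [(8, 2), (5, 2), (3, 1), (2, 2), (0, 2)]), ([(55, 1)], [(8, 2), (9, 1), (3, 2), (0, 2), (1, 1)]), ([(58, 1)], [(9, 1), (4, 2), (3, 2), (2, 2), (1, 2)]), ([(59, 1)], [(8, 1), (9, 2), (5, 2), (2, 1), (1,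 2)]), ([(60, 1)], [(9, 1), (4, 1), (2, 2), (1, 1), (0, 1)]), ([(63, 1)], [(8, 2), (4, 1), (5, 2), (3, 1), (0, 1)]), ([(1, 1)], [(8, 2), (9, 1), (4, 2), (2, 2), (3, 2), (0, 1)]), ([(3, 1)], [(8, 1), (9, 2), (5, 2), (4, 2), (3, 2), (1, 2)]), ([(4, 1)], [(8, 1), (9, 2), (5, 1), (3, 1), (0, 2), (1, 2)]), ([(5, 1)], [(8, 2), (4, 2), (2, 1), (3, 1), (1, 2), (0, 2)]), ([(8, 1)], [(8, 2), (9, 2), (4, 1), (5, 2), (2, 1), (0, 2)]), ([(10, 1)], [(8, 2), (9, 2), (4, 1), (2, 1), (3, 2), (1, 2)]), ([(13, 1)], [(8, 2), (9, 1), (5, 1), (2, 2), (3, 2), (1, 2)]), ([(14, 1)], [(8, 2), (9, 2), (2, 1), (3, 2), (1, 2), (0, 1)]), ([(18, 1)], [(8, 2), (9, 1), (4, 1), (5, 2), (3, 1), (1, 1)]), ([(19, 1)], [(8, 2), (5, 2), (3, 1), (2, 2), (1, 1), (0, 2)]), ([(23, 1)], [(8, 1), (9, 2), (5, 1), (2, 1), (3, 2), (0,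 1)]), ([(24, 1)], [(8, 1), (9, 2), (5, 2), (3, 2), (0, 1), (1, 2)]), ([(29, 1)], [(8, 2), (9, 1), (5, 1), (3, 1), (2, 2), (1, 1)]), ([(31, 1)], [(8, 2), (9, 1), (3, 1), (2, 2), (0, 2), (1, 1)]), ([(36, 1)], [(8, 1), (9, 2), (4, 2), (3, 2), (1, 2), (0, 2)]), ([(38, 1)], [(8, 2), (9, 1), (4, 2), (5, 1), (3, 2), (0, 2)]), ([(39, 1)], [(8, 1), (4, 1), (5, 1), (2, 2), (3, 2), (0, 2)]), ([(48, 1)], [(8, 2), (9, 1), (4, 1), (3, 1), (0, 2), (1, 1)]), ([(53, 1)], [(8, 1), (9, 2), (5, 2), (3, 2), (2, 1), (0, 1)]), ([(57, 1)], [(8, 1), (9, 2), (3, 2), (2, 1), (1, 1), (0, 1)]), ([(61, 1)], [(8, 2), (5, 1), (3, 1), (2, 2), (1, 2), (0, 2)]), ([(62, 1)], [(9, 1), (4, 1), (5, 1), (3, 2), (2, 2), (0, 2)]), ([(2, 1)], [(8, 2), (4, 1), (5, 2), (3, 1), (2, 2), (0, 2), (1, 1)]), ([(12, 1)], [(8, 2), (9, 2),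 (4, 2), (5, 2), (3, 2), (1, 1), (0, 2)]), ([(21, 1)], [(8, 2), (9, 1), (5, 2), (2, 1), (3, 2), (1, 1), (0, 1)]), ([(33, 1)], [(8, 2), (9, 1), (4, 2), (2, 1), (3, 1), (0, 2), (1, 2)]), ([(37, 1)], [(8, 2), (4, 2), (5, 1), (2, 2), (3, 2), (0, 1), (1, 1)]), ([(50, 1)], [(8, 1), (9, 2), (4, 1), (5, 2), (2, 1), (3, 1), (0, 1)]), ([(35, 1)], [(8, 1), (9, 2), (5, 2), (4, 2), (2, 1), (3, 1), (0, 2), (1, 1)])]]⟩]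

/-- their moves -/
def ops3_3m_moves : List (List (List Nat)) := [
  [[0, 27, 37, 62, 30, 5, 59, 32, 53, 46, 16, 11, 43, 48, 14, 21, 10, 17, 47, 52, 20, 15, 49, 42, 63, 36, 26, 1, 33, 58, 4, 31, 7, 28, 34, 57, 25, 2, 60, 39, 50, 41, 23, 12, 44, 55, 9, 18, 13, 22, 40, 51, 19, 8, 54, 45, 56, 35, 29, 6, 38, 61, 3, 24]],
  [[0, 21, 26, 15, 39, 50, 61, 40, 43, 62, 49, 36, 12, 25, 22, 3, 51, 38, 41, 60, 20, 1, 14, 27, 24, 13, 2, 23, 63, 42, 37, 48, 44, 57, 54, 35, 11, 30, 17, 4, 7, 18, 29, 8, 32, 53, 58, 47, 31, 10, 5, 16, 56, 45, 34, 55, 52, 33, 46, 59, 19, 6, 9, 28]]]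

/-- the certificate -/
def ops3_3m_tree : Tree := .node 0 [.node 1 [.bad [0, 1] 2]]

theorem ops3_3m_listed : (ops3_3m.zip ops3_3m_moves).all (fun e => e.1.listed e.2) = true := by decide +kernel

theorem ops3_3m_tree_ok : treeOK 3 64 ops3_3m_moves ops3_3m_tree [] = true := by decide +kernel

/-- generators -/
def ops3_3p_gens : List Gen := [.sgn 4042322160, .sgn 4278255360, .sgn 4294901760, .swp 4 252645135, .swp 8 16711935, .swp 16 65535]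

/-- the models -/
def ops3_3p : List Model := [
  ⟨3, 6, 8, ops3_3p_gens, 287445536, 538972160, [[([(1, 1)], [(1, 1)])], [([(3, 1), (1, 1)], [])], [([(4, 1), (0, 1)], [(6, 1), (5, 2), (2, 1), (1, 2)]), ([(1, 1)], [(6, 2), (5, 2), (4, 1), (2, 1), (1, 2), (0, 2)]), ([(2, 1), (0, 2)], [(6, 1), (4, 2), (2, 1), (0, 2), (1, 2)]), ([(3, 1)], [(6, 1), (5, 1), (4, 2), (2, 2), (1, 1), (0, 1)]), ([(5, 1)], [(6, 1), (4, 2), (5, 2), (2, 2), (1, 2), (0, 1)]), ([(7, 1)], [(6, 2), (4, 1), (5, 1), (2, 1), (1, 1), (0, 2)]), ([(6, 1), (0, 1)], [(6, 2), (4, 2), (5, 1), (2, 2), (0, 2), (1, 2)])], [([(1, 1)], [(6, 1), (4, 1)]), ([(2, 1), (0, 1)], [(5, 1)]), ([(3, 1)], [(6, 2), (4, 2)]), ([(5, 1)], [(2, 1), (0, 1)]), ([(7, 1)], [(2, 2), (0, 2)]), ([(8, 1), (0, 2)], [(8, 2), (0, 1)]), ([(12, 1), (0, 2)], [(8,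 2), (4, 1)]), ([(9, 1)], [(8, 1), (4, 1), (0, 1), (1, 2)]), ([(11, 1)], [(8, 2), (4, 2), (0, 2), (1, 1)]), ([(6, 1), (0, 1)], [(8, 2), (6, 1), (5, 2), (2, 1)]), ([(4, 1), (0, 2)], [(8, 1), (6, 2), (5, 1), (2, 2), (1, 1)]), ([(13, 1)], [(8, 2), (6, 2), (4, 1), (2, 2), (0, 1), (1, 1)]), ([(15, 1)], [(8, 1), (6, 1), (4, 2), (2, 1), (0, 2), (1, 2)]), ([(10, 1), (0, 1)], [(8, 1), (6, 2), (4, 1), (5, 1), (2, 1), (1, 1), (0, 1)]), ([(14, 1), (0, 1)], [(8, 1), (6, 1), (4, 1), (5, 1), (2, 2), (1, 1), (0, 1)])], [([(0, 1)], [(16, 2), (5, 1), (2, 2)]), ([(1, 1)], [(6, 1), (4, 2), (1, 1)]), ([(2, 1)], [(16, 2), (5, 1), (0, 2)]), ([(3, 1)], [(6, 2), (4, 1), (1, 2)]), ([(5, 1)], [(5, 2), (2, 2), (0, 1)]), ([(7, 1)], [(5, 1), (2, 1), (0, 2)]), ([(14, 1)], [(16, 1), (6, 1), (0, 2)]), ([(18, 1)], [(16, 2),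 (2, 2), (0, 1)]), ([(9, 1)], [(5, 2), (2, 1), (0, 2), (1, 1)]), ([(11, 1)], [(5, 1), (2, 2), (0, 1), (1, 2)]), ([(12, 1)], [(16, 1), (4, 1), (5, 1), (2, 2)]), ([(13, 1)], [(6, 2), (5, 2), (4, 1), (1, 1)]), ([(15, 1)], [(6, 1), (5, 1), (4, 2), (1, 2)]), ([(16, 1)], [(16, 1), (5, 1), (2, 2), (0, 1)]), ([(21, 1)], [(16, 2), (5, 1), (2, 1), (0, 1)]), ([(23, 1)], [(16, 1), (5, 2), (2, 2), (0, 2)]), ([(24, 1)], [(16, 1), (8, 1), (5, 1), (2, 2)]), ([(28, 1)], [(16, 2), (8, 2), (6, 1), (1, 2)]), ([(8, 1)], [(16, 2), (8, 1), (5, 1), (2, 2), (0, 2)]), ([(20, 1)], [(16, 2), (8, 1), (5, 1), (4, 2), (2, 2)]), ([(4, 1)], [(16, 1), (8, 2), (6, 2), (5, 2), (2, 1), (1, 1)]), ([(17, 1)], [(16, 1), (8, 2), (4, 2), (5, 2), (2, 1), (1, 1)]), ([(19, 1)], [(16, 2), (8, 1), (4, 1), (5, 1), (2, 2), (1, 2)]), ([(25,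 1)], [(16, 1), (6, 2), (4, 2), (5, 2), (2, 1), (0, 1)]), ([(26, 1)], [(16, 2), (8, 2), (6, 1), (4, 2), (2, 1), (1, 2)]), ([(27, 1)], [(16, 2), (6, 1), (4, 1), (5, 1), (2, 2), (0, 2)]), ([(30, 1)], [(16, 1), (8, 1), (6, 2), (5, 1), (2, 2), (0, 1)]), ([(6, 1)], [(16, 1), (8, 2), (6, 1), (4, 1), (5, 2), (2, 1), (1, 1)]), ([(10, 1)], [(16, 2), (8, 1), (6, 2), (4, 1), (5, 1), (2, 1), (1, 1)]), ([(22, 1)], [(16, 1), (8, 2), (6, 2), (5, 2), (4, 2), (2, 1), (1, 2)]), ([(29, 1)], [(16, 2), (8, 1), (6, 1), (4, 2), (5, 1), (0, 1), (1, 2)]), ([(31, 1)], [(16, 1), (8, 2), (6, 2), (4, 1), (5, 2), (0, 2), (1, 1)])], [([(33, 1)], [(2, 2), (0, 1), (1, 2)]), ([(35, 1)], [(2, 1), (0, 2), (1, 1)]), ([(36, 1)], [(16, 2), (4, 2), (5, 1)]), ([(37, 1)], [(6, 1), (5, 1), (4, 2)]), ([(38, 1)], [(16, 2), (6, 2), (5,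 1)]), ([(39, 1)], [(6, 2), (5, 2), (4, 1)]), ([(44, 1)], [(16, 1), (4, 2), (2, 1)]), ([(48, 1)], [(16, 1), (6, 1), (4, 2)]), ([(9, 1)], [(6, 1), (5, 1), (4, 2), (1, 1)]), ([(11, 1)], [(6, 2), (5, 2), (4, 1), (1, 2)]), ([(13, 1)], [(5, 1), (2, 1), (0, 2), (1, 1)]), ([(15, 1)], [(5, 2), (2, 2), (0, 1), (1, 2)]), ([(41, 1)], [(5, 1), (2, 1), (0, 2), (1, 2)]), ([(43, 1)], [(5, 2), (2, 2), (0, 1), (1, 1)]), ([(45, 1)], [(6, 2), (4, 1), (5, 1), (1, 2)]), ([(46, 1)], [(16, 1), (6, 2), (5, 1), (0, 1)]), ([(47, 1)], [(6, 1), (4, 2), (5, 2), (1, 1)]), ([(49, 1)], [(16, 2), (6, 1), (4, 1), (5, 1)]), ([(50, 1)], [(16, 2), (6, 1), (4, 2), (5, 2)]), ([(51, 1)], [(16, 1), (6, 2), (4, 2), (5, 2)]), ([(58, 1)], [(16, 1), (8, 1), (2, 2), (1, 1)]), ([(62, 1)], [(16, 2), (8, 2), (6, 1), (5, 2)]), ([(1, 1)],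 [(6, 1), (4, 2), (2, 1), (0, 2), (1, 1)]), ([(3, 1)], [(6, 2), (4, 1), (2, 2), (0, 1), (1, 2)]), ([(5, 1)], [(6, 1), (5, 1), (4, 2), (2, 1), (0, 2)]), ([(7, 1)], [(6, 2), (5, 2), (4, 1), (2, 2), (0, 1)]), ([(8, 1)], [(16, 1), (6, 1), (5, 2), (2, 1), (1, 1)]), ([(10, 1)], [(16, 1), (4, 1), (5, 2), (0, 1), (1, 2)]), ([(12, 1)], [(16, 1), (8, 2), (6, 2), (2, 2), (1, 1)]), ([(18, 1)], [(16, 1), (6, 1), (4, 2), (2, 1), (0, 2)]), ([(20, 1)], [(16, 2), (8, 1), (5, 1), (4, 2), (0, 2)]), ([(24, 1)], [(16, 1), (8, 1), (6, 1), (4, 2), (0, 2)]), ([(28, 1)], [(16, 1), (8, 1), (4, 2), (2, 1), (0, 2)]), ([(42, 1)], [(16, 2), (8, 1), (6, 2), (4, 2), (5, 1)]), ([(54, 1)], [(16, 1), (8, 2), (6, 1), (5, 2), (0, 1)]), ([(0, 1)], [(16, 2), (8, 2), (6, 1), (5, 1), (2, 2), (1, 1)]), ([(4, 1)], [(16, 2), (8, 2),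 (6, 2), (5, 1), (2, 1), (1, 1)]), ([(16, 1)], [(16, 2), (6, 1), (4, 2), (5, 2), (2, 1), (0, 2)]), ([(17, 1)], [(16, 2), (8, 2), (4, 2), (5, 1), (2, 1), (1, 1)]), ([(19, 1)], [(16, 1), (8, 1), (4, 1), (5, 2), (2, 2), (1, 2)]), ([(21, 1)], [(16, 2), (8, 2), (6, 1), (5, 1), (0, 2), (1, 1)]), ([(23, 1)], [(16, 1), (8, 1), (6, 2), (5, 2), (0, 1), (1, 2)]), ([(25, 1)], [(16, 1), (8, 2), (4, 2), (5, 2), (0, 2), (1, 1)]), ([(27, 1)], [(16, 2), (8, 1), (4, 1), (5, 1), (0, 1), (1, 2)]), ([(29, 1)], [(16, 1), (6, 2), (4, 2), (5, 2), (2, 2), (0, 2)]), ([(31, 1)], [(16, 2), (6, 1), (4, 1), (5, 1), (2, 1), (0, 1)]), ([(34, 1)], [(16, 1), (8, 2), (6, 1), (5, 2), (2, 2), (1, 1)]), ([(53, 1)], [(16, 1), (8, 2), (6, 1), (5, 2), (0, 2), (1, 1)]), ([(55, 1)], [(16, 2), (8, 1), (6, 2), (5, 1), (0, 1), (1, 2)]),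 ([(56, 1)], [(16, 2), (8, 2), (6, 1), (4, 2), (5, 2), (2, 1)]), ([(57, 1)], [(16, 1), (6, 1), (4, 1), (5, 2), (2, 2), (0, 2)]), ([(59, 1)], [(16, 2), (6, 2), (4, 2), (5, 1), (2, 1), (0, 1)]), ([(60, 1)], [(16, 1), (8, 1), (6, 2), (2, 2), (0, 1), (1, 1)]), ([(2, 1)], [(16, 2), (8, 2), (6, 1), (5, 1), (2, 1), (0, 1), (1, 1)]), ([(6, 1)], [(16, 2), (8, 2), (6, 1), (4, 1), (5, 1), (2, 1), (1, 1)]), ([(32, 1)], [(16, 1), (8, 2), (6, 1), (5, 2), (2, 1), (0, 1), (1, 1)]), ([(40, 1)], [(16, 2), (8, 1), (6, 1), (5, 1), (2, 2), (0, 1), (1, 1)]), ([(52, 1)], [(16, 2), (8, 1), (6, 2), (5, 1), (2, 1), (0, 1), (1, 1)]), ([(61, 1)], [(16, 2), (8, 1), (4, 1), (5, 1), (2, 1), (0, 2), (1, 2)]), ([(63, 1)], [(16, 1), (8, 2), (4, 2), (5, 2), (2, 2), (0, 1), (1, 1)]), ([(14, 1)], [(16, 1), (8, 2), (6, 1), (4,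 1), (5, 1), (2, 1), (0, 1), (1, 1)]), ([(22, 1)], [(16, 1), (8, 2), (6, 2), (5, 2), (4, 2), (2, 2), (0, 2), (1, 2)]), ([(26, 1)], [(16, 2), (8, 2), (6, 2), (5, 2), (4, 1), (2, 2), (0, 2), (1, 2)]), ([(30, 1)], [(16, 2), (8, 2), (6, 2), (4, 2), (5, 2), (2, 2), (0, 1), (1, 2)])]]⟩,
  ⟨3, 6, 8, ops3_3p_gens, 16842769, 538976258, [[], [([(2, 1), (0, 2)], [(2, 2), (0, 1)]), ([(3, 1), (1, 1)], [(3, 2), (1, 2)])], [([(0, 1)], [(3, 1), (2, 1), (1, 1)]), ([(2, 1)], [(3, 1), (0, 1), (1, 1)]), ([(3, 1), (1, 1)], [(3, 2), (1, 2)]), ([(6, 1)], [(4, 1), (3, 1), (1, 1)]), ([(7, 1), (1, 2)], [(5, 2), (3, 1)]), ([(5, 1), (1, 1)], [(5, 1), (3, 1), (1, 2)]), ([(4, 1)], [(4, 1), (3, 1), (2, 1), (0, 2), (1, 1)])], [([(3, 1), (1, 1)], [(2, 2), (0, 1)]), ([(15, 1), (1, 2)], [(4, 1), (0, 2)]), ([(2, 1)], [(9, 1),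 (2, 2), (3, 1), (0, 1)]), ([(8, 1)], [(9, 2), (3, 2), (2, 2), (0, 1)]), ([(11, 1), (1, 1)], [(3, 1), (1, 1), (0, 2)]), ([(13, 1), (1, 1)], [(4, 2), (2, 2), (0, 2)]), ([(0, 1)], [(9, 1), (3, 2), (2, 2), (0, 1), (1, 1)]), ([(4, 1)], [(9, 2), (5, 1), (3, 1), (2, 2), (0, 1)]), ([(5, 1), (1, 1)], [(4, 1), (3, 1), (1, 1), (0, 1)]), ([(6, 1)], [(9, 2), (5, 1), (2, 2), (0, 1), (1, 2)]), ([(7, 1), (1, 2)], [(4, 2), (2, 2), (3, 2), (1, 2)]), ([(9, 1), (1, 2)], [(2, 2), (3, 2), (1, 2), (0, 2)]), ([(10, 1)], [(9, 2), (2, 2), (3, 1), (0, 1), (1, 2)]), ([(12, 1)], [(9, 1), (5, 2), (2, 2), (0, 1), (1, 1)]), ([(14, 1)], [(9, 1), (5, 2), (2, 2), (3, 2), (0, 1)])], [([(16, 1)], [(17, 1), (0, 1), (1, 1)]), ([(18, 1)], [(17, 2), (3, 2), (0, 2)]), ([(22, 1)], [(17, 2), (5, 2), (0, 2)]), ([(24, 1)], [(17, 1),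 (9, 1), (0, 1)]), ([(3, 1)], [(17, 2), (9, 1), (2, 2), (3, 1)]), ([(10, 1)], [(17, 1), (9, 1), (2, 2), (1, 1)]), ([(17, 1)], [(9, 1), (3, 2), (2, 2), (0, 2)]), ([(19, 1)], [(9, 1), (2, 1), (3, 2), (0, 1)]), ([(27, 1)], [(9, 1), (2, 2), (0, 2), (1, 1)]), ([(0, 1)], [(17, 1), (9, 2), (2, 1), (3, 1), (0, 2)]), ([(2, 1)], [(17, 1), (9, 1), (2, 1), (3, 2), (0, 2)]), ([(5, 1)], [(17, 2), (9, 2), (5, 1), (2, 2), (1, 2)]), ([(8, 1)], [(17, 1), (9, 2), (2, 2), (3, 2), (1, 1)]), ([(9, 1)], [(17, 2), (9, 1), (2, 1), (3, 1), (0, 1)]), ([(11, 1)], [(17, 2), (9, 2), (2, 2), (3, 1), (1, 2)]), ([(12, 1)], [(17, 1), (9, 2), (4, 2), (2, 1), (3, 1)]), ([(13, 1)], [(17, 2), (9, 1), (5, 2), (2, 2), (3, 2)]), ([(14, 1)], [(17, 1), (9, 1), (4, 2), (2, 1), (3, 2)]), ([(20, 1)], [(17, 1), (5, 2), (3, 1), (0, 1),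 (1, 1)]), ([(21, 1)], [(9, 1), (4, 2), (2, 1), (3, 2), (0, 2)]), ([(23, 1)], [(9, 1), (4, 1), (3, 2), (2, 2), (0, 1)]), ([(25, 1)], [(9, 1), (3, 1), (2, 1), (0, 1), (1, 2)]), ([(26, 1)], [(17, 2), (9, 1), (3, 2), (0, 2), (1, 2)]), ([(28, 1)], [(17, 1), (9, 1), (5, 1), (3, 2), (0, 1)]), ([(29, 1)], [(9, 1), (4, 1), (2, 2), (0, 1), (1, 1)]), ([(1, 1)], [(17, 2), (9, 2), (2, 1), (3, 1), (1, 2), (0, 1)]), ([(6, 1)], [(17, 1), (9, 1), (4, 1), (2, 2), (0, 2), (1, 1)]), ([(7, 1)], [(17, 2), (9, 1), (5, 2), (2, 1), (3, 2), (0, 1)]), ([(15, 1)], [(17, 2), (9, 2), (5, 1), (2, 1), (1, 2), (0, 1)]), ([(30, 1)], [(17, 2), (9, 1), (5, 1), (3, 1), (0, 2), (1, 2)]), ([(31, 1)], [(9, 1), (4, 2), (3, 1), (2, 1), (0, 2), (1, 2)]), ([(4, 1)], [(17, 1), (9, 2), (4, 1), (2, 2), (3, 2), (0, 2), (1, 1)])], [([(1,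 1)], [(4, 2), (5, 2), (3, 2), (0, 2)]), ([(25, 1)], [(17, 1), (4, 1), (5, 1), (1, 1)]), ([(29, 1)], [(17, 2), (4, 2), (5, 1), (3, 2)]), ([(31, 1)], [(17, 1), (4, 1), (5, 1), (3, 2)]), ([(37, 1)], [(9, 1), (4, 1), (5, 2), (2, 2)]), ([(41, 1)], [(9, 2), (4, 1), (5, 1), (2, 2)]), ([(42, 1)], [(17, 2), (9, 2), (4, 2), (5, 2)]), ([(50, 1)], [(4, 1), (5, 1), (2, 2), (1, 2)]), ([(52, 1)], [(4, 2), (5, 1), (2, 1), (1, 2)]), ([(5, 1)], [(4, 2), (5, 1), (3, 2), (1, 1), (0, 2)]), ([(7, 1)], [(4, 2), (5, 2), (3, 2), (2, 1), (0, 1)]), ([(11, 1)], [(9, 2), (4, 2), (5, 1), (1, 1), (0, 2)]), ([(15, 1)], [(9, 1), (4, 2), (5, 2), (3, 1), (0, 2)]), ([(16, 1)], [(9, 2), (4, 1), (5, 2), (1, 1), (0, 1)]), ([(19, 1)], [(17, 1), (4, 2), (5, 1), (0, 2), (1, 1)]), ([(21, 1)], [(17, 1), (4, 2), (5, 1), (3, 2), (0,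 2)]), ([(23, 1)], [(17, 2), (4, 1), (5, 1), (3, 2), (0, 1)]), ([(27, 1)], [(17, 2), (4, 2), (5, 1), (3, 1), (1, 2)]), ([(32, 1)], [(17, 1), (9, 1), (4, 2), (5, 1), (0, 2)]), ([(35, 1)], [(9, 2), (4, 1), (5, 2), (2, 2), (3, 2)]), ([(39, 1)], [(9, 2), (4, 1), (5, 1), (2, 1), (0, 1)]), ([(43, 1)], [(9, 1), (4, 1), (5, 2), (2, 1), (0, 1)]), ([(47, 1)], [(9, 1), (4, 1), (5, 1), (3, 1), (2, 2)]), ([(48, 1)], [(4, 2), (5, 1), (2, 2), (1, 2), (0, 2)]), ([(54, 1)], [(4, 1), (5, 1), (2, 1), (1, 2), (0, 1)]), ([(0, 1)], [(17, 1), (4, 1), (5, 2), (2, 1), (0, 1), (1, 2)]), ([(3, 1)], [(4, 2), (5, 1), (2, 1), (3, 2), (1, 1), (0, 1)]), ([(6, 1)], [(17, 2), (4, 1), (5, 1), (2, 1), (0, 2), (1, 1)]), ([(8, 1)], [(17, 2), (4, 1), (5, 2), (2, 1), (3, 1), (0, 2)]), ([(9, 1)], [(9, 1), (4, 2), (5, 2), (2, 1),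 (3, 1), (0, 1)]), ([(10, 1)], [(17, 2), (4, 1), (5, 1), (2, 1), (3, 2), (0, 2)]), ([(13, 1)], [(9, 2), (4, 2), (5, 1), (2, 1), (1, 1), (0, 1)]), ([(14, 1)], [(17, 1), (4, 1), (5, 1), (2, 1), (0, 1), (1, 1)]), ([(17, 1)], [(17, 2), (4, 1), (5, 1), (3, 1), (0, 1), (1, 2)]), ([(20, 1)], [(9, 1), (4, 1), (5, 2), (3, 1), (1, 1), (0, 1)]), ([(26, 1)], [(9, 1), (4, 2), (5, 2), (3, 2), (1, 2), (0, 2)]), ([(28, 1)], [(9, 2), (4, 1), (5, 2), (2, 2), (1, 1), (0, 2)]), ([(30, 1)], [(9, 2), (4, 2), (5, 2), (3, 1), (1, 2), (0, 2)]), ([(33, 1)], [(9, 1), (4, 1), (5, 1), (2, 1), (3, 1), (0, 1)]), ([(40, 1)], [(17, 2), (9, 1), (4, 2), (5, 1), (3, 1), (1, 1)]), ([(44, 1)], [(17, 2), (9, 1), (4, 2), (5, 1), (3, 2), (1, 2)]), ([(45, 1)], [(9, 2), (4, 1), (5, 2), (3, 2), (2, 1), (0, 1)]), ([(46, 1)], [(17, 2),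 (9, 2), (4, 2), (5, 2), (3, 1), (1, 1)]), ([(51, 1)], [(17, 1), (9, 2), (4, 1), (5, 2), (2, 1), (0, 1)]), ([(55, 1)], [(17, 1), (9, 2), (4, 2), (5, 2), (2, 2), (0, 1)]), ([(56, 1)], [(9, 2), (4, 2), (5, 1), (2, 1), (3, 1), (1, 2)]), ([(62, 1)], [(9, 2), (4, 1), (5, 1), (3, 1), (2, 2), (1, 2)]), ([(63, 1)], [(17, 2), (9, 2), (4, 2), (5, 2), (2, 2), (0, 2)]), ([(2, 1)], [(17, 1), (4, 1), (5, 1), (2, 1), (3, 1), (0, 1), (1, 2)]), ([(4, 1)], [(17, 2), (4, 1), (5, 2), (2, 1), (3, 2), (0, 2), (1, 1)]), ([(12, 1)], [(17, 1), (4, 1), (5, 2), (2, 1), (3, 2), (0, 1), (1, 1)]), ([(18, 1)], [(9, 2), (4, 2), (5, 2), (2, 1), (3, 1), (1, 2), (0, 1)]), ([(22, 1)], [(9, 1), (4, 2), (5, 2), (3, 2), (2, 1), (1, 2), (0, 1)]), ([(24, 1)], [(9, 1), (4, 1), (5, 2), (2, 2), (3, 1), (1, 1), (0, 2)]), ([(34, 1)],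 [(17, 1), (9, 2), (4, 2), (5, 2), (3, 2), (0, 2), (1, 2)]), ([(36, 1)], [(17, 1), (9, 1), (4, 2), (5, 1), (3, 2), (0, 2), (1, 2)]), ([(38, 1)], [(17, 1), (9, 2), (4, 2), (5, 2), (3, 1), (0, 2), (1, 1)]), ([(58, 1)], [(9, 2), (4, 1), (5, 1), (2, 1), (3, 1), (1, 2), (0, 1)]), ([(60, 1)], [(9, 2), (4, 2), (5, 1), (3, 1), (2, 2), (1, 2), (0, 2)]), ([(49, 1)], [(17, 2), (9, 2), (4, 2), (5, 2), (2, 2), (3, 2), (0, 2), (1, 2)]), ([(53, 1)], [(17, 2), (9, 2), (4, 1), (5, 2), (2, 1), (3, 2), (0, 2), (1, 2)]), ([(57, 1)], [(17, 1), (9, 2), (4, 2), (5, 2), (2, 2), (3, 1), (0, 1), (1, 1)]), ([(59, 1)], [(17, 2), (9, 2), (4, 1), (5, 2), (2, 1), (3, 1), (0, 2), (1, 1)]), ([(61, 1)], [(17, 1), (9, 2), (4, 1), (5, 2), (2, 1), (3, 2), (0, 1), (1, 2)])]]⟩,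
  ⟨3, 6, 8, ops3_3p_gens, 2232320, 1180176, [[], [([(1, 1)], [(3, 1), (2, 2), (0, 2)]), ([(2, 1), (0, 1)], [(2, 2), (0, 2)]), ([(3, 1)], [(2, 2), (1, 1), (0, 2)])], [([(0, 1)], [(4, 1)]), ([(4, 1)], [(0, 1)]), ([(6, 1)], [(2, 1)]), ([(2, 1)], [(4, 2), (2, 1), (0, 1)]), ([(3, 1)], [(4, 1), (3, 2), (0, 1)]), ([(5, 1)], [(4, 2), (2, 1), (3, 1)]), ([(7, 1)], [(4, 1), (2, 2), (1, 1)]), ([(1, 1)], [(4, 2), (2, 2), (1, 2), (0, 1)])], [([(5, 1), (1, 2)], [(4, 1), (0, 2)]), ([(7, 1), (1, 1)], [(4, 2), (2, 1)]), ([(15, 1), (1, 1)], [(2, 1), (0, 1)]), ([(2, 1)], [(4, 1), (3, 1), (0, 1), (1, 1)]), ([(3, 1), (1, 1)], [(4, 1), (2, 1), (0, 1)]), ([(4, 1)], [(4, 1), (2, 2), (3, 1), (1, 1)]), ([(6, 1)], [(4, 1), (2, 2), (3, 2), (1, 2)]), ([(8, 1)], [(4, 2), (2, 1), (3, 2), (1, 2)]), ([(9, 1), (1, 2)], [(4,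 1), (2, 1), (0, 2)]), ([(10, 1)], [(4, 2), (2, 1), (3, 1), (1, 1)]), ([(11, 1), (1, 1)], [(4, 2), (2, 1), (0, 2)]), ([(13, 1), (1, 2)], [(4, 2), (2, 1), (0, 1)]), ([(14, 1)], [(4, 2), (3, 2), (0, 2), (1, 2)]), ([(0, 1)], [(4, 1), (2, 1), (3, 2), (0, 2), (1, 2)]), ([(12, 1)], [(4, 2), (2, 2), (3, 1), (0, 1), (1, 1)])], [([(12, 1), (0, 1)], []), ([(13, 1), (1, 1)], [(4, 1), (0, 2)]), ([(17, 1), (1, 1)], [(17, 1), (1, 1)]), ([(18, 1), (1, 1)], [(17, 2), (2, 2)]), ([(22, 1), (1, 1)], [(4, 2), (0, 1)]), ([(26, 1), (1, 2)], [(4, 1), (0, 2)]), ([(30, 1), (1, 2)], [(17, 1), (2, 1)]), ([(31, 1), (0, 1)], [(4, 2), (3, 2), (0, 2)]), ([(4, 1), (0, 2)], [(4, 1), (2, 2), (3, 2), (1, 1)]), ([(5, 1), (1, 2)], [(17, 1), (4, 2), (2, 1), (0, 1)]), ([(8, 1), (0, 1)], [(4, 2), (2, 1), (3, 1), (1, 2)]), ([(9,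 1), (1, 1)], [(17, 2), (4, 2), (2, 2), (0, 1)]), ([(11, 1), (0, 1)], [(17, 1), (4, 1), (3, 2), (1, 1)]), ([(16, 1), (0, 2)], [(17, 2), (3, 1), (0, 2), (1, 2)]), ([(19, 1), (0, 2)], [(4, 1), (2, 1), (1, 2), (0, 2)]), ([(21, 1), (1, 1)], [(17, 1), (4, 2), (2, 1), (3, 1)]), ([(23, 1), (0, 2)], [(2, 2), (3, 1), (1, 1), (0, 2)]), ([(27, 1), (0, 1)], [(2, 2), (3, 1), (1, 1), (0, 2)]), ([(28, 1), (0, 1)], [(17, 1), (3, 2), (0, 1), (1, 1)]), ([(29, 1), (1, 2)], [(17, 2), (2, 2), (3, 1), (0, 2)]), ([(2, 1), (1, 2)], [(17, 2), (4, 1), (3, 1), (1, 2), (0, 1)]), ([(3, 1), (0, 2)], [(17, 1), (4, 2), (2, 2), (3, 1), (1, 2)]), ([(6, 1), (1, 2)], [(17, 2), (2, 1), (3, 2), (1, 1), (0, 1)]), ([(7, 1), (0, 2)], [(17, 2), (4, 1), (3, 1), (0, 1), (1, 2)]), ([(10, 1), (1, 1)], [(17, 1), (2, 2), (3, 1), (1, 2),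 (0, 2)]), ([(14, 1), (1, 1)], [(17, 1), (4, 2), (3, 2), (1, 1), (0, 2)]), ([(15, 1), (0, 1)], [(17, 2), (2, 1), (3, 2), (0, 1), (1, 1)]), ([(25, 1), (1, 2)], [(17, 2), (4, 1), (2, 1), (1, 1), (0, 2)]), ([(20, 1), (0, 2)], [(17, 1), (4, 1), (2, 2), (3, 1), (0, 1), (1, 2)]), ([(24, 1), (0, 1)], [(17, 2), (4, 2), (2, 1), (3, 2), (0, 2), (1, 1)])], [([(32, 1)], [(3, 1), (0, 1), (1, 1)]), ([(34, 1)], [(2, 1), (3, 1), (1, 1)]), ([(38, 1)], [(4, 1), (3, 1), (1, 1)]), ([(42, 1)], [(4, 2), (3, 2), (1, 2)]), ([(44, 1)], [(3, 2), (0, 2), (1, 2)]), ([(46, 1)], [(2, 2), (3, 2), (1, 2)]), ([(4, 1)], [(33, 2), (32, 1), (4, 1), (0, 2)]), ([(5, 1)], [(32, 2), (33, 2), (2, 1), (0, 2)]), ([(6, 1)], [(33, 1), (32, 2), (17, 2), (2, 2)]), ([(8, 1)], [(33, 1), (32, 2), (4, 2), (0, 1)]), ([(10, 1)], [(33, 2), (32,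 1), (17, 1), (2, 1)]), ([(15, 1)], [(32, 2), (33, 2), (17, 1), (4, 1)]), ([(17, 1)], [(33, 2), (32, 1), (17, 1), (0, 2)]), ([(18, 1)], [(32, 1), (33, 1), (4, 2), (0, 1)]), ([(19, 1)], [(33, 2), (32, 1), (4, 1), (2, 1)]), ([(20, 1)], [(32, 1), (33, 1), (17, 2), (2, 2)]), ([(24, 1)], [(32, 2), (33, 2), (17, 1), (2, 1)]), ([(30, 1)], [(32, 2), (33, 2), (4, 1), (0, 2)]), ([(48, 1)], [(4, 1), (3, 1), (2, 1), (1, 1)]), ([(52, 1)], [(4, 1), (3, 1), (0, 2), (1, 1)]), ([(54, 1)], [(4, 1), (3, 2), (0, 2), (1, 2)]), ([(56, 1)], [(4, 2), (3, 2), (0, 1), (1, 2)]), ([(58, 1)], [(4, 2), (3, 1), (0, 1), (1, 1)]), ([(60, 1)], [(4, 2), (3, 2), (2, 2), (1, 2)]), ([(3, 1)], [(32, 1), (33, 1), (17, 2), (4, 1), (2, 1)]), ([(9, 1)], [(32, 1), (33, 1), (4, 1), (2, 1), (0, 1)]), ([(21, 1)], [(33, 1), (32, 2), (3,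 2), (2, 1), (1, 1)]), ([(25, 1)], [(33, 2), (32, 1), (3, 1), (1, 2), (0, 1)]), ([(29, 1)], [(33, 1), (32, 2), (17, 2), (2, 1), (0, 2)]), ([(31, 1)], [(33, 1), (32, 2), (4, 2), (2, 1), (0, 2)]), ([(36, 1)], [(4, 2), (2, 1), (3, 1), (0, 1), (1, 1)]), ([(40, 1)], [(4, 1), (2, 2), (3, 2), (0, 2), (1, 2)]), ([(49, 1)], [(32, 2), (33, 2), (17, 2), (0, 1), (1, 1)]), ([(50, 1)], [(4, 1), (2, 2), (3, 2), (0, 1), (1, 2)]), ([(55, 1)], [(32, 1), (33, 1), (17, 1), (4, 2), (1, 2)]), ([(62, 1)], [(4, 2), (2, 1), (3, 1), (0, 2), (1, 1)]), ([(2, 1)], [(33, 2), (32, 1), (2, 1), (3, 1), (1, 2), (0, 2)]), ([(7, 1)], [(32, 2), (33, 2), (2, 1), (3, 2), (1, 1), (0, 2)]), ([(11, 1)], [(32, 1), (33, 1), (4, 2), (3, 1), (1, 2), (0, 1)]), ([(13, 1)], [(32, 2), (33, 2), (17, 1), (2, 1), (3, 2), (1, 1)]), ([(14, 1)],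 [(33, 1), (32, 2), (2, 2), (3, 2), (1, 1), (0, 1)]), ([(22, 1)], [(32, 2), (33, 2), (17, 1), (4, 1), (3, 2), (1, 1)]), ([(26, 1)], [(32, 1), (33, 1), (17, 2), (4, 2), (3, 1), (1, 2)]), ([(33, 1)], [(33, 1), (32, 2), (17, 1), (4, 2), (3, 2), (2, 2)]), ([(35, 1)], [(33, 2), (32, 1), (17, 2), (4, 1), (2, 1), (1, 2)]), ([(37, 1)], [(33, 1), (32, 2), (17, 1), (4, 2), (3, 2), (0, 1)]), ([(41, 1)], [(33, 1), (32, 2), (17, 1), (4, 1), (2, 1), (1, 1)]), ([(43, 1)], [(33, 2), (32, 1), (17, 2), (4, 2), (3, 1), (0, 1)]), ([(51, 1)], [(32, 1), (33, 1), (17, 1), (4, 1), (2, 1), (1, 2)]), ([(59, 1)], [(32, 1), (33, 1), (17, 1), (4, 2), (3, 1), (0, 1)]), ([(61, 1)], [(32, 2), (33, 2), (17, 2), (4, 2), (3, 2), (0, 1)]), ([(63, 1)], [(32, 1), (33, 1), (17, 1), (2, 2), (3, 1), (0, 1)]), ([(0, 1)], [(33, 1),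 (32, 2), (17, 2), (4, 1), (2, 1), (3, 2), (1, 1)]), ([(1, 1)], [(32, 1), (33, 1), (17, 2), (4, 1), (2, 1), (3, 1), (1, 2)]), ([(12, 1)], [(33, 2), (32, 1), (17, 1), (4, 2), (2, 2), (3, 1), (1, 2)]), ([(16, 1)], [(32, 2), (33, 2), (4, 2), (2, 2), (3, 2), (1, 1), (0, 2)]), ([(27, 1)], [(33, 2), (32, 1), (17, 1), (4, 2), (3, 1), (1, 2), (0, 1)]), ([(28, 1)], [(32, 1), (33, 1), (4, 1), (2, 1), (3, 1), (1, 2), (0, 1)]), ([(39, 1)], [(33, 2), (32, 1), (17, 2), (4, 1), (2, 2), (0, 1), (1, 2)]), ([(45, 1)], [(33, 1), (32, 2), (17, 1), (4, 1), (2, 2), (0, 1), (1, 1)]), ([(47, 1)], [(33, 2), (32, 1), (17, 2), (4, 2), (2, 1), (3, 1), (0, 2)]), ([(53, 1)], [(32, 2), (33, 2), (17, 2), (4, 1), (2, 2), (0, 1), (1, 1)]), ([(57, 1)], [(32, 2), (33, 2), (17, 2), (4, 1), (2, 1), (3, 2), (0, 1)]), ([(23, 1)],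 [(33, 1), (32, 2), (17, 2), (4, 1), (2, 2), (3, 2), (1, 1), (0, 1)])]]⟩,
  ⟨3, 6, 8, ops3_3p_gens, 17825810, 301990144, [[], [([(1, 1)], [(1, 1)]), ([(3, 1)], [(3, 1)]), ([(2, 1), (0, 2)], [(2, 2), (0, 1)])], [([(1, 1)], [(4, 1), (3, 2), (0, 2)]), ([(3, 1)], [(4, 1), (1, 2), (0, 2)]), ([(4, 1), (0, 2)], [(4, 1), (0, 2)]), ([(5, 1)], [(4, 2), (3, 1), (0, 1)]), ([(6, 1), (0, 1)], [(4, 2), (2, 2)]), ([(7, 1)], [(4, 2), (1, 1), (0, 1)]), ([(2, 1), (0, 1)], [(4, 1), (2, 2), (0, 1)])], [([(5, 1), (1, 1)], []), ([(3, 1), (1, 2)], [(4, 2), (0, 1)]), ([(4, 1), (0, 2)], [(3, 2), (1, 1)]), ([(7, 1), (1, 1)], [(4, 1), (0, 2)]), ([(8, 1), (0, 1)], [(8, 1), (0, 1)]), ([(11, 1), (1, 2)], [(3, 1), (1, 2)]), ([(14, 1), (0, 2)], [(4, 2), (2, 2)]), ([(15, 1), (1, 1)], [(3, 2), (1, 1)]), ([(6, 1), (0, 1)],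 [(8, 1), (4, 2), (2, 2), (0, 1)]), ([(9, 1), (1, 2)], [(4, 2), (3, 1), (1, 2), (0, 1)]), ([(10, 1), (0, 2)], [(4, 2), (2, 2), (3, 2), (1, 1)]), ([(12, 1), (0, 1)], [(8, 1), (3, 1), (0, 1), (1, 2)]), ([(13, 1), (1, 1)], [(4, 1), (3, 2), (1, 1), (0, 2)]), ([(2, 1), (0, 1)], [(8, 1), (4, 2), (2, 2), (3, 1), (0, 1), (1, 2)])], [([(16, 1)], [(17, 1), (8, 2), (4, 1), (3, 2)]), ([(20, 1)], [(17, 1), (8, 1), (4, 2), (3, 2)]), ([(22, 1)], [(17, 1), (8, 1), (1, 1), (0, 2)]), ([(28, 1)], [(17, 1), (8, 2), (3, 2), (0, 1)]), ([(30, 1)], [(17, 1), (8, 2), (1, 1), (0, 1)]), ([(6, 1)], [(16, 1), (17, 1), (8, 2), (1, 1), (0, 2)]), ([(8, 1)], [(16, 1), (17, 2), (8, 2), (4, 2), (3, 1)]), ([(10, 1)], [(16, 1), (17, 1), (8, 2), (3, 1), (0, 2)]), ([(11, 1)], [(16, 2), (2, 2), (3, 1), (0, 1), (1, 2)]), ([(14,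 1)], [(16, 2), (17, 1), (8, 1), (1, 1), (0, 1)]), ([(15, 1)], [(16, 1), (2, 1), (3, 2), (0, 2), (1, 1)]), ([(18, 1)], [(17, 1), (8, 2), (4, 2), (1, 1), (0, 2)]), ([(24, 1)], [(17, 1), (8, 1), (4, 1), (3, 2), (0, 1)]), ([(25, 1)], [(16, 1), (8, 2), (2, 2), (3, 2), (1, 1)]), ([(26, 1)], [(17, 1), (8, 1), (4, 1), (1, 1), (0, 1)]), ([(29, 1)], [(16, 2), (8, 1), (2, 1), (3, 1), (1, 2)]), ([(0, 1)], [(16, 2), (17, 2), (8, 1), (4, 2), (3, 1), (0, 2)]), ([(1, 1)], [(16, 1), (8, 1), (2, 2), (3, 2), (0, 2), (1, 1)]), ([(2, 1)], [(16, 2), (17, 1), (8, 1), (3, 2), (1, 2), (0, 1)]), ([(3, 1)], [(16, 1), (4, 1), (2, 2), (3, 2), (0, 2), (1, 1)]), ([(4, 1)], [(16, 1), (17, 2), (8, 2), (4, 2), (3, 2), (1, 2)]), ([(5, 1)], [(16, 2), (8, 2), (2, 1), (3, 1), (0, 1), (1, 2)]), ([(7, 1)], [(16, 2), (4, 2), (2,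 1), (3, 1), (0, 1), (1, 2)]), ([(12, 1)], [(16, 2), (17, 2), (8, 1), (4, 2), (1, 1), (0, 2)]), ([(17, 1)], [(16, 2), (4, 1), (2, 2), (3, 1), (0, 2), (1, 2)]), ([(19, 1)], [(16, 1), (8, 1), (4, 1), (2, 2), (3, 2), (1, 1)]), ([(21, 1)], [(16, 1), (4, 2), (2, 1), (3, 2), (0, 1), (1, 1)]), ([(23, 1)], [(16, 2), (8, 2), (4, 2), (2, 1), (3, 1), (1, 2)]), ([(27, 1)], [(16, 2), (8, 1), (2, 2), (3, 1), (0, 2), (1, 2)]), ([(31, 1)], [(16, 1), (8, 2), (2, 1), (3, 2), (0, 1), (1, 1)]), ([(9, 1)], [(16, 2), (8, 2), (4, 1), (2, 2), (3, 1), (0, 1), (1, 2)]), ([(13, 1)], [(16, 1), (8, 1), (4, 2), (2, 1), (3, 2), (0, 2), (1, 1)])], [([(9, 1)], [(17, 1), (3, 2)]), ([(13, 1)], [(17, 2), (3, 1)]), ([(27, 1)], [(17, 2), (3, 2)]), ([(31, 1)], [(17, 1), (3, 1)]), ([(57, 1)], [(4, 1), (0, 1)]), ([(61, 1)], [(4,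 2), (0, 2)]), ([(8, 1)], [(16, 1), (2, 1), (3, 1)]), ([(19, 1)], [(17, 1), (3, 2), (1, 2)]), ([(23, 1)], [(17, 2), (3, 1), (1, 1)]), ([(26, 1)], [(16, 1), (17, 1), (2, 2)]), ([(40, 1)], [(17, 1), (4, 1), (2, 1)]), ([(41, 1)], [(16, 2), (3, 1), (1, 2)]), ([(42, 1)], [(17, 2), (2, 1), (0, 1)]), ([(44, 1)], [(17, 1), (4, 2), (2, 2)]), ([(45, 1)], [(16, 1), (3, 2), (1, 1)]), ([(48, 1)], [(8, 1), (2, 2), (3, 2)]), ([(49, 1)], [(8, 1), (4, 1), (0, 2)]), ([(51, 1)], [(8, 1), (2, 2), (0, 2)]), ([(53, 1)], [(8, 2), (4, 2), (0, 1)]), ([(54, 1)], [(8, 2), (2, 1), (1, 1)]), ([(55, 1)], [(8, 2), (2, 1), (0, 1)]), ([(59, 1)], [(4, 2), (2, 1), (0, 1)]), ([(63, 1)], [(4, 1), (2, 2), (0, 2)]), ([(1, 1)], [(17, 2), (4, 1), (3, 1), (0, 2)]), ([(3, 1)], [(17, 1), (4, 2), (1, 1), (0, 1)]), ([(5, 1)], [(17, 1),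 (4, 2), (3, 2), (0, 1)]), ([(7, 1)], [(17, 2), (4, 1), (1, 2), (0, 2)]), ([(11, 1)], [(17, 2), (4, 2), (1, 2), (0, 1)]), ([(15, 1)], [(17, 1), (4, 1), (1, 1), (0, 2)]), ([(22, 1)], [(16, 1), (17, 1), (4, 2), (2, 1)]), ([(25, 1)], [(17, 2), (4, 2), (1, 1), (0, 1)]), ([(29, 1)], [(17, 1), (4, 1), (1, 2), (0, 2)]), ([(46, 1)], [(17, 2), (4, 1), (2, 2), (0, 1)]), ([(6, 1)], [(16, 1), (8, 2), (4, 1), (2, 1), (3, 1)]), ([(12, 1)], [(16, 1), (4, 1), (2, 1), (1, 2), (0, 2)]), ([(14, 1)], [(16, 1), (8, 1), (2, 2), (1, 2), (0, 1)]), ([(16, 1)], [(16, 2), (17, 2), (8, 2), (4, 2), (2, 2)]), ([(17, 1)], [(17, 1), (4, 1), (3, 1), (1, 1), (0, 2)]), ([(21, 1)], [(17, 2), (4, 2), (3, 2), (1, 2), (0, 1)]), ([(28, 1)], [(16, 2), (17, 2), (8, 2), (4, 1), (2, 1)]), ([(33, 1)], [(16, 2), (8, 2), (3, 1), (0, 2),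 (1, 2)]), ([(34, 1)], [(17, 1), (4, 2), (2, 2), (3, 2), (1, 1)]), ([(35, 1)], [(16, 2), (4, 2), (2, 2), (3, 1), (1, 2)]), ([(36, 1)], [(17, 2), (2, 1), (3, 1), (0, 1), (1, 2)]), ([(37, 1)], [(16, 1), (8, 1), (3, 2), (0, 1), (1, 1)]), ([(38, 1)], [(17, 1), (4, 1), (2, 1), (3, 2), (1, 1)]), ([(39, 1)], [(16, 1), (4, 1), (2, 1), (3, 2), (1, 1)]), ([(50, 1)], [(8, 1), (4, 1), (2, 2), (1, 1), (0, 2)]), ([(52, 1)], [(8, 2), (4, 2), (2, 1), (3, 2), (0, 1)]), ([(56, 1)], [(8, 2), (4, 1), (2, 1), (1, 1), (0, 2)]), ([(58, 1)], [(8, 2), (4, 1), (2, 1), (3, 2), (0, 2)]), ([(60, 1)], [(8, 1), (4, 2), (2, 2), (1, 1), (0, 1)]), ([(62, 1)], [(8, 1), (4, 2), (2, 2), (3, 2), (0, 1)]), ([(0, 1)], [(16, 1), (8, 2), (4, 2), (2, 2), (1, 2), (0, 1)]), ([(2, 1)], [(16, 1), (8, 2), (4, 2), (2, 1), (1, 2), (0, 2)]),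 ([(4, 1)], [(16, 1), (8, 2), (4, 1), (2, 2), (3, 1), (0, 2)]), ([(10, 1)], [(16, 1), (8, 1), (4, 2), (2, 2), (3, 1), (0, 2)]), ([(32, 1)], [(17, 2), (4, 1), (2, 2), (3, 1), (0, 1), (1, 2)]), ([(18, 1)], [(16, 1), (17, 2), (4, 1), (2, 1), (3, 1), (0, 1), (1, 2)]), ([(20, 1)], [(16, 2), (17, 1), (8, 2), (2, 2), (3, 2), (0, 2), (1, 1)]), ([(30, 1)], [(16, 1), (17, 2), (4, 2), (2, 2), (3, 1), (0, 1), (1, 2)]), ([(43, 1)], [(16, 2), (8, 2), (4, 1), (2, 1), (3, 1), (0, 2), (1, 2)]), ([(47, 1)], [(16, 1), (8, 1), (4, 2), (2, 2), (3, 2), (0, 1), (1, 1)]), ([(24, 1)], [(16, 2), (17, 1), (8, 2), (4, 2), (2, 1), (3, 2), (0, 2), (1, 1)])]]⟩]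

/-- their moves -/
def ops3_3p_moves : List (List (List Nat)) := [
  [[0, 1, 4, 5, 2, 3, 6, 7, 14, 15, 10, 11, 12, 13, 8, 9, 33, 32, 37, 36, 35, 34, 39, 38, 47, 46, 43, 42, 45, 44, 41, 40, 17, 16, 21, 20, 19, 18, 23, 22, 31, 30, 27, 26, 29, 28, 25, 24, 48, 49, 52, 53, 50, 51, 54, 55, 62, 63, 58, 59, 60, 61, 56, 57], [0, 1, 21, 20, 34, 35, 55, 54, 31, 30, 10, 11, 61, 60, 40, 41, 33, 32, 52, 53, 3, 2, 22, 23, 62, 63, 43, 42, 28, 29, 9, 8, 17, 16, 4, 5, 51, 50, 38, 39, 14, 15, 27, 26, 44, 45, 57, 56, 48, 49, 37, 36, 18, 19, 7, 6, 47, 46, 58, 59, 13, 12, 24, 25], [0, 1, 34, 35, 21, 20, 55, 54, 40, 41, 10, 11, 61, 60, 31, 30, 16, 17, 50, 51, 5, 4, 39, 38, 56, 57, 26, 27, 45, 44, 15, 14, 32, 33, 2, 3, 53, 52, 23, 22, 8, 9, 42, 43, 29, 28, 63, 62, 48, 49, 18, 19, 37, 36, 7, 6, 24, 25, 58, 59,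 13, 12, 47, 46]],
  [[0, 1, 6, 7, 4, 5, 2, 3, 8, 9, 14, 15, 12, 13, 10, 11, 16, 17, 22, 23, 20, 21, 18, 19, 24, 25, 30, 31, 28, 29, 26, 27, 48, 49, 54, 55, 52, 53, 50, 51, 56, 57, 62, 63, 60, 61, 58, 59, 32, 33, 38, 39, 36, 37, 34, 35, 40, 41, 46, 47, 44, 45, 42, 43], [0, 21, 10, 31, 4, 17, 14, 27, 8, 29, 2, 23, 12, 25, 6, 19, 16, 5, 26, 15, 20, 1, 30, 11, 24, 13, 18, 7, 28, 9, 22, 3, 40, 61, 34, 55, 44, 57, 38, 51, 32, 53, 42, 63, 36, 49, 46, 59, 56, 45, 50, 39, 60, 41, 54, 35, 48, 37, 58, 47, 52, 33, 62, 43], [0, 21, 14, 27, 4, 17, 10, 31, 8, 29, 6, 19, 12, 25, 2, 23, 16, 5, 30, 11, 20, 1, 26, 15, 24, 13, 22, 3, 28, 9, 18, 7, 56, 45, 54, 35, 60, 41, 50, 39, 48, 37, 62, 43, 52, 33, 58, 47, 40, 61, 38, 51, 44, 57, 34, 55, 32, 53, 46, 59, 36, 49, 42, 63]],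
  [[0, 1, 2, 3, 4, 5, 6, 7, 8, 9, 10, 11, 12, 13, 14, 15, 20, 21, 22, 23, 16, 17, 18, 19, 28, 29, 30, 31, 24, 25, 26, 27, 34, 35, 32, 33, 38, 39, 36, 37, 42, 43, 40, 41, 46, 47, 44, 45, 54, 55, 52, 53, 50, 51, 48, 49, 62, 63, 60, 61, 58, 59, 56, 57], [0, 1, 2, 3, 4, 5, 6, 7, 14, 15, 12, 13, 10, 11, 8, 9, 17, 16, 19, 18, 21, 20, 23, 22, 31, 30, 29, 28, 27, 26, 25, 24, 33, 32, 35, 34, 37, 36, 39, 38, 47, 46, 45, 44, 43, 42, 41, 40, 48, 49, 50, 51, 52, 53, 54, 55, 62, 63, 60, 61, 58, 59, 56, 57], [0, 1, 2, 3, 4, 5, 6, 7, 14, 15, 12, 13, 10, 11, 8, 9, 21, 20, 23, 22, 17, 16, 19, 18, 27, 26, 25, 24, 31, 30, 29, 28, 35, 34, 33, 32, 39, 38, 37, 36, 45, 44, 47, 46, 41, 40, 43, 42, 54, 55, 52, 53, 50, 51, 48, 49, 56, 57, 58, 59, 60, 61, 62, 63]],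
  [[0, 1, 2, 3, 4, 5, 6, 7, 14, 15, 12, 13, 10, 11, 8, 9, 21, 20, 23, 22, 17, 16, 19, 18, 27, 26, 25, 24, 31, 30, 29, 28, 35, 34, 33, 32, 39, 38, 37, 36, 45, 44, 47, 46, 41, 40, 43, 42, 54, 55, 52, 53, 50, 51, 48, 49, 56, 57, 58, 59, 60, 61, 62, 63], [0, 4, 2, 6, 1, 5, 3, 7, 33, 37, 35, 39, 32, 36, 34, 38, 16, 20, 18, 22, 17, 21, 19, 23, 49, 53, 51, 55, 48, 52, 50, 54, 12, 8, 14, 10, 13, 9, 15, 11, 45, 41, 47, 43, 44, 40, 46, 42, 28, 24, 30, 26, 29, 25, 31, 27, 61, 57, 63, 59, 60, 56, 62, 58], [0, 4, 2, 6, 1, 5, 3, 7, 34, 38, 32, 36, 35, 39, 33, 37, 21, 17, 23, 19, 20, 16, 22, 18, 55, 51, 53, 49, 54, 50, 52, 48, 10, 14, 8, 12, 11, 15, 9, 13, 40, 44, 42, 46, 41, 45, 43, 47, 31, 27, 29, 25, 30, 26, 28, 24, 61, 57, 63, 59, 60, 56, 62, 58]]]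

/-- the certificate -/
def ops3_3p_tree : Tree := .node 0 [.node 1 [.bad [0, 1] 1, .bad [0, 1] 1, .node 3 [.bad [1, 2] 1, .bad [0, 2] 2, .bad [0, 2] 1]], .node 3 [.bad [0, 1] 2, .bad [0, 1] 2, .bad [0, 1] 2], .node 1 [.node 2 [.bad [0, 2] 1, .node 3 [.bad [0, 3] 1, .bad [0, 3] 2, .bad [0, 2, 0, 3] 1], .bad [0, 2] 1], .bad [0, 1] 1, .bad [0, 1] 1]]

theorem ops3_3p_listed : (ops3_3p.zip ops3_3p_moves).all (fun e => e.1.listed e.2) = true := by decide +kernel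

theorem ops3_3p_tree_ok : treeOK 3 64 ops3_3p_moves ops3_3p_tree [] = true := by decide +kernel

/-- generators -/
def ops3_2p_gens : List Gen := [.sgn 61680, .sgn 65280, .swp 4 3855, .swp 8 255]

/-- the models -/
def ops3_2p : List Model := [
  ⟨3, 4, 4, ops3_2p_gens, 32, 529, [[([(0, 1)], [(0, 1)]), ([(1, 1)], [(0, 1), (1, 2)])], [([(0, 1)], [(0, 2)]), ([(2, 1)], [(0, 1)]), ([(3, 1), (1, 2)], [(0, 1)])], [([(7, 1), (1, 1)], [(0, 2)]), ([(0, 1)], [(5, 2), (1, 2), (0, 1)]), ([(2, 1)], [(5, 1), (1, 1), (0, 2)]), ([(4, 1)], [(5, 2), (1, 2), (0, 1)]), ([(5, 1), (1, 1)], [(5, 2), (1, 2)]), ([(6, 1)], [(5, 1), (1, 1), (0, 2)]), ([(3, 1), (1, 2)], [(5, 1), (0, 2), (1, 1)])], [([(8, 1)], [(5, 2), (1, 1)]), ([(10, 1)], [(5, 1), (1, 2)]), ([(12, 1)], [(5, 2), (1, 1)]), ([(14, 1)], [(5, 1), (1,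 2)]), ([(0, 1)], [(9, 2), (5, 2), (1, 2)]), ([(2, 1)], [(9, 1), (5, 1), (1, 1)]), ([(3, 1)], [(9, 2), (5, 2), (0, 1)]), ([(4, 1)], [(9, 2), (5, 2), (1, 2)]), ([(5, 1)], [(9, 1), (1, 1), (0, 2)]), ([(6, 1)], [(9, 1), (5, 1), (1, 1)]), ([(9, 1)], [(9, 1), (5, 2), (0, 2)]), ([(11, 1)], [(9, 1), (0, 2), (1, 2)]), ([(13, 1)], [(9, 1), (5, 2), (0, 1)]), ([(15, 1)], [(9, 1), (0, 1), (1, 2)]), ([(1, 1)], [(9, 1), (5, 1), (1, 2), (0, 1)]), ([(7, 1)], [(9, 2), (5, 1), (1, 2), (0, 2)])]]⟩,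
  ⟨3, 4, 4, ops3_2p_gens, 545, 4609, [[([(1, 1), (0, 2)], [(0, 2), (1, 1)])], [([(1, 1), (0, 2)], [(2, 2), (1, 1)]), ([(2, 1), (0, 2)], [(2, 2), (0, 1)]), ([(3, 1), (0, 2)], [(0, 1), (1, 2)])], [([(2, 1)], [(4, 1), (1, 1)]), ([(7, 1)], [(4, 1), (1, 2)]), ([(0, 1)], [(4, 2), (2, 1), (1, 1)]), ([(5, 1)], [(4, 2), (1, 2), (0, 2)]), ([(1, 1)], [(4, 1), (2, 2), (1, 1), (0, 2)]), ([(3, 1)], [(4, 2), (2, 2), (1, 1), (0, 1)]), ([(4, 1)], [(4, 2), (2, 2), (0, 1), (1, 2)]), ([(6, 1)], [(4, 1), (2, 1), (0, 1), (1, 2)])], [([(0, 1)], [(1, 1)]), ([(1, 1)], [(0, 1)]), ([(3, 1)], [(2, 1)]), ([(5, 1)], [(4, 2)]), ([(11, 1)], [(4, 2), (1, 2)]), ([(14, 1)], [(4, 1), (1, 2)]), ([(2, 1)], [(2, 1), (0, 1), (1, 2)]), ([(4, 1)], [(4, 2), (2, 2), (1, 1)]), ([(6, 1)], [(4, 2), (0, 1), (1, 2)]), ([(7, 1)], [(4, 2),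 (2, 2), (0, 1)]), ([(9, 1)], [(4, 1), (2, 2), (1, 2)]), ([(12, 1)], [(4, 2), (1, 2), (0, 2)]), ([(8, 1)], [(4, 2), (2, 1), (1, 2), (0, 1)]), ([(10, 1)], [(4, 1), (2, 1), (1, 2), (0, 2)]), ([(13, 1)], [(4, 2), (2, 2), (0, 1), (1, 2)]), ([(15, 1)], [(4, 1), (2, 1), (0, 1), (1, 2)])]]⟩,
  ⟨3, 4, 4, ops3_2p_gens, 272, 4130, [[], [([(0, 1)], [(2, 1)]), ([(2, 1)], [(0, 1)]), ([(1, 1)], [(3, 2), (2, 2), (0, 1)]), ([(3, 1)], [(2, 1), (0, 2), (1, 2)])], [([(0, 1)], [(2, 2), (3, 1), (0, 1)]), ([(1, 1)], [(2, 2), (3, 1), (1, 1)]), ([(2, 1)], [(2, 2), (1, 2), (0, 1)]), ([(3, 1)], [(3, 2), (0, 1), (1, 2)]), ([(4, 1)], [(2, 1), (1, 1), (0, 2)]), ([(5, 1)], [(3, 1), (0, 1), (1, 1)]), ([(6, 1)], [(2, 1), (3, 2), (0, 2)]), ([(7, 1)], [(3, 2), (2, 2), (1, 2)])], [([(8, 1)], [(0, 2)]), ([(10, 1)], [(2, 1)]),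 ([(12, 1)], [(2, 2)]), ([(14, 1)], [(0, 1)]), ([(9, 1)], [(1, 1), (0, 1)]), ([(11, 1)], [(3, 2), (2, 2)]), ([(13, 1)], [(3, 2), (0, 1)]), ([(15, 1)], [(2, 2), (1, 1)]), ([(0, 1)], [(2, 2), (3, 1), (0, 1)]), ([(2, 1)], [(2, 1), (1, 1), (0, 2)]), ([(4, 1)], [(2, 2), (1, 2), (0, 1)]), ([(5, 1)], [(3, 1), (2, 1), (1, 2)]), ([(6, 1)], [(2, 1), (3, 2), (0, 2)]), ([(7, 1)], [(3, 2), (0, 1), (1, 1)]), ([(1, 1)], [(2, 2), (3, 1), (0, 2), (1, 2)]), ([(3, 1)], [(3, 2), (2, 2), (0, 2), (1, 1)])]]⟩,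
  ⟨3, 4, 4, ops3_2p_gens, 1, 529, [[([(0, 1)], [(0, 2)])], [([(0, 1)], [(0, 2)]), ([(2, 1)], [(0, 2)]), ([(1, 1)], [(3, 1), (0, 1)]), ([(3, 1)], [(0, 1), (1, 1)])], [([(0, 1)], [(3, 2), (1, 1)]), ([(2, 1)], [(3, 2), (1, 1)]), ([(3, 1), (1, 2)], [(0, 2)]), ([(4, 1)], [(3, 2), (1, 1)]), ([(6, 1)], [(3, 2), (1, 1)]), ([(7, 1), (1, 1)], [(3, 1), (1, 2)]), ([(5, 1), (1, 1)], [(3, 1), (0, 1), (1, 2)])], [([(5, 1)], [(9, 1), (3, 1)]), ([(15, 1)], [(9, 1), (3, 2)]), ([(0, 1)], [(3, 2), (0, 2), (1, 2)]), ([(1, 1)], [(9, 1), (3, 1), (0, 2)]), ([(2, 1)], [(3, 2), (0, 2), (1, 2)]), ([(3, 1)], [(9, 2), (0, 1), (1, 1)]), ([(4, 1)], [(3, 2), (0, 2), (1, 2)]), ([(6, 1)], [(3, 2), (0, 2), (1, 2)]), ([(7, 1)], [(9, 2), (0, 2), (1, 1)]), ([(11, 1)], [(9, 1), (3, 1), (1, 1)]), ([(13, 1)], [(9, 1), (1, 1), (0,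 1)]), ([(8, 1)], [(9, 1), (3, 2), (0, 2), (1, 1)]), ([(9, 1)], [(9, 1), (3, 2), (1, 2), (0, 1)]), ([(10, 1)], [(9, 1), (3, 2), (0, 2), (1, 1)]), ([(12, 1)], [(9, 1), (3, 2), (0, 2), (1, 1)]), ([(14, 1)], [(9, 1), (3, 2), (0, 2), (1, 1)])]]⟩]

/-- their moves -/
def ops3_2p_moves : List (List (List Nat)) := [
  [[0, 1, 2, 3, 6, 7, 4, 5, 9, 8, 11, 10, 15, 14, 13, 12], [0, 1, 3, 2, 12, 13, 15, 14, 8, 9, 11, 10, 4, 5, 7, 6], [0, 1, 3, 2, 15, 14, 12, 13, 9, 8, 10, 11, 6, 7, 5, 4]],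
  [[0, 1, 3, 2, 12, 13, 15, 14, 8, 9, 11, 10, 4, 5, 7, 6], [0, 9, 6, 15, 4, 13, 2, 11, 8, 1, 14, 7, 12, 5, 10, 3], [0, 9, 15, 6, 12, 5, 3, 10, 8, 1, 7, 14, 4, 13, 11, 2]],
  [[0, 2, 1, 3, 8, 10, 9, 11, 4, 6, 5, 7, 12, 14, 13, 15], [0, 6, 9, 15, 8, 14, 1, 7, 4, 2, 13, 11, 12, 10, 5, 3], [0, 9, 6, 15, 4, 13, 2, 11, 8, 1, 14, 7, 12, 5, 10, 3]],
  [[0, 1, 2, 3, 6, 7, 4, 5, 9, 8, 11, 10, 15, 14, 13, 12], [0, 2, 1, 3, 8, 10, 9, 11, 4, 6, 5, 7, 12, 14, 13, 15], [0, 2, 1, 3, 9, 11, 8, 10, 6, 4, 7, 5, 15, 13, 14, 12]]]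

/-- the certificate -/
def ops3_2p_tree : Tree := .node 0 [.node 1 [.node 2 [.bad [1, 2] 1, .bad [0, 2] 2, .bad [0, 2] 1], .bad [0, 1] 1, .bad [0, 1] 2], .node 2 [.bad [0, 1] 1, .bad [0, 1] 2, .node 3 [.bad [1, 2] 1, .bad [0, 2] 1, .bad [0, 2] 2]], .node 2 [.bad [0, 1] 2, .bad [0, 1] 1, .bad [0, 1] 2]]

theorem ops3_2p_listed : (ops3_2p.zip ops3_2p_moves).all (fun e => e.1.listed e.2) = true := by decide +kernel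

theorem ops3_2p_tree_ok : treeOK 3 16 ops3_2p_moves ops3_2p_tree [] = true := by decide +kernel

end CfsgLib.BaseThree.Check
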