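import Cfsg.Agent.Lib.BaseCoprime.OpsBridge
import Cfsg.Agent.Lib.BaseCoprime.OpsData
/-
The operator criterion in the coordinates of a frame.
-/
set_option autoImplicit false
set_option linter.unusedSectionVars false

universe u

open scoped commutatorElement

namespace CfsgLib.BaseThree

open Check

variable {K V H : Type u} [Field K] [Finite K] [AddCommGroup V] [Finite V] [Nontrivial V]
  [Module K V] [Group H] [Finite H] [DistribMulAction H V] [FaithfulSMul H V]

theorem sum_range_blocks {A : Type*} [AddCommMonoid A] (k : ℕ) (F : ℕ → A) :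
    ∀ D : ℕ, ∑ j ∈ Finset.range (k * D), F j =
      ∑ w ∈ Finset.range D, ∑ a ∈ Finset.range k, F (k * w + a)
  | 0 => by simp
  | D + 1 => by
    rw [Nat.mul_succ, Finset.sum_range_add, sum_range_blocks k F D, Finset.sum_range_succ _ D]

namespace Setup

namespace Coords

variable {S : Setup K V H} {u : V} (co : S.Coords u)

set_option maxHeartbeats 600000 in
/-- pairs from models with `d` coordinates and `ny` further units -/
theorem pair_frame_ops {htwo : ∀ i, co.n i = 2} {ys : Set H} (fr : co.Frame htwo ys)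
    (hC : S.C ≠ S.A) (hu : S.IsBest u) {q : ℕ} (hq : q.Prime) (hK : Nat.card K = q)
    (hneg : (-1 : K) ≠ 1) (hcop : (Nat.card H).Coprime q)
    (k ny : ℕ) (hk : k = 1 ∧ ny = 0 ∨ k = 2 ∧ ny = 2)
    (eY : ℕ → H) (cY : ℕ → K) (GY : ℕ → Module.End K V)
    (hY : ∀ i, i < ny → S.IsOp (GY i) (cY i) (eY i) ∧ eY i ∈ S.Y u ∧ eY i ∈ ys)
    (hpairY : ny = 2 → S.χ' ⁅eY 0, eY 1⁆ = -1)
    (hgenY : ∀ b ∈ S.Y u, (∀ i, i < ny → ⁅b, eY i⁆ = 1) → ∀ z ∈ S.Y u, ⁅b, z⁆ = 1)
    (ζ : ℕ → V) (hζ0 : ζ 0 = u) (hζ1 : ny = 2 → ζ 1 = GY 0 u ∧ GY 0 (ζ 1) = -u ∧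
      GY 1 u = u + ζ 1 ∧ GY 1 (ζ 1) = u - ζ 1)
    (hind : ∀ c : ℕ → K, ∑ a ∈ Finset.range k, c a • ζ a = 0 → ∀ a, a < k → c a = 0)
    (Ms : List Model) (Ls : List (List (List ℕ))) (t : Tree)
    (hshape : ∀ M ∈ Ms, M.shapeOK q co.d k = true) (hlen : Ms.length = Ls.length)
    (hlist : (Ms.zip Ls).all (fun e => e.1.listed e.2) = true)
    (htree : treeOK q (2 ^ (2 * co.d + ny)) Ls t [] = true) :
    ∃ v w : V, ∀ g : H, g • v = v → g • w = w → g = 1 := by
  classical
  have hCne := hC
  obtain ⟨d, hd⟩ : ∃ d, d = co.d := ⟨_, rfl⟩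
  have hsgn : ∀ x ∈ S.B, ∀ y ∈ S.B, S.χ' ⁅x, y⁆ = 1 ∨ S.χ' ⁅x, y⁆ = -1 :=
    fun x hx y hy => co.comm_sign hC hu htwo hx hy
  have hsymm : ∀ {x y : H}, x ∈ S.B → y ∈ S.B → S.χ' ⁅y, x⁆ = S.χ' ⁅x, y⁆ := by
    intro x y hx hy
    have h : S.χ' ⁅y, x⁆ * S.χ' ⁅x, y⁆ = 1 := by
      rw [← S.χ'_mul (S.B_comm _ hy _ hx) (S.B_comm _ hx _ hy), ← commutatorElement_inv,
        inv_mul_cancel, S.χ'_one]
    rcases hsgn x hx y hy with h' | h' <;> rw [h'] at h ⊢
    · simpa using h
    · linear_combination -h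
  choose cX eX hX heX using fr.X_op
  let δ : Fin co.d → Fin co.d → ZMod 2 := fun i => mask co.d (2 ^ (i : ℕ))
  choose cR eR hR hRf hRy using fun i => fr.R_op (δ i)
  have hone : ∀ {x y : H}, x * y = y * x → S.χ' ⁅x, y⁆ = 1 := fun h => by
    rw [commutatorElement_eq_one_iff_mul_comm.mpr h, S.χ'_one]
  have pXX : ∀ i l, S.χ' ⁅eX i, eX l⁆ = 1 := fun i l =>
    hone (S.X_comm hu.1 _ (heX i) _ (heX l))
  have pXR : ∀ i l, S.χ' ⁅eX i, eR l⁆ = if i = l then -1 else 1 := fun i l => by
    refine S.χ_eq (hX i) (hR l) ?_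
    rw [fr.X_R]
    congr 1
    by_cases h : i = l
    · subst h; simp [δ, mask]
    · simp [δ, mask, Fin.val_ne_of_ne h, Ne.symm (Fin.val_ne_of_ne h), h]
  have pRR : ∀ i l, S.χ' ⁅eR i, eR l⁆ = 1 := fun i l => by
    refine S.χ_eq (hR i) (hR l) ?_
    rw [one_smul, ← fr.R_add, ← fr.R_add, add_comm]
  have pXY : ∀ i a, a < ny → S.χ' ⁅eX i, eY a⁆ = 1 := fun i a ha =>
    hone (Subgroup.mem_centralizer_iff.mp (hY a ha).2.1.2 _ (heX i))
  have pRY : ∀ i a, a < ny → S.χ' ⁅eR i, eY a⁆ = 1 := fun i a ha => by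
    rw [hRy i _ (hY a ha).2.2, S.χ'_one]
  -- the generators as a sequence
  let el : ℕ → H := fun i =>
    if h : i < co.d then eX ⟨i, h⟩ else if h' : i - co.d < co.d then eR ⟨i - co.d, h'⟩ else eY (i - 2 * co.d)
  let cf : ℕ → K := fun i =>
    if h : i < co.d then cX ⟨i, h⟩ else if h' : i - co.d < co.d then cR ⟨i - co.d, h'⟩ else cY (i - 2 * co.d)
  let G : ℕ → Module.End K V := fun i =>
    if h : i < co.d then fr.X ⟨i, h⟩ else if h' : i - co.d < co.d then fr.R (δ ⟨i - co.d, h'⟩)
      else GY (i - 2 * co.d)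
  let dual : ℕ → ℕ := fun i =>
    if i < co.d then i + co.d else if i - co.d < co.d then i - co.d else 4 * co.d + 1 - i
  have hel : ∀ i, i < 2 * co.d + ny → S.IsOp (G i) (cf i) (el i) := by
    intro i hi
    simp only [el, cf, G]
    split_ifs with h h'
    · exact hX _
    · exact hR _
    · exact (hY _ (by omega)).1
  have hny : ny = 0 ∨ ny = 2 := by omega
  have hdual : ∀ i, i < 2 * co.d + ny → dual i < 2 * co.d + ny ∧ dual (dual i) = i := by
    intro i hi
    simp only [dual]
    split_ifs <;> omega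
  have elX : ∀ i (h : i < co.d), el i = eX ⟨i, h⟩ := fun i h => by simp only [el, dif_pos h]
  have elR : ∀ i, ¬ i < co.d → ∀ h : i - co.d < co.d, el i = eR ⟨i - co.d, h⟩ := fun i h h' => by
    simp only [el, dif_neg h, dif_pos h']
  have elY : ∀ i, ¬ i < co.d → ¬ i - co.d < co.d → el i = eY (i - 2 * co.d) := fun i h h' => by
    simp only [el, dif_neg h, dif_neg h']
  have hpair : ∀ i, i < 2 * co.d + ny → ∀ j, j < 2 * co.d + ny →
      S.χ' ⁅el i, el (dual j)⁆ = if i = j then -1 else 1 := by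
    intro i hi j hj
    by_cases j1 : j < co.d
    · have ed : el (dual j) = eR ⟨j, j1⟩ := by
        simp only [dual, if_pos j1]
        rw [elR _ (by omega) (by omega)]
        congr 1
        exact Fin.ext (by simp)
      rw [ed]
      by_cases h : i < co.d
      · rw [elX i h, pXR]; simp only [Fin.ext_iff]
      rw [if_neg (by omega)]
      by_cases h' : i - co.d < co.d
      · rw [elR i h h']; exact pRR _ _
      · rw [elY i h h', hsymm (hR _).2.1 (hY _ (by omega)).1.2.1]; exact pRY _ _ (by omega)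
    by_cases j2 : j - co.d < co.d
    · have ed : el (dual j) = eX ⟨j - co.d, j2⟩ := by
        simp only [dual, if_neg j1, if_pos j2]
        exact elX _ j2
      rw [ed]
      by_cases h : i < co.d
      · rw [elX i h, if_neg (by omega)]; exact pXX _ _
      by_cases h' : i - co.d < co.d
      · rw [elR i h h', hsymm (hX _).2.1 (hR _).2.1, pXR]
        exact if_congr (by simp only [Fin.ext_iff]; omega) rfl rfl
      · rw [elY i h h', if_neg (by omega), hsymm (hX _).2.1 (hY _ (by omega)).1.2.1]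
        exact pXY _ _ (by omega)
    · have hny2 : ny = 2 := by omega
      have ed : el (dual j) = eY (1 - (j - 2 * co.d)) := by
        simp only [dual, if_neg j1, if_neg j2]
        rw [elY _ (by omega) (by omega)]
        congr 1
        omega
      rw [ed]
      by_cases h : i < co.d
      · rw [elX i h, if_neg (by omega)]; exact pXY _ _ (by omega)
      by_cases h' : i - co.d < co.d
      · rw [elR i h h', if_neg (by omega)]; exact pRY _ _ (by omega)
      rw [elY i h h']
      rcases (show i - 2 * co.d = 0 ∨ i - 2 * co.d = 1 by omega) with e0 | e0 <;>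
        rcases (show j - 2 * co.d = 0 ∨ j - 2 * co.d = 1 by omega) with e1 | e1 <;> rw [e0, e1]
      · rw [if_pos (by omega)]; exact hpairY hny2
      · rw [if_neg (by omega)]; exact hone rfl
      · rw [if_neg (by omega)]; exact hone rfl
      · rw [if_pos (by omega), hsymm (hY 0 (by omega)).1.2.1 (hY 1 (by omega)).1.2.1]
        exact hpairY hny2
  have hgen : ∀ b ∈ S.B, (∀ i, i < 2 * co.d + ny → ⁅b, el i⁆ = 1) → b ∈ S.A := by
    intro b hb h
    have hbY : b ∈ S.Y u := co.mem_Y_of_commute fr hu.1 hneg hb fun i => ⟨_, _, hX i, heX i, by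
      have := h i.val (by omega)
      simpa [el] using this⟩
    have hbR : ∀ i : Fin co.d, Commute (S.lin (S.B_le_C hb)) (fr.R (δ i)) := fun i => by
      refine S.op_commute (S.isOp_lin hb) (hR i) ?_
      have := h (co.d + i.val) (by omega)
      simp only [el] at this
      rw [dif_neg (by omega), dif_pos (by omega)] at this
      convert this using 3
      exact Fin.ext (by simp)
    have hbW : ∀ v, Commute (S.lin (S.B_le_C hb)) (fr.R v) := by
      intro v
      let Q : AddSubgroup (Fin co.d → ZMod 2) :=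
        { carrier := {v | Commute (S.lin (S.B_le_C hb)) (fr.R v)}
          zero_mem' := by
            show Commute _ (fr.R 0)
            rw [fr.R_zero]; exact Commute.one_right _
          add_mem' := fun {a c} ha hc => by
            show Commute _ (fr.R (a + c))
            rw [fr.R_add]; exact Commute.mul_right ha hc
          neg_mem' := fun {a} ha => by
            rwa [show -a = a from funext fun l => ZMod.neg_eq_self_mod_two (a l)] }
      show v ∈ Q
      rw [← Finset.univ_sum_single v]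
      refine sum_mem fun i _ => ?_
      rcases zmod2_cases (v i) with e | e <;> rw [e]
      · rw [Pi.single_zero]; exact Q.zero_mem
      · rw [← mask_pow i.2]; exact hbR i
    refine S.centralizer_B hC (S.B_le_C hb) (Subgroup.mem_centralizer_iff.mpr fun x hx => ?_)
    obtain ⟨c, b', hb', hbw, -⟩ := fr.R_op (co.toBin htwo (co.f x))
    have hy := co.coset hb'.2.1 hx ((co.toBin htwo).injective hbw)
    have e1 : ⁅b, b'⁆ = 1 := by
      refine S.χ'_eq_one (S.B_comm _ hb _ hb'.2.1) ?_
      refine S.χ_eq (S.isOp_lin hb) hb' ?_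
      rw [one_smul]
      exact (hbW _).eq
    have e2 : ⁅b, b'⁻¹ * x⁆ = 1 := hgenY b hbY (fun a ha => by
      have := h (2 * co.d + a) (by omega)
      simp only [el] at this
      rw [dif_neg (by omega), dif_neg (by omega), show 2 * co.d + a - 2 * co.d = a by omega] at this
      exact this) _ hy
    have := (show Commute b b' from commutatorElement_eq_one_iff_mul_comm.mp e1).mul_right
      (show Commute b (b'⁻¹ * x) from commutatorElement_eq_one_iff_mul_comm.mp e2)
    rw [mul_inv_cancel_left] at this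
    exact this.eq.symm
  -- the basis
  let basis : ℕ → V := fun j => fr.R (mask co.d (j / k)) (ζ (j % k))
  have hk0 : 0 < k := by omega
  have hXζ : ∀ i a, a < k → fr.X i (ζ a) = ζ a := by
    intro i a ha
    rcases (show a = 0 ∨ a = 1 ∧ ny = 2 by omega) with rfl | ⟨rfl, h2⟩
    · rw [hζ0]; exact fr.X_fix i
    · have hc : Commute (fr.X i) (GY 0) := S.op_commute (hX i) (hY 0 (by omega)).1
        (commutatorElement_eq_one_iff_mul_comm.mpr
          (Subgroup.mem_centralizer_iff.mp (hY 0 (by omega)).2.1.2 _ (heX i)))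
      rw [(hζ1 h2).1]
      have := LinearMap.congr_fun hc.eq u
      simp only [Module.End.mul_apply, fr.X_fix] at this
      exact this
  have hGR : ∀ a, a < ny → ∀ v, Commute (GY a) (fr.R v) := fun a ha v => by
    obtain ⟨c, b, hb, -, hby⟩ := fr.R_op v
    exact (S.op_commute hb (hY a ha).1 (hby _ (hY a ha).2.2)).symm
  have hbasis : ∀ w a, a < k → basis (k * w + a) = fr.R (mask co.d w) (ζ a) := fun w a ha => by
    simp only [basis, Nat.mul_add_div hk0, Nat.div_eq_of_lt ha, add_zero, Nat.mul_add_mod,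
      Nat.mod_eq_of_lt ha]
  refine S.pair_ops hC hq hK hneg hcop hsgn (2 * co.d + ny) el cf G hel dual hdual hpair hgen Ms Ls t
    basis (fun M hM => ?_) hlen hlist htree
  have hs := hshape M hM
  simp only [Model.shapeOK, Bool.and_eq_true, decide_eq_true_eq, List.all_eq_true, List.mem_range,
    Bool.or_eq_true] at hs
  obtain ⟨⟨⟨⟨⟨⟨⟨⟨⟨⟨hc, hMq⟩, hMe⟩, hMl⟩, hMn⟩, hx⟩, hy⟩, hx0⟩, hsgnG⟩, hswpG⟩, hunit⟩ := hs
  have hq0 : (M.q : K) = 0 := by
    obtain ⟨hchar, -⟩ := exists_natCast (K := K) hq hK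
    rw [hMq]; exact CharP.cast_eq_zero K q
  refine ⟨hc, hMq, by rw [hMn]; rcases hk with ⟨rfl, rfl⟩ | ⟨rfl, rfl⟩ <;> simp, hMl,
    valid_of_validB hx, valid_of_validB hy, hx0, fun i hi => ?_, fun v w hv hw he => ?_⟩
  · simp only [G]
    split_ifs with h h'
    · have h0 := hsgnG i h
      cases hg : M.gens.getD i .unit1 with
      | sgn m =>
        rw [hg] at h0
        refine acts_sgn basis hc hq0 h0 _ fun j _ => ?_
        have hx := LinearMap.congr_fun (fr.X_R ⟨i, h⟩ (mask co.d (j / k))) (ζ (j % k))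
        simp only [Module.End.mul_apply, LinearMap.smul_apply, hXζ _ _ (Nat.mod_lt _ hk0)] at hx
        refine hx.trans ?_
        congr 1
        simp only [mask, sgnPat]
        by_cases hb : (j / k).testBit i = true <;> simp [hb]
      | swp s m => rw [hg] at h0; simp at h0
      | unit1 => rw [hg] at h0; simp at h0
      | unit2 => rw [hg] at h0; simp at h0
    · have h0 := hswpG (i - co.d) h'
      rw [show co.d + (i - co.d) = i by omega] at h0
      cases hg : M.gens.getD i .unit1 with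
      | swp s m =>
        rw [hg] at h0
        refine acts_swp basis hc h0 _ fun j _ => ?_
        show fr.R (δ ⟨i - co.d, h'⟩) (fr.R (mask co.d (j / k)) (ζ (j % k))) = _
        rw [← Module.End.mul_apply, ← fr.R_add, flipPat, hbasis _ _ (Nat.mod_lt _ hk0), mask_xor,
          add_comm]
      | sgn m => rw [hg] at h0; simp at h0
      | unit1 => rw [hg] at h0; simp at h0
      | unit2 => rw [hg] at h0; simp at h0
    · have h2 : k = 2 ∧ ny = 2 := by omega
      obtain ⟨rfl, hny2⟩ := h2
      have hu' := hunit.resolve_left (by omega)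
      obtain ⟨z1, z2, z3, z4⟩ := hζ1 hny2
      have happ : ∀ a, a < ny → ∀ w (x : V), GY a (fr.R (mask co.d w) x) = fr.R (mask co.d w) (GY a x) :=
        fun a ha w x => LinearMap.congr_fun (hGR a ha _).eq x
      have hb0 : ∀ w, basis (2 * w) = fr.R (mask co.d w) u := fun w => by
        have := hbasis w 0 (by omega); rwa [add_zero, hζ0] at this
      have hb1 : ∀ w, basis (2 * w + 1) = fr.R (mask co.d w) (ζ 1) := fun w => hbasis w 1 (by omega)
      have hD : M.e = 2 * 2 ^ co.d := hMe
      have hd0 : ∀ (g' : Gen) (j : ℕ), j < M.gens.length → M.gens.getD j g' = M.gens.getD j .unit1 :=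
        fun g' j hj => by rw [List.getD_eq_getElem _ _ hj, List.getD_eq_getElem _ _ hj]
      rw [hd0 (.sgn 0) (2 * co.d) (by rw [hMl, hMn]; simp),
        hd0 (.sgn 0) (2 * co.d + 1) (by rw [hMl, hMn]; simp)] at hu'
      rcases (show i = 2 * co.d ∨ i = 2 * co.d + 1 by omega) with rfl | rfl
      · rw [show 2 * co.d - 2 * co.d = 0 by omega]
        cases hg : M.gens.getD (2 * co.d) .unit1 with
        | unit1 =>
          refine acts_unit1 basis hc hq0 hD _ fun w _ => ⟨?_, ?_⟩
          · rw [hb0, hb1, happ 0 (by omega), ← z1]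
          · rw [hb0, hb1, happ 0 (by omega), z2, map_neg]
        | sgn m => rw [hg] at hu'; simp at hu'
        | swp s m => rw [hg] at hu'; simp at hu'
        | unit2 => rw [hg] at hu'; simp at hu'
      · rw [show 2 * co.d + 1 - 2 * co.d = 1 by omega]
        cases hg : M.gens.getD (2 * co.d + 1) .unit1 with
        | unit2 =>
          refine acts_unit2 basis hc hq0 hD _ fun w _ => ⟨?_, ?_⟩
          · rw [hb0, hb1, happ 1 (by omega), z3, map_add]
          · rw [hb0, hb1, happ 1 (by omega), z4, map_sub]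
        | sgn m =>
          cases hg0 : M.gens.getD (2 * co.d) .unit1 <;> rw [hg, hg0] at hu' <;> simp at hu'
        | swp s m =>
          cases hg0 : M.gens.getD (2 * co.d) .unit1 <;> rw [hg, hg0] at hu' <;> simp at hu'
        | unit1 =>
          cases hg0 : M.gens.getD (2 * co.d) .unit1 <;> rw [hg, hg0] at hu' <;> simp at hu'
  · obtain ⟨hchar, -⟩ := exists_natCast (K := K) hq hK
    refine vec_inj basis hMq (fun c hc0 j hj => ?_) hv hw he
    have : ∀ i, NeZero (co.n i) := fun i => ⟨(co.prime i).ne_zero⟩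
    let e := co.toBin htwo
    let F : ((i : Fin co.d) → ZMod (co.n i)) → V := fun z =>
      ∑ a ∈ Finset.range k, c (k * code (e z) + a) • fr.R (e z) (ζ a)
    have hIn : ∀ z, S.InEig u (co.r z) (F z) := by
      intro z x hx r hr
      simp only [F, Finset.smul_sum]
      refine Finset.sum_congr rfl fun a ha => ?_
      rw [Finset.mem_range] at ha
      have hz : ∃ y ∈ S.Y u, ∃ s : K, ζ a = s • y • u := by
        rcases (show a = 0 ∨ a = 1 ∧ ny = 2 by omega) with rfl | ⟨rfl, h2⟩
        · exact ⟨1, one_mem _, 1, by rw [hζ0, one_smul, one_smul]⟩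
        · exact ⟨eY 0, (hY 0 (by omega)).2.1, cY 0, by rw [(hζ1 h2).1, (hY 0 (by omega)).1.2.2]⟩
      obtain ⟨y, hy', s, hs⟩ := hz
      rw [S.C_linear (S.B_le_C hx.1), hs, map_smul, S.C_linear (S.B_le_C hx.1),
        co.inEig_R fr hu.1 z hy' x hx r hr]
      simp only [smul_smul]
      congr 1
      ring
    have hsum : ∑ z, F z = 0 := by
      rw [← hc0, hMe, sum_range_blocks k]
      refine Finset.sum_bij' (fun z _ => code (e z)) (fun w _ => e.symm (mask co.d w)) ?_ ?_ ?_ ?_ ?_
      · intro z _; exact Finset.mem_range.mpr (code_lt _)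
      · intro w _; exact Finset.mem_univ _
      · intro z _; show e.symm (mask co.d (code (e z))) = z
        rw [mask_code, AddEquiv.symm_apply_apply]
      · intro w hw; show code (e (e.symm (mask co.d w))) = w
        rw [AddEquiv.apply_symm_apply, code_mask (Finset.mem_range.mp hw)]
      · intro z _
        refine Finset.sum_congr rfl fun a ha => ?_
        rw [hbasis _ _ (Finset.mem_range.mp ha), mask_code]
    have hjd : j / k < 2 ^ co.d := by
      rw [Nat.div_lt_iff_lt_mul hk0, mul_comm]; rwa [← hMe]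
    have h0 := co.indep hu.1 Finset.univ F (fun z _ => hIn z) hsum (e.symm (mask co.d (j / k)))
      (Finset.mem_univ _)
    simp only [F, AddEquiv.apply_symm_apply, code_mask hjd] at h0
    rw [show ∑ a ∈ Finset.range k, c (k * (j / k) + a) • fr.R (mask co.d (j / k)) (ζ a) =
      fr.R (mask co.d (j / k)) (∑ a ∈ Finset.range k, c (k * (j / k) + a) • ζ a) by
        rw [map_sum]; exact Finset.sum_congr rfl fun a _ => (map_smul _ _ _).symm] at h0
    have := hind _ (co.R_inj fr _ h0) (j % k) (Nat.mod_lt _ hk0)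
    rwa [Nat.div_add_mod] at this

/-- pairs from models when `Y = X` -/
theorem pair_ops_plus {htwo : ∀ i, co.n i = 2} {ys : Set H} (fr : co.Frame htwo ys) (hC : S.C ≠ S.A)
    (hu : S.IsBest u) (hYX : S.Y u = S.X u) {q : ℕ} (hq : q.Prime) (hK : Nat.card K = q)
    (hneg : (-1 : K) ≠ 1) (hcop : (Nat.card H).Coprime q)
    (Ms : List Model) (Ls : List (List (List ℕ))) (t : Tree)
    (hshape : ∀ M ∈ Ms, M.shapeOK q co.d 1 = true) (hlen : Ms.length = Ls.length)
    (hlist : (Ms.zip Ls).all (fun e => e.1.listed e.2) = true)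
    (htree : treeOK q (2 ^ (2 * co.d)) Ls t [] = true) :
    ∃ v w : V, ∀ g : H, g • v = v → g • w = w → g = 1 :=
  co.pair_frame_ops fr hC hu hq hK hneg hcop 1 0 (Or.inl ⟨rfl, rfl⟩) (fun _ => 1) (fun _ => 1)
    (fun _ => 1) (fun i hi => absurd hi (Nat.not_lt_zero i)) (fun h => absurd h (by omega))
    (fun b hb _ z hz => commutatorElement_eq_one_iff_mul_comm.mpr
      (S.X_comm hu.1 b (hYX ▸ hb) z (hYX ▸ hz)))
    (fun _ => u) rfl (fun h => absurd h (by omega))
    (fun c h a ha => by
      rw [Finset.sum_range_one, smul_eq_zero] at h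
      rw [show a = 0 by omega]
      exact h.resolve_right hu.1)
    Ms Ls t hshape hlen hlist htree

/-- pairs from models with quaternion units over the field of three elements -/
theorem pair_ops_minus {htwo : ∀ i, co.n i = 2} {y1 y2 : H} (fr : co.Frame htwo {y1, y2})
    (hC : S.C ≠ S.A) (hu : S.IsBest u) (hK : Nat.card K = 3) (hy1 : y1 ∈ S.Y u) (hy2 : y2 ∈ S.Y u)
    (hy1X : y1 ∉ S.X u) (hy2X : y2 ∉ S.X u)
    (hgen : ∀ b ∈ S.Y u, b ∈ S.X u ∨ y1⁻¹ * b ∈ S.X u ∨ y2⁻¹ * b ∈ S.X u ∨ (y2 * y1)⁻¹ * b ∈ S.X u)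
    (hχ : S.χ' ⁅y1, y2⁆ = -1) {a b : K} (hab : y2 • u = a • u + b • y1 • u)
    (hcop : (Nat.card H).Coprime 3)
    (Ms : List Model) (Ls : List (List (List ℕ))) (t : Tree)
    (hshape : ∀ M ∈ Ms, M.shapeOK 3 co.d 2 = true) (hlen : Ms.length = Ls.length)
    (hlist : (Ms.zip Ls).all (fun e => e.1.listed e.2) = true)
    (htree : treeOK 3 (2 ^ (2 * co.d + 2)) Ls t [] = true) :
    ∃ v w : V, ∀ g : H, g • v = v → g • w = w → g = 1 := by
  classical
  obtain ⟨hchar, hnat⟩ := exists_natCast (K := K) Nat.prime_three hK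
  have hK' : ∀ k : K, k ≠ 0 → k = 1 ∨ k = -1 := by
    intro k hk
    obtain ⟨m, h1, h2, rfl⟩ := hnat k hk
    rcases (show m = 1 ∨ m = 2 by omega) with rfl | rfl
    · exact Or.inl Nat.cast_one
    · refine Or.inr (eq_neg_of_add_eq_zero_left ?_)
      have h3 : ((3 : ℕ) : K) = 0 := CharP.cast_eq_zero K 3
      rw [← h3]; norm_num
  have h3 : (3 : K) = 0 := by exact_mod_cast CharP.cast_eq_zero K 3
  have hneg : (-1 : K) ≠ 1 := fun h => one_ne_zero (by linear_combination h3 + h : (1 : K) = 0)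
  have h2K : 2 ∣ Nat.card K - 1 := by rw [hK]
  have hsq : ∀ y ∈ S.Y u, y ∉ S.X u → y • y • u = -u := by
    intro y hy hyX
    obtain ⟨k, hk⟩ := (S.sq_mem_X hC hu hy).2
    rcases hK' k fun h => hu.1 ((smul_eq_zero_iff_eq _).mp (by rw [hk, h, zero_smul])) with rfl | rfl
    · exact absurd (S.mem_X_of_root hu Nat.prime_two h2K hy (s := 1) (by rw [hk, one_pow])) hyX
    · rw [← mul_smul, ← sq, hk, neg_one_smul]
  have h11 := hsq y1 hy1 hy1X
  have h22 := hsq y2 hy2 hy2X
  have hindu : ∀ p r : K, p • u + r • y1 • u = 0 → p = 0 ∧ r = 0 := by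
    intro p r hpr
    by_cases hr : r = 0
    · exact ⟨(smul_eq_zero.mp (by simpa [hr] using hpr)).resolve_right hu.1, hr⟩
    · refine absurd ⟨hy1.1, -(r⁻¹ * p), ?_⟩ hy1X
      rw [neg_smul, ← smul_smul, eq_neg_of_add_eq_zero_left hpr, smul_neg, smul_smul,
        inv_mul_cancel₀ hr, one_smul, neg_neg]
  have hl : ∀ {y : H}, y ∈ S.Y u → ∀ (r : K) (v : V), y • (r • v) = r • y • v :=
    fun hy r v => S.C_linear (S.B_le_C hy.1) r v
  have h21 : y2 • y1 • u = -(a • y1 • u) + b • u := by
    rw [← neg_neg (y2 • y1 • u), ← S.anticomm_smul hy1.1 hy2.1 hχ, hab, smul_add, hl hy1, hl hy1, h11,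
      smul_neg, neg_add, neg_neg]
  have hrel : a * a + b * b = -1 ∧ (a * b - b * a) = 0 := by
    refine ⟨?_, by ring⟩
    have h := h22
    rw [hab, smul_add, hl hy2, hl hy2, h21, hab] at h
    have h' : (a * a + b * b + 1) • u + (a * b - b * a) • y1 • u = 0 := by
      rw [← sub_eq_zero] at h
      rw [← h]
      generalize y1 • u = p
      module
    linear_combination (hindu _ _ h').1
  obtain ⟨hab2, -⟩ := hrel
  have ha0 : a ≠ 0 := by
    intro h
    rcases eq_or_ne b 0 with hb | hb
    · rw [h, hb] at hab2; simp at hab2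
    · rcases hK' b hb with e | e <;> rw [h, e] at hab2 <;> exact hneg (by linear_combination -hab2)
  have hb0 : b ≠ 0 := by
    intro h
    rcases hK' a ha0 with e | e <;> rw [h, e] at hab2 <;> exact hneg (by linear_combination -hab2)
  have hab1 : (a * b) * (a * b) = 1 := by
    rcases hK' a ha0 with rfl | rfl <;> rcases hK' b hb0 with rfl | rfl <;> ring
  have ha1 : a * a = 1 := by rcases hK' a ha0 with rfl | rfl <;> ring
  have hy12 : y1 ∈ ({y1, y2} : Set H) := Set.mem_insert _ _
  have hy22 : y2 ∈ ({y1, y2} : Set H) := Set.mem_insert_of_mem _ rfl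
  let eY : ℕ → H := fun i => if i = 0 then y1 else y2
  let cY : ℕ → K := fun i => if i = 0 then a * b else a
  let GY : ℕ → Module.End K V := fun i =>
    if i = 0 then (a * b) • S.lin (S.B_le_C hy1.1) else a • S.lin (S.B_le_C hy2.1)
  let ζ : ℕ → V := fun i => if i = 0 then u else (a * b) • y1 • u
  refine co.pair_frame_ops fr hC hu Nat.prime_three hK hneg hcop 2 2 (Or.inr ⟨rfl, rfl⟩) eY cY GY
    (fun i _ => ?_) (fun _ => hχ) ?_ ζ rfl (fun _ => ⟨rfl, ?_, ?_, ?_⟩) ?_ Ms Ls t hshape hlen hlist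
    htree
  · simp only [eY, cY, GY]
    split_ifs
    · exact ⟨⟨mul_ne_zero ha0 hb0, hy1.1, fun v => rfl⟩, hy1, hy12⟩
    · exact ⟨⟨ha0, hy2.1, fun v => rfl⟩, hy2, hy22⟩
  · intro z hz h w hw
    have e1 : Commute z y1 := commutatorElement_eq_one_iff_mul_comm.mp (h 0 (by omega))
    have e2 : Commute z y2 := commutatorElement_eq_one_iff_mul_comm.mp (h 1 (by omega))
    have eX : ∀ x ∈ S.X u, Commute z x := fun x hx =>
      (Subgroup.mem_centralizer_iff.mp hz.2 x hx).symm
    refine commutatorElement_eq_one_iff_mul_comm.mpr ?_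
    rcases hgen w hw with hh | hh | hh | hh
    · exact (eX _ hh).eq
    · have := e1.mul_right (eX _ hh); rw [mul_inv_cancel_left] at this; exact this.eq
    · have := e2.mul_right (eX _ hh); rw [mul_inv_cancel_left] at this; exact this.eq
    · have := (e2.mul_right e1).mul_right (eX _ hh); rw [mul_inv_cancel_left] at this; exact this.eq
  · show (a * b) • y1 • ((a * b) • y1 • u) = -u
    rw [hl hy1, h11, smul_smul, hab1, one_smul]
  · show a • y2 • u = u + (a * b) • y1 • u
    rw [hab, smul_add, smul_smul, smul_smul, ha1, one_smul]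
  · show a • y2 • ((a * b) • y1 • u) = u - (a * b) • y1 • u
    rw [hl hy2, h21, smul_add, smul_add, smul_neg, smul_neg, smul_smul, smul_smul, smul_smul, smul_smul]
    have e1 : a * (a * b) * a = a * b := by linear_combination (a * b) * ha1
    have e2 : a * (a * b) * b = 1 := by
      rcases hK' a ha0 with rfl | rfl <;> rcases hK' b hb0 with rfl | rfl <;> ring
    rw [e1, e2, one_smul]
    abel
  · intro c h i hi
    rw [Finset.sum_range_succ, Finset.sum_range_one] at h
    simp only [ζ, ↓reduceIte, one_ne_zero, smul_smul] at h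
    obtain ⟨h0, h1⟩ := hindu _ _ h
    rcases (show i = 0 ∨ i = 1 by omega) with rfl | rfl
    · exact h0
    · exact (mul_eq_zero.mp h1).resolve_right (mul_ne_zero ha0 hb0)

end Coords

end Setup

end CfsgLib.BaseThree
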