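import Cfsg.Agent.Lib.BaseCoprime.MonoPairs
import Cfsg.Agent.Lib.BaseCoprime.OpsPairs
import Cfsg.Agent.Lib.BaseCoprime.Sparse
/-
Two vectors for a semilinear solvable group of order prime to the characteristic over a field of
odd order.
-/
set_option autoImplicit false
set_option linter.unusedSectionVars false

universe u

namespace CfsgLib.BaseThree

variable {K V H : Type u} [Field K] [Finite K] [AddCommGroup V] [Finite V] [Nontrivial V]
  [Module K V] [Group H] [Finite H] [DistribMulAction H V] [FaithfulSMul H V]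

namespace Setup

variable (S : Setup K V H)

theorem pair_of_C_ne (hC : S.C ≠ S.A) (hodd : 2 ∣ Nat.card K - 1)
    (hcop : (Nat.card H).Coprime (Nat.card V)) :
    ∃ v w : V, ∀ g : H, g • v = v → g • w = w → g = 1 := by
  classical
  have : Fintype K := Fintype.ofFinite K
  obtain ⟨u, hu, hgood⟩ := S.exists_goodLine hC
  obtain ⟨c₀, hc₀, hctl'⟩ := S.exists_centre_vector hC hu hgood
  obtain ⟨co⟩ := S.nonempty_coords hC hu.1
  have hctl : ∀ g : H, g • u = u → g • c₀ = c₀ → S.Ctl u g := fun g h1 h2 =>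
    ⟨(hctl' g h1 h2).1, h1, (hctl' g h1 h2).2⟩
  by_cases hbig : ∀ i, co.n i = 2 → ¬ Nat.card K - 1 ∣ 8
  · exact co.pair_colours hC hu.1 hodd hbig hc₀ hctl'
  push Not at hbig
  obtain ⟨-, -, h8⟩ := hbig
  have htwo : ∀ i, co.n i = 2 := fun i =>
    (Nat.prime_dvd_prime_iff_eq (co.prime i) Nat.prime_two).mp
      ((co.prime i).dvd_of_dvd_pow (show co.n i ∣ 2 ^ 3 from (co.dvd i).trans h8))
  rcases Nat.lt_or_ge co.d 2 with hd1 | hd2
  · exact co.pair_small hC hu.1 (by omega) htwo hc₀ hctl'
  rcases Nat.lt_or_ge co.d 6 with hd5 | hd6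
  swap
  · exact co.pair_path hC hu.1 htwo hd6 hc₀ hctl'
  have hq : Nat.card K = 3 ∨ Nat.card K = 5 ∨ Nat.card K = 9 := by
    have h := Nat.le_of_dvd (by norm_num) h8
    have h1 : 1 < Nat.card K := Finite.one_lt_card
    generalize Nat.card K = q at hodd h8 h h1 ⊢
    have : q < 10 := by omega
    interval_cases q <;> revert hodd h8 <;> decide
  have hneg : (-1 : K) ≠ 1 := by
    intro h
    have h2 : ringChar K = 2 := neg_one_eq_one_iff.mp h
    have := FiniteField.even_card_iff_char_two.mp h2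
    rw [← Nat.card_eq_fintype_card] at this
    omega
  obtain ⟨hpq, hprime⟩ : (Nat.card K = 9 → (Nat.card H).Coprime 3) ∧
      (∀ p, Nat.card K = p → (Nat.card H).Coprime p) := by
    have hdvd : Nat.card K ∣ Nat.card V := by
      rw [Module.natCard_eq_pow_finrank (K := K) (V := V)]
      exact dvd_pow_self _ (Module.finrank_pos (R := K) (M := V)).ne'
    exact ⟨fun h => Nat.Coprime.coprime_dvd_right ((show 3 ∣ 9 by norm_num).trans (h ▸ hdvd)) hcop,
      fun p h => Nat.Coprime.coprime_dvd_right (h ▸ hdvd) hcop⟩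
  have hsq : Nat.card K ≠ 3 → S.Y u = S.X u := fun h => S.Y_eq_of_isSquare hC hu hgood (by
    rw [FiniteField.isSquare_neg_one_iff, ← Nat.card_eq_fintype_card]
    omega)
  by_cases hYX : S.Y u = S.X u
  · obtain ⟨fr⟩ := co.exists_frame hC hu htwo hneg (fun _ => hYX) ∅ (Set.empty_subset _)
      (fun b _ => ⟨1, one_mem _, fun z hz => absurd hz (Set.notMem_empty z)⟩)
    have h3 : Nat.card K = 3 → (Nat.card H).Coprime 3 := hprime 3
    rcases (show co.d = 2 ∨ co.d = 3 ∨ co.d = 4 ∨ co.d = 5 by omega) with hd | hd | hd | hd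
    · rcases hq with hK | hK | hK
      · exact co.pair_ops_plus fr hC hu hYX Nat.prime_three hK hneg (h3 hK) Check.ops3_2p
          Check.ops3_2p_moves Check.ops3_2p_tree (by rw [hd]; decide +kernel) rfl
          Check.ops3_2p_listed (by rw [hd]; exact Check.ops3_2p_tree_ok)
      · exact co.pair_ops_plus fr hC hu hYX (by norm_num) hK hneg (hprime 5 hK) Check.ops5_2
          Check.ops5_2_moves Check.ops5_2_tree (by rw [hd]; decide +kernel) rfl
          Check.ops5_2_listed (by rw [hd]; exact Check.ops5_2_tree_ok)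
      · exact co.pair_cyclic fr hC hu hYX (hpq hK) hc₀ hctl Check.mono9_2 Check.moves9_2
          Check.tree9_2 (by rw [hd, hK]; decide +kernel) Check.mono9_2_listed
          (by rw [hd]; exact Check.tree9_2_ok)
    · rcases hq with hK | hK | hK
      · exact co.pair_ops_plus fr hC hu hYX Nat.prime_three hK hneg (h3 hK) Check.ops3_3p
          Check.ops3_3p_moves Check.ops3_3p_tree (by rw [hd]; decide +kernel) rfl
          Check.ops3_3p_listed (by rw [hd]; exact Check.ops3_3p_tree_ok)
      · exact co.pair_ops_plus fr hC hu hYX (by norm_num) hK hneg (hprime 5 hK) Check.ops5_3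
          Check.ops5_3_moves Check.ops5_3_tree (by rw [hd]; decide +kernel) rfl
          Check.ops5_3_listed (by rw [hd]; exact Check.ops5_3_tree_ok)
      · exact co.pair_cyclic fr hC hu hYX (hpq hK) hc₀ hctl [Check.mono9_3] [[]] (.node 0 [])
          (by rw [hd, hK]; decide +kernel) (listed_single Check.mono9_3_ok) (treeOK_single _ _)
    · rcases hq with hK | hK | hK
      · exact co.pair_cyclic fr hC hu hYX (h3 hK) hc₀ hctl Check.mono3_4 Check.moves3_4
          Check.tree3_4 (by rw [hd, hK]; decide +kernel) Check.mono3_4_listed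
          (by rw [hd]; exact Check.tree3_4_ok)
      · exact co.pair_cyclic fr hC hu hYX (hprime 5 hK) hc₀ hctl [Check.mono5_4] [[]] (.node 0 [])
          (by rw [hd, hK]; decide +kernel) (listed_single Check.mono5_4_ok) (treeOK_single _ _)
      · exact co.pair_cyclic fr hC hu hYX (hpq hK) hc₀ hctl [Check.mono9_4] [[]] (.node 0 [])
          (by rw [hd, hK]; decide +kernel) (listed_single Check.mono9_4_ok) (treeOK_single _ _)
    · exact co.pair_five fr hC hu.1 hd (p := Nat.card K) (hprime _ rfl) hc₀ hctl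
  · have hK : Nat.card K = 3 := by
      by_contra h; exact hYX (hsq h)
    obtain ⟨y1, hy1, y2, hy2, hy1X, hy2X, hy12, hgen, hχ, a, b, hab⟩ := hgood.resolve_left hYX
    have hnsq : IsSquare (-1 : K) → S.Y u = S.X u := S.Y_eq_of_isSquare hC hu (Or.inr
      ⟨y1, hy1, y2, hy2, hy1X, hy2X, hy12, hgen, hχ, a, b, hab⟩)
    obtain ⟨fr⟩ := co.exists_frame hC hu htwo hneg hnsq {y1, y2}
      (by rintro z (rfl | rfl) <;> assumption) (co.exists_adjust hC hu htwo hy1 hy2 hχ)
    rcases (show co.d = 2 ∨ co.d = 3 ∨ co.d = 4 ∨ co.d = 5 by omega) with hd | hd | hd | hd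
    · exact co.pair_ops_minus fr hC hu hK hy1 hy2 hy1X hy2X hgen hχ hab (hprime 3 hK) Check.ops3_3m
        Check.ops3_3m_moves Check.ops3_3m_tree (by rw [hd]; decide +kernel) rfl
        Check.ops3_3m_listed (by rw [hd]; exact Check.ops3_3m_tree_ok)
    · exact co.pair_quat fr hC hu hK hy1 hy2 hy1X hy2X hy12 hgen hχ (hprime 3 hK) hc₀ hctl
        Check.monoQ8 (by rw [hd]; rfl) (by decide +kernel) Check.monoQ8_ok
    · exact co.pair_quat fr hC hu hK hy1 hy2 hy1X hy2X hy12 hgen hχ (hprime 3 hK) hc₀ hctl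
        Check.monoQ8_4 (by rw [hd]; rfl) (by decide +kernel) Check.monoQ8_4_ok
    · exact co.pair_five fr hC hu.1 hd (p := Nat.card K) (hprime _ rfl) hc₀ hctl

/-- two vectors in the coprime case over a field of odd order -/
theorem exists_pair_coprime (S : Setup K V H) (hodd : 2 ∣ Nat.card K - 1)
    (hcop : (Nat.card H).Coprime (Nat.card V)) :
    ∃ v w : V, ∀ g : H, g • v = v → g • w = w → g = 1 := by
  by_cases hC : S.C = S.A
  · obtain ⟨u, hu⟩ := exists_ne (0 : V)
    obtain ⟨θ, hθ⟩ := exists_generator (K := K)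
    refine ⟨u, θ • u, fun g h1 h2 => ?_⟩
    rw [S.smul_comm', h1] at h2
    have hgC := S.σ_eq_of_generator hθ (smul_left_injective K hu h2)
    exact S.A_fix_trivial (hC ▸ hgC) hu h1
  · exact S.pair_of_C_ne hC hodd hcop

end Setup

end CfsgLib.BaseThree
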