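import Cfsg.Agent.Lib.BaseCoprime.Check
/-
Supports in small binary spaces whose stabilisers cannot all meet a group of order prime to three.
-/
set_option autoImplicit false
set_option maxRecDepth 100000
set_option maxHeartbeats 1000000

namespace CfsgLib.BaseThree.Check

/-- the data and the moves agree -/
def covered (Ds : List Mono) (L : List (List (List Nat))) : Bool :=
  Ds.length == L.length && (Ds.zip L).all fun e => e.1.moves.all fun t => e.2.contains t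

/-- supports with 2 coordinates -/
def supp2 : List Mono := [
  ⟨2, 1, [[0]], 0, [0], [none, some 0, none, none]⟩,
  ⟨2, 1, [[0]], 0, [0], [none, none, some 0, none]⟩]

/-- their moves -/
def suppMoves2 : List (List (List Nat)) := [
  [[0, 1, 3, 2]],
  [[0, 3, 2, 1]]]

/-- the certificate -/
def suppTree2 : Tree := .node 0 [.node 1 [.bad [0, 1] 1]]

theorem supp2_covered : covered supp2 suppMoves2 = true := by decide +kernel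

theorem suppTree2_ok : treeOK 3 4 suppMoves2 suppTree2 [] = true := by decide +kernel

/-- supports with 3 coordinates -/
def supp3 : List Mono := [
  ⟨3, 1, [[0]], 0, [0], [none, some 0, some 0, none, some 0, none, none, none]⟩,
  ⟨3, 1, [[0]], 0, [0], [none, some 0, none, some 0, some 0, none, none, none]⟩,
  ⟨3, 1, [[0]], 0, [0], [none, some 0, some 0, some 0, some 0, none, none, none]⟩,
  ⟨3, 1, [[0]], 0, [0], [none, some 0, some 0, none, none, some 0, none, none]⟩,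
  ⟨3, 1, [[0]], 0, [0], [none, some 0, none, some 0, none, some 0, none, none]⟩,
  ⟨3, 1, [[0]], 0, [0], [none, some 0, some 0, some 0, none, some 0, none, none]⟩,
  ⟨3, 1, [[0]], 0, [0], [none, some 0, some 0, none, none, none, some 0, none]⟩,
  ⟨3, 1, [[0]], 0, [0], [none, none, some 0, some 0, none, none, some 0, none]⟩]

/-- their moves -/
def suppMoves3 : List (List (List Nat)) := [
  [[0, 1, 4, 5, 2, 3, 6, 7], [0, 2, 1, 3, 4, 6, 5, 7], [0, 2, 4, 6, 1, 3, 5, 7], [0, 4, 1, 5, 2, 6, 3, 7], [0, 4, 2, 6, 1, 5, 3, 7]],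
  [[0, 1, 5, 4, 3, 2, 6, 7], [0, 3, 2, 1, 4, 7, 6, 5], [0, 3, 7, 4, 1, 2, 6, 5], [0, 4, 5, 1, 3, 7, 6, 2], [0, 4, 7, 3, 1, 5, 6, 2]],
  [[0, 1, 3, 2, 4, 5, 7, 6], [0, 2, 1, 3, 4, 6, 5, 7], [0, 2, 3, 1, 4, 6, 7, 5], [0, 3, 1, 2, 4, 7, 5, 6], [0, 3, 2, 1, 4, 7, 6, 5]],
  [[0, 1, 5, 4, 3, 2, 6, 7], [0, 2, 1, 3, 7, 5, 6, 4], [0, 2, 5, 7, 3, 1, 6, 4], [0, 5, 1, 4, 7, 2, 6, 3], [0, 5, 2, 7, 4, 1, 6, 3]],
  [[0, 1, 4, 5, 2, 3, 6, 7], [0, 3, 2, 1, 6, 5, 4, 7], [0, 3, 6, 5, 2, 1, 4, 7], [0, 5, 4, 1, 6, 3, 2, 7], [0, 5, 6, 3, 4, 1, 2, 7]],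
  [[0, 1, 3, 2, 4, 5, 7, 6], [0, 2, 1, 3, 7, 5, 6, 4], [0, 2, 3, 1, 7, 5, 4, 6], [0, 3, 1, 2, 6, 5, 7, 4], [0, 3, 2, 1, 6, 5, 4, 7]],
  [[0, 1, 6, 7, 4, 5, 2, 3], [0, 2, 1, 3, 7, 5, 6, 4], [0, 2, 6, 4, 7, 5, 1, 3], [0, 6, 1, 7, 3, 5, 2, 4], [0, 6, 2, 4, 3, 5, 1, 7]],
  [[0, 1, 3, 2, 5, 4, 6, 7], [0, 4, 2, 6, 1, 5, 3, 7], [0, 4, 6, 2, 5, 1, 3, 7], [0, 5, 3, 6, 1, 4, 2, 7], [0, 5, 6, 3, 4, 1, 2, 7]]]

/-- the certificate -/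
def suppTree3 : Tree := .node 0 [.node 7 [.node 2 [.node 6 [.bad [0, 3] 1, .bad [1, 3] 1, .bad [3] 1, .bad [3] 1, .bad [2, 3] 1], .bad [0, 2] 1, .bad [2] 1, .bad [2] 1, .bad [1, 2] 1], .bad [0, 1] 1, .bad [1] 1, .bad [1] 1, .bad [0, 1] 1], .node 4 [.bad [0, 1] 1, .bad [0, 1] 1, .bad [1] 1, .bad [1] 1, .node 1 [.node 5 [.bad [0, 3] 1, .bad [2, 3] 1, .bad [3] 1, .bad [3] 1, .bad [0, 3] 1], .bad [0, 2] 1, .bad [2] 1, .bad [2] 1, .bad [1, 2] 1]], .bad [0] 1, .bad [0] 1, .node 4 [.bad [0, 1] 1, .node 2 [.bad [1, 2] 1, .bad [0, 2] 1, .bad [2] 1, .bad [2] 1, .node 3 [.bad [2, 3] 1, .bad [1, 3] 1, .bad [3] 1, .bad [3] 1, .bad [0, 3] 1]], .bad [1] 1, .bad [1] 1, .bad [0, 1] 1]]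

theorem supp3_covered : covered supp3 suppMoves3 = true := by decide +kernel

theorem suppTree3_ok : treeOK 3 8 suppMoves3 suppTree3 [] = true := by decide +kernel

/-- supports with 4 coordinates -/
def supp4 : List Mono := [
  ⟨4, 1, [[0]], 0, [0], [none, some 0, some 0, some 0, some 0, some 0, none, none, some 0, none, none, none, none, none, none, none]⟩,
  ⟨4, 1, [[0]], 0, [0], [none, some 0, some 0, some 0, some 0, none, some 0, none, some 0, none, none, none, none, none, none, none]⟩,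
  ⟨4, 1, [[0]], 0, [0], [none, some 0, some 0, some 0, none, some 0, some 0, none, some 0, none, none, none, none, none, none, none]⟩,
  ⟨4, 1, [[0]], 0, [0], [none, some 0, some 0, none, some 0, some 0, some 0, none, some 0, none, none, none, none, none, none, none]⟩,
  ⟨4, 1, [[0]], 0, [0], [none, some 0, none, some 0, some 0, some 0, some 0, none, some 0, none, none, none, none, none, none, none]⟩,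
  ⟨4, 1, [[0]], 0, [0], [none, some 0, some 0, some 0, some 0, none, none, some 0, some 0, none, none, none, none, none, none, none]⟩,
  ⟨4, 1, [[0]], 0, [0], [none, some 0, some 0, some 0, some 0, none, some 0, none, some 0, some 0, none, none, none, none, none, none]⟩,
  ⟨4, 1, [[0]], 0, [0], [none, some 0, some 0, some 0, some 0, none, none, some 0, some 0, some 0, none, none, none, none, none, none]⟩,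
  ⟨4, 1, [[0]], 0, [0], [none, none, some 0, some 0, some 0, some 0, some 0, none, some 0, none, some 0, none, none, none, none, none]⟩,
  ⟨4, 1, [[0]], 0, [0], [none, some 0, none, some 0, some 0, some 0, some 0, none, none, some 0, some 0, none, none, none, none, none]⟩,
  ⟨4, 1, [[0]], 0, [0], [none, some 0, some 0, none, some 0, none, none, none, some 0, some 0, some 0, none, none, none, none, none]⟩,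
  ⟨4, 1, [[0]], 0, [0], [none, none, some 0, some 0, some 0, none, some 0, none, some 0, some 0, some 0, none, none, none, none, none]⟩]

/-- their moves -/
def suppMoves4 : List (List (List Nat)) := [
  [[0, 1, 2, 3, 5, 4, 7, 6, 8, 9, 10, 11, 13, 12, 15, 14], [0, 1, 3, 2, 4, 5, 7, 6, 8, 9, 11, 10, 12, 13, 15, 14], [0, 1, 3, 2, 5, 4, 6, 7, 8, 9, 11, 10, 13, 12, 14, 15], [0, 1, 4, 5, 2, 3, 6, 7, 8, 9, 12, 13, 10, 11, 14, 15], [0, 1, 4, 5, 3, 2, 7, 6, 8, 9, 12, 13, 11, 10, 15, 14], [0, 1, 5, 4, 2, 3, 7, 6, 8, 9, 13, 12, 10, 11, 15, 14], [0, 1, 5, 4, 3, 2, 6, 7, 8, 9, 13, 12, 11, 10, 14, 15]],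
  [[0, 1, 2, 3, 6, 7, 4, 5, 8, 9, 10, 11, 14, 15, 12, 13], [0, 3, 2, 1, 4, 7, 6, 5, 8, 11, 10, 9, 12, 15, 14, 13], [0, 3, 2, 1, 6, 5, 4, 7, 8, 11, 10, 9, 14, 13, 12, 15], [0, 4, 2, 6, 1, 5, 3, 7, 8, 12, 10, 14, 9, 13, 11, 15], [0, 4, 2, 6, 3, 7, 1, 5, 8, 12, 10, 14, 11, 15, 9, 13], [0, 6, 2, 4, 1, 7, 3, 5, 8, 14, 10, 12, 9, 15, 11, 13], [0, 6, 2, 4, 3, 5, 1, 7, 8, 14, 10, 12, 11, 13, 9, 15]],
  [[0, 1, 2, 3, 7, 6, 5, 4, 8, 9, 10, 11, 15, 14, 13, 12], [0, 2, 1, 3, 4, 6, 5, 7, 8, 10, 9, 11, 12, 14, 13, 15], [0, 2, 1, 3, 7, 5, 6, 4, 8, 10, 9, 11, 15, 13, 14, 12], [0, 5, 6, 3, 4, 1, 2, 7, 8, 13, 14, 11, 12, 9, 10, 15], [0, 5, 6, 3, 7, 2, 1, 4, 8, 13, 14, 11, 15, 10, 9, 12], [0, 6, 5, 3, 4, 2, 1, 7, 8, 14, 13, 11, 12, 10, 9, 15], [0, 6, 5, 3, 7, 1, 2, 4, 8, 14, 13, 11, 15, 9, 10, 12]],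
  [[0, 1, 6, 7, 4, 5, 2, 3, 8, 9, 14, 15, 12, 13, 10, 11], [0, 2, 1, 3, 4, 6, 5, 7, 8, 10, 9, 11, 12, 14, 13, 15], [0, 2, 5, 7, 4, 6, 1, 3, 8, 10, 13, 15, 12, 14, 9, 11], [0, 5, 2, 7, 4, 1, 6, 3, 8, 13, 10, 15, 12, 9, 14, 11], [0, 5, 6, 3, 4, 1, 2, 7, 8, 13, 14, 11, 12, 9, 10, 15], [0, 6, 1, 7, 4, 2, 5, 3, 8, 14, 9, 15, 12, 10, 13, 11], [0, 6, 5, 3, 4, 2, 1, 7, 8, 14, 13, 11, 12, 10, 9, 15]],
  [[0, 1, 7, 6, 4, 5, 3, 2, 8, 9, 15, 14, 12, 13, 11, 10], [0, 3, 2, 1, 6, 5, 4, 7, 8, 11, 10, 9, 14, 13, 12, 15], [0, 3, 7, 4, 6, 5, 1, 2, 8, 11, 15, 12, 14, 13, 9, 10], [0, 4, 2, 6, 1, 5, 3, 7, 8, 12, 10, 14, 9, 13, 11, 15], [0, 4, 7, 3, 1, 5, 6, 2, 8, 12, 15, 11, 9, 13, 14, 10], [0, 6, 2, 4, 3, 5, 1, 7, 8, 14, 10, 12, 11, 13, 9, 15], [0, 6, 7, 1, 3, 5, 4, 2, 8, 14, 15, 9, 11, 13, 12, 10]],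
  [[0, 1, 2, 3, 7, 6, 5, 4, 8, 9, 10, 11, 15, 14, 13, 12], [0, 2, 1, 3, 4, 6, 5, 7, 8, 10, 9, 11, 12, 14, 13, 15], [0, 2, 1, 3, 7, 5, 6, 4, 8, 10, 9, 11, 15, 13, 14, 12], [0, 4, 7, 3, 1, 5, 6, 2, 8, 12, 15, 11, 9, 13, 14, 10], [0, 4, 7, 3, 2, 6, 5, 1, 8, 12, 15, 11, 10, 14, 13, 9], [0, 7, 4, 3, 1, 6, 5, 2, 8, 15, 12, 11, 9, 14, 13, 10], [0, 7, 4, 3, 2, 5, 6, 1, 8, 15, 12, 11, 10, 13, 14, 9]],
  [[0, 1, 2, 3, 4, 5, 6, 7, 9, 8, 11, 10, 13, 12, 15, 14], [0, 1, 2, 3, 6, 7, 4, 5, 8, 9, 10, 11, 14, 15, 12, 13], [0, 1, 2, 3, 6, 7, 4, 5, 9, 8, 11, 10, 15, 14, 13, 12], [0, 2, 1, 3, 8, 10, 9, 11, 4, 6, 5, 7, 12, 14, 13, 15], [0, 2, 1, 3, 8, 10, 9, 11, 6, 4, 7, 5, 14, 12, 15, 13], [0, 2, 1, 3, 9, 11, 8, 10, 4, 6, 5, 7, 13, 15, 12, 14], [0, 2, 1, 3, 9, 11, 8, 10, 6, 4, 7, 5, 15, 13, 14, 12]],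
  [[0, 1, 2, 3, 4, 5, 6, 7, 9, 8, 11, 10, 13, 12, 15, 14], [0, 1, 2, 3, 7, 6, 5, 4, 8, 9, 10, 11, 15, 14, 13, 12], [0, 1, 2, 3, 7, 6, 5, 4, 9, 8, 11, 10, 14, 15, 12, 13], [0, 3, 2, 1, 8, 11, 10, 9, 4, 7, 6, 5, 12, 15, 14, 13], [0, 3, 2, 1, 8, 11, 10, 9, 7, 4, 5, 6, 15, 12, 13, 14], [0, 3, 2, 1, 9, 10, 11, 8, 4, 7, 6, 5, 13, 14, 15, 12], [0, 3, 2, 1, 9, 10, 11, 8, 7, 4, 5, 6, 14, 13, 12, 15]],
  [[0, 1, 2, 3, 4, 5, 6, 7, 10, 11, 8, 9, 14, 15, 12, 13], [0, 7, 2, 5, 4, 3, 6, 1, 8, 15, 10, 13, 12, 11, 14, 9], [0, 7, 2, 5, 4, 3, 6, 1, 10, 13, 8, 15, 14, 9, 12, 11], [0, 12, 6, 10, 4, 8, 2, 14, 3, 15, 5, 9, 7, 11, 1, 13], [0, 12, 6, 10, 4, 8, 2, 14, 5, 9, 3, 15, 1, 13, 7, 11], [0, 14, 6, 8, 4, 10, 2, 12, 3, 13, 5, 11, 7, 9, 1, 15], [0, 14, 6, 8, 4, 10, 2, 12, 5, 11, 3, 13, 1, 15, 7, 9]],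
  [[0, 1, 2, 3, 4, 5, 6, 7, 11, 10, 9, 8, 15, 14, 13, 12], [0, 4, 7, 3, 1, 5, 6, 2, 13, 9, 10, 14, 12, 8, 11, 15], [0, 4, 7, 3, 1, 5, 6, 2, 14, 10, 9, 13, 15, 11, 8, 12], [0, 9, 12, 5, 10, 3, 6, 15, 8, 1, 4, 13, 2, 11, 14, 7], [0, 9, 12, 5, 10, 3, 6, 15, 13, 4, 1, 8, 7, 14, 11, 2], [0, 10, 15, 5, 9, 3, 6, 12, 11, 1, 4, 14, 2, 8, 13, 7], [0, 10, 15, 5, 9, 3, 6, 12, 14, 4, 1, 11, 7, 13, 8, 2]],
  [[0, 1, 10, 11, 4, 5, 14, 15, 8, 9, 2, 3, 12, 13, 6, 7], [0, 2, 1, 3, 4, 6, 5, 7, 8, 10, 9, 11, 12, 14, 13, 15], [0, 2, 9, 11, 4, 6, 13, 15, 8, 10, 1, 3, 12, 14, 5, 7], [0, 9, 2, 11, 4, 13, 6, 15, 8, 1, 10, 3, 12, 5, 14, 7], [0, 9, 10, 3, 4, 13, 14, 7, 8, 1, 2, 11, 12, 5, 6, 15], [0, 10, 1, 11, 4, 14, 5, 15, 8, 2, 9, 3, 12, 6, 13, 7], [0, 10, 9, 3, 4, 14, 13, 7, 8, 2, 1, 11, 12, 6, 5, 15]],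
  [[0, 1, 2, 3, 6, 7, 4, 5, 8, 9, 10, 11, 14, 15, 12, 13], [0, 11, 2, 9, 4, 15, 6, 13, 8, 3, 10, 1, 12, 7, 14, 5], [0, 11, 2, 9, 6, 13, 4, 15, 8, 3, 10, 1, 14, 5, 12, 7], [0, 12, 10, 6, 3, 15, 9, 5, 8, 4, 2, 14, 11, 7, 1, 13], [0, 12, 10, 6, 9, 5, 3, 15, 8, 4, 2, 14, 1, 13, 11, 7], [0, 14, 10, 4, 3, 13, 9, 7, 8, 6, 2, 12, 11, 5, 1, 15], [0, 14, 10, 4, 9, 7, 3, 13, 8, 6, 2, 12, 1, 15, 11, 5]]]

/-- the certificate -/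
def suppTree4 : Tree := .node 0 [.node 8 [.node 9 [.node 10 [.bad [1, 3] 1, .node 4 [.bad [3, 4] 1, .bad [3, 4] 1, .bad [0, 4, 4] 1, .bad [0, 4] 1, .bad [0, 4] 1, .bad [0, 4] 1, .bad [0, 4, 4] 1], .bad [2, 3] 1, .bad [2, 3] 1, .bad [1, 3] 1, .bad [2, 3] 1, .bad [1, 3] 1], .bad [0, 2] 1, .bad [0, 2] 2, .bad [1, 2] 2, .bad [0, 2] 2, .bad [0, 2] 2, .bad [1, 2] 2], .bad [0, 1] 1, .bad [0, 1] 2, .bad [0, 1, 1] 2, .bad [0, 1] 2, .bad [0, 1] 2, .bad [0, 1, 1] 2], .node 1 [.node 3 [.bad [1, 2] 1, .bad [0, 2] 1, .bad [0, 2] 1, .bad [0, 1, 0, 2] 1, .bad [1, 2] 1, .bad [0, 2] 1, .bad [0, 2] 1], .bad [0, 1] 1, .bad [0, 1] 1, .node 2 [.bad [1, 2] 1, .bad [0, 2] 1, .bad [0, 2] 1, .bad [1, 2] 1, .bad [0, 2, 2] 1, .bad [0, 2] 1, .bad [0, 2, 2] 1], .bad [0, 1, 1] 1, .bad [0, 1, 1] 1, .bad [0, 1] 1], .node 1 [.node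 3 [.bad [1, 2] 1, .bad [0, 2] 1, .bad [0, 2, 2] 1, .bad [0, 2] 1, .bad [0, 2] 1, .bad [0, 2, 2] 1, .bad [1, 2] 1], .bad [0, 1] 1, .bad [0, 1] 1, .bad [0, 1] 1, .bad [0, 1, 1] 1, .bad [0, 1, 1] 1, .node 5 [.bad [1, 2] 1, .bad [0, 2] 1, .bad [0, 2] 1, .bad [0, 2] 1, .bad [0, 2, 2] 1, .bad [0, 2, 2] 1, .bad [1, 2] 1]], .node 7 [.node 11 [.bad [0, 2] 1, .bad [1, 2] 1, .bad [0, 2] 2, .bad [0, 2, 2] 2, .bad [0, 2] 2, .bad [1, 2] 2, .bad [0, 2, 2] 2], .bad [0, 1] 1, .bad [0, 1] 2, .bad [0, 1] 2, .bad [0, 1, 1] 2, .bad [0, 1, 1] 2, .bad [0, 1] 2], .node 1 [.bad [0, 1] 1, .bad [0, 0, 1] 1, .bad [0, 0, 1] 1, .bad [0, 0, 1] 1, .bad [0, 0, 1, 1] 1, .bad [0, 0, 1, 1] 1, .bad [0, 1] 1], .node 1 [.bad [0, 1] 1, .bad [0, 0, 1] 1, .bad [0, 0, 1] 1, .bad [0, 0, 1] 1, .bad [0, 0, 1, 1] 1, .bad [0, 0, 1, 1] 1, .bad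 [0, 1] 1], .node 6 [.node 11 [.bad [0, 2] 1, .bad [0, 2] 1, .bad [1, 2] 2, .bad [0, 2] 1, .bad [1, 2] 2, .bad [1, 2] 2, .bad [0, 2] 1], .bad [0, 1] 1, .bad [0, 1] 2, .bad [0, 1] 2, .bad [0, 1, 1] 2, .bad [0, 1, 1] 2, .bad [0, 1] 2]]

theorem supp4_covered : covered supp4 suppMoves4 = true := by decide +kernel

theorem suppTree4_ok : treeOK 3 16 suppMoves4 suppTree4 [] = true := by decide +kernel

end CfsgLib.BaseThree.Check
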