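import Cfsg.Agent.Lib.BaseThree.Main
import Cfsg.Agent.Lib.BaseCoprime.Path
import Cfsg.Agent.Lib.BaseCoprime.MonoSound
import Cfsg.Agent.Lib.BaseCoprime.TreeSound
import Cfsg.Agent.Lib.BaseCoprime.MonoData
import Cfsg.Agent.Lib.BaseCoprime.SuppData
/-
A set of vectors fixed by no nontrivial element of a solvable irreducible group of order prime to
three, in characteristic other than three.
-/
set_option autoImplicit false

universe u

namespace CfsgLib.BaseThree

open Check
open CfsgLib.BaseTwo (IsCR IsIrr)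

/-- supports only -/
def Check.Mono.suppOK (D : Mono) : Bool :=
  decide (D.neg = 0) && decide (D.allowed = [0]) && decide (D.op 0 0 = 0) &&
    D.val.all fun v => v == none || v == some 0

/-- the support of a datum as a set of binary vectors -/
def suppSet (d : ℕ) (D : Mono) : Set (Fin d → ZMod 2) :=
  {v | v ≠ 0 ∧ (D.val.getD (code v) none).isSome}

theorem supp_tab_mem {d : ℕ} (D : Mono) (hd : D.d = d) (ho : D.suppOK = true)
    (M : (Fin d → ZMod 2) →+ (Fin d → ZMod 2)) (hM : Function.Injective M)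
    (hpres : ∀ v, M v ∈ suppSet d D ↔ v ∈ suppSet d D) :
    tabOf M = List.range (2 ^ d) ∨ tabOf M ∈ D.moves := by
  simp only [Mono.suppOK, Bool.and_eq_true, decide_eq_true_eq, List.all_eq_true, Bool.or_eq_true,
    beq_iff_eq] at ho
  obtain ⟨⟨⟨hneg, hall⟩, h00⟩, hval⟩ := ho
  refine tab_mem D hd M (fun _ => 0) (fun _ => 0) (fun _ _ => by simp [hall])
    (fun k _ => by simp [hneg]) fun k hk w hw hw' => ?_
  have hphase : ∀ (l : List ℕ) (f : ℕ → ℕ) (i : ℕ),
      D.phaseFrom w (l.map fun j => (f j, 0, 0)) i 0 = 0 := by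
    intro l f
    induction l with
    | nil => intro i; rfl
    | cons x l ih =>
      intro i
      simp only [List.map_cons, Mono.phaseFrom, withNat_eq]
      rw [show D.phaseStep w i (f x, 0, 0) 0 = 0 by simp [Mono.phaseStep, hneg, h00], ih]
  have hwd : w < 2 ^ d := lt_of_lt_of_le hw' (Nat.pow_le_pow_right two_pos hk)
  have hv : mask d w ≠ 0 := fun h => by
    have := code_mask hwd
    rw [h, code_zero] at this
    have := Nat.two_pow_pos k
    omega
  have hMv : M (mask d w) ≠ 0 := fun h => hv (hM (h.trans (map_zero M).symm))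
  have hval0 : ∀ j a, D.val.getD j none = some a → a = 0 := fun j a h => by
    by_cases hj : j < D.val.length
    · rw [List.getD_eq_getElem _ _ hj] at h
      rcases hval _ (List.getElem_mem hj) with e | e <;> rw [e] at h
      · simp at h
      · simpa using h.symm
    · rw [List.getD_eq_default _ _ (Nat.le_of_not_lt hj)] at h
      simp at h
  have hiff := hpres (mask d w)
  simp only [suppSet, Set.mem_setOf_eq, ne_eq, hMv, hv, not_false_eq_true, true_and, code_mask hwd]
    at hiff
  simp only [Mono.okAt, withNat_eq, List.map_map]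
  rw [show ((fun e : ℕ × ℕ × ℕ => e.1) ∘ fun i => (code (M (mask d (2 ^ i))), 0, 0)) =
    fun i => code (M (mask d (2 ^ i))) from rfl, imgOf_map M (k + 1) hk _ hw', Bool.and_eq_true]
  refine ⟨by simpa using fun h => hMv (code_eq_zero h), ?_⟩
  rcases ha : D.val.getD w none with _ | a <;>
    rcases hb : D.val.getD (code (M (mask d w))) none with _ | b <;>
    rw [ha, hb] at hiff <;> simp only [Option.isSome_none, Option.isSome_some] at hiff ⊢
  · simp at hiff
  · simp at hiff
  · rw [hval0 _ _ ha, hval0 _ _ hb]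
    simp only [Mono.phase, hphase, h00, beq_self_eq_true]

variable {G W : Type u} [Group G] [Finite G] [AddCommGroup W] [DistribMulAction G W]

/-- the binary map of a group element -/
def binAct {d : ℕ} (e : W ≃+ (Fin d → ZMod 2)) (g : G) : (Fin d → ZMod 2) →+ (Fin d → ZMod 2) :=
  AddMonoidHom.mk' (fun v => e (g • e.symm v)) fun a b => by rw [map_add, smul_add, map_add]

theorem binAct_injective {d : ℕ} (e : W ≃+ (Fin d → ZMod 2)) (g : G) :
    Function.Injective (binAct e g) := fun a b h =>
  e.symm.injective (MulAction.injective g (e.injective h))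

/-- a group of order prime to three misses one of the supports -/
theorem exists_set_of_tree {d : ℕ} (e : W ≃+ (Fin d → ZMod 2)) (h3 : ¬ 3 ∣ Nat.card G)
    (Ds : List Mono) (L : List (List (List ℕ))) (t : Tree)
    (hD : ∀ D ∈ Ds, D.d = d ∧ D.suppOK = true) (hcov : covered Ds L = true)
    (htree : treeOK 3 (2 ^ d) L t [] = true) :
    ∃ Y : Set W, (0 : W) ∉ Y ∧
      ∀ g : G, (∀ w : W, g • w ∈ Y ↔ w ∈ Y) → ∀ w : W, g • w = w := by
  by_contra hno
  push Not at hno
  simp only [covered, Bool.and_eq_true, beq_iff_eq, List.all_eq_true, List.contains_iff_mem] at hcov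
  obtain ⟨hlen, hcov⟩ := hcov
  let Lp : List ℕ → Prop := fun P => ∃ g : G, P = tabOf (binAct e g)
  refine treeOK_sound (p := 3) (size := 2 ^ d) (S := L) Lp ?_ ?_ ?_ ?_ ?_ t []
    (fun i hi => absurd hi (Nat.not_lt_zero i)) htree
  · rintro P ⟨g, rfl⟩; simp [tabOf]
  · exact ⟨1, (tabOf_id.mpr fun v => by simp [binAct]).symm⟩
  · rintro a b ⟨g, rfl⟩ ⟨h, rfl⟩
    refine ⟨g * h, ?_⟩
    rw [pmul_tabOf]
    congr 1
    funext v
    simp [binAct, mul_smul]
  · rintro Q ⟨g, rfl⟩ hQ
    rw [ppow_tabOf] at hQ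
    obtain ⟨m, hm⟩ := exists_pow_eq_self_of_coprime (Nat.Coprime.coprime_dvd_right (orderOf_dvd_natCard g)
      ((Nat.prime_three.coprime_iff_not_dvd).mpr h3))
    have hit : ∀ (n : ℕ) v, (binAct e g)^[n] v = binAct e (g ^ n) v := by
      intro n
      induction n with
      | zero => intro v; simp [binAct]
      | succ n ih => intro v; rw [Function.iterate_succ_apply', ih, pow_succ']; simp [binAct, mul_smul]
    have h1 : ∀ w : W, g ^ 3 • w = w := fun w => by
      have := tabOf_id.mp hQ (e w)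
      rw [hit] at this
      simpa [binAct] using this
    have h2 : ∀ (j : ℕ) (w : W), (g ^ 3) ^ j • w = w := fun j => by
      induction j with
      | zero => intro w; simp
      | succ j ih => intro w; rw [pow_succ, mul_smul, h1, ih]
    refine tabOf_id.mpr fun v => ?_
    show e (g • e.symm v) = v
    rw [← hm, h2, AddEquiv.apply_symm_apply]
  intro j hj
  have hjD : j < Ds.length := hlen ▸ hj
  obtain ⟨hd, ho⟩ := hD _ (List.getElem_mem hjD)
  obtain ⟨g, hg, w, hw⟩ := hno (e ⁻¹' suppSet d Ds[j]) (by simp [suppSet, map_zero])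
  have hpres : ∀ v, binAct e g v ∈ suppSet d Ds[j] ↔ v ∈ suppSet d Ds[j] := fun v => by
    have := hg (e.symm v)
    simpa [binAct] using this
  rcases supp_tab_mem _ hd ho _ (binAct_injective e g) hpres with hid | hmv
  · refine absurd (e.injective ?_) hw
    have := tabOf_id.mp hid (e w)
    simpa [binAct] using this
  · refine ⟨_, ?_, g, rfl⟩
    rw [List.getD_eq_getElem _ _ hj]
    exact hcov (Ds[j], L[j]) (List.mem_iff_getElem.mpr
      ⟨j, by rw [List.length_zip]; omega, by simp⟩) _ hmv

theorem exists_rigid_set [Finite W] [Nontrivial W] (hs : Group.IsSolvable G) (hirr : IsIrr G W)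
    (h3 : ¬ 3 ∣ Nat.card G) (hW3 : ¬ 3 ∣ Nat.card W) :
    ∃ Y : Set W, (0 : W) ∉ Y ∧
      ∀ g : G, (∀ w : W, g • w ∈ Y ↔ w ∈ Y) → ∀ w : W, g • w = w := by
  classical
  obtain ⟨p, k, hp, hexp, hcard, hk⟩ := exists_prime_exponent hirr
  have hp3 : p ≠ 3 := fun h => hW3 (hcard ▸ h ▸ dvd_pow_self _ hk.ne')
  have : Fact p.Prime := ⟨hp⟩
  by_cases hp2 : p = 2
  · subst hp2
    let : Module (ZMod 2) W := AddCommGroup.zmodModule hexp
    obtain ⟨d, ⟨e⟩⟩ : ∃ d, Nonempty (W ≃+ (Fin d → ZMod 2)) :=
      ⟨_, ⟨(Module.finBasis (ZMod 2) W).equivFun.toAddEquiv⟩⟩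
    rcases (show d ≤ 1 ∨ d = 2 ∨ d = 3 ∨ d = 4 ∨ d = 5 ∨ 6 ≤ d by omega) with hd | hd | hd | hd | hd | hd
    · refine ⟨∅, fun h => h, fun g _ w => ?_⟩
      have huniq : ∀ a b : W, a ≠ 0 → b ≠ 0 → a = b := fun a b ha hb => by
        refine e.injective (funext fun i => ?_)
        have key : ∀ x : W, x ≠ 0 → e x i = 1 := fun x hx => (zmod2_cases _).resolve_left fun h =>
          hx (e.injective (by
            rw [map_zero]
            funext l
            rw [show l = i from Fin.ext (by have := i.2; have := l.2; omega)]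
            exact h))
        rw [key a ha, key b hb]
      by_cases hw : w = 0
      · rw [hw, smul_zero]
      · exact huniq _ _ ((smul_ne_zero_iff_ne g).mpr hw) hw
    · subst hd
      exact exists_set_of_tree e h3 supp2 suppMoves2 suppTree2 (by decide +kernel) supp2_covered
        suppTree2_ok
    · subst hd
      exact exists_set_of_tree e h3 supp3 suppMoves3 suppTree3 (by decide +kernel) supp3_covered
        suppTree3_ok
    · subst hd
      exact exists_set_of_tree e h3 supp4 suppMoves4 suppTree4 (by decide +kernel) supp4_covered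
        suppTree4_ok
    · subst hd
      exact exists_set_of_tree e h3 [mono1_5] [[]] (.node 0 []) (by decide +kernel)
        (by simp [covered, mono1_5_ok.1]) (by simp [treeOK, Check.Tree.node, walk])
    · refine ⟨{w | PathSet d (e w)}, ?_, fun g hg w => ?_⟩
      · show ¬ PathSet d (e 0)
        rw [map_zero]
        rintro (⟨i, hi, h⟩ | ⟨i, hi, h⟩ | h)
        · have := congrFun h ⟨i, hi⟩; simp [bvec] at this
        · have := congrFun h ⟨i, by omega⟩; simp [pvec] at this
        · have := congrFun h ⟨0, by omega⟩; simp [qvec] at this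
      · refine e.injective ?_
        have := path_fix hd (binAct e g) (binAct_injective e g) (fun v hv => by
          have := (hg (e.symm v)).mpr (by simpa using hv)
          simpa [binAct] using this) (e w)
        simpa [binAct] using this
  -- a minimal set of vectors with trivial stabiliser, weighted by their positions
  have hp5 : 5 ≤ p := by
    have := hp.two_le
    have : p ≠ 4 := fun h => by rw [h] at hp; norm_num at hp
    omega
  obtain ⟨v, hv⟩ := below (Nat.card W + 1) G W hs hirr.isCR (Nat.lt_succ_self _)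
  let cand : Finset (Finset W) := ((Finset.univ.image v).powerset).filter fun P =>
    ∀ g : G, (∀ x ∈ P, g • x = x) → ∀ w : W, g • w = w
  obtain ⟨P, hP, hmin⟩ := Finset.exists_min_image cand Finset.card ⟨Finset.univ.image v,
    Finset.mem_filter.mpr ⟨Finset.mem_powerset_self _, fun g hg => hv g fun r =>
      hg _ (Finset.mem_image_of_mem v (Finset.mem_univ r))⟩⟩
  obtain ⟨hPv, hPbase⟩ := Finset.mem_filter.mp hP
  have hP3 : P.card ≤ 3 :=
    (Finset.card_le_card (Finset.mem_powerset.mp hPv)).trans (Finset.card_image_le.trans (by simp))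
  have herase : ∀ x ∈ P, ∃ g : G, (∀ y ∈ P, y ≠ x → g • y = y) ∧ g • x ≠ x := by
    intro x hx
    by_contra h
    push Not at h
    have hc := hmin (P.erase x) (Finset.mem_filter.mpr
      ⟨Finset.mem_powerset.mpr ((Finset.erase_subset _ _).trans (Finset.mem_powerset.mp hPv)),
        fun g hg => hPbase g fun y hy => by
          by_cases hyx : y = x
          · subst hyx; exact h g fun z hz hzx => hg z (Finset.mem_erase.mpr ⟨hzx, hz⟩)
          · exact hg y (Finset.mem_erase.mpr ⟨hyx, hy⟩)⟩)
    have := Finset.card_erase_lt_of_mem hx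
    omega
  let : Module (ZMod p) W := AddCommGroup.zmodModule hexp
  have hlin : ∀ (g : G) (c : ZMod p) (x : W), g • (c • x) = c • g • x := fun g c x =>
    ZMod.map_smul (DistribMulAction.toAddMonoidHom W g) c x
  let idx : P → Fin 3 := fun x => Fin.castLE hP3 (P.equivFin x)
  have hidx : Function.Injective idx := fun x y h => P.equivFin.injective (Fin.castLE_injective _ h)
  have hsmall : ∀ j : ℕ, 1 ≤ j → j ≤ 3 → (j : ZMod p) ≠ 0 := fun j h1 h2 h => by
    rw [ZMod.natCast_eq_zero_iff] at h
    have := Nat.le_of_dvd h1 h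
    omega
  let J : P → Finset ℕ := fun x => Finset.Icc 1 ((idx x).val + 1)
  have hJ : ∀ x, ∀ j ∈ J x, 1 ≤ j ∧ j ≤ 3 := fun x j hj => by
    have := (idx x).2
    simp only [J, Finset.mem_Icc] at hj
    omega
  have hne0 : ∀ x : P, (x : W) ≠ 0 := fun x h => by
    obtain ⟨g, -, hg⟩ := herase x x.2
    exact hg (by rw [h, smul_zero])
  have hindep : ∀ (x y : P) (a b : ZMod p), a ≠ 0 → a • (x : W) = b • (y : W) → x = y := by
    intro x y a b ha h
    by_contra hne
    obtain ⟨g, hgfix, hg⟩ := herase x x.2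
    have hy := hgfix y y.2 fun e => hne (Subtype.ext e.symm)
    have hx : (x : W) = (a⁻¹ * b) • (y : W) := by rw [← smul_smul, ← h, smul_smul, inv_mul_cancel₀ ha, one_smul]
    exact hg (by rw [hx, hlin, hy])
  let Y : Set W := {w | ∃ x : P, ∃ j ∈ J x, w = (j : ZMod p) • (x : W)}
  refine ⟨Y, ?_, fun g hg => hPbase g ?_⟩
  · rintro ⟨x, j, hj, h⟩
    exact hne0 x (by rw [← inv_smul_smul₀ (hsmall j (hJ x j hj).1 (hJ x j hj).2) (x : W), ← h, smul_zero])
  have hmap : ∀ x : P, ∃ y : P, ∃ c : ZMod p, c ≠ 0 ∧ g • (x : W) = c • (y : W) ∧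
      ∀ j ∈ J x, ∃ i ∈ J y, (j : ZMod p) * c = i := by
    intro x
    have h1 : (x : W) ∈ Y := ⟨x, 1, by simp [J], by rw [Nat.cast_one, one_smul]⟩
    obtain ⟨y, i, hi, hgi⟩ := (hg x).mpr h1
    have hi0 := hsmall i (hJ y i hi).1 (hJ y i hi).2
    refine ⟨y, i, hi0, hgi, fun j hj => ?_⟩
    obtain ⟨z, l, hl, hgl⟩ := (hg ((j : ZMod p) • (x : W))).mpr ⟨x, j, hj, rfl⟩
    rw [hlin, hgi, smul_smul] at hgl
    obtain rfl := hindep y z _ _ (mul_ne_zero (hsmall j (hJ x j hj).1 (hJ x j hj).2) hi0) hgl
    refine ⟨l, hl, sub_eq_zero.mp (by_contra fun hd => hne0 y ?_)⟩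
    rw [← inv_smul_smul₀ hd (y : W), sub_smul, hgl, sub_self, smul_zero]
  choose π c hc0 hπ hπJ using hmap
  have hπinj : Function.Injective π := by
    intro x y h
    have hx : g • (c y • (x : W)) = g • (c x • (y : W)) := by
      rw [hlin, hlin, hπ, hπ, h, smul_smul, smul_smul, mul_comm]
    exact hindep x y _ _ (hc0 y) (MulAction.injective g hx)
  choose f hfmem hf using fun x (j : ↥(J x)) => hπJ x j.1 j.2
  have hfinj : ∀ x, Function.Injective (f x) := by
    intro x a b h
    have e : ((a.1 : ℕ) : ZMod p) = ((b.1 : ℕ) : ZMod p) :=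
      mul_right_cancel₀ (hc0 x) (by rw [hf x a, hf x b, h])
    refine Subtype.ext ?_
    rw [ZMod.natCast_eq_natCast_iff] at e
    exact Nat.ModEq.eq_of_lt_of_lt e (by have := hJ x a.1 a.2; omega) (by have := hJ x b.1 b.2; omega)
  have hle : ∀ x, (idx x).val ≤ (idx (π x)).val := fun x => by
    have := Finset.card_le_card_of_injOn (s := Finset.univ (α := ↥(J x))) (t := J (π x)) (f x)
      (fun a _ => hfmem x a) fun a _ b _ h => hfinj x h
    simp only [Finset.card_univ, Fintype.card_coe, J, Nat.card_Icc] at this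
    omega
  have hfix : ∀ x, π x = x := by
    have hsum : ∑ x, (idx x).val = ∑ x, (idx (π x)).val :=
      (Equiv.sum_comp (Equiv.ofBijective π ⟨hπinj, Finite.surjective_of_injective hπinj⟩)
        fun x => (idx x).val).symm
    intro x
    exact hidx (Fin.ext ((Finset.sum_eq_sum_iff_of_le fun y _ => hle y).mp hsum x (Finset.mem_univ x)).symm)
  intro x hx
  specialize hπ ⟨x, hx⟩
  rw [hfix] at hπ
  suffices c ⟨x, hx⟩ = 1 by rw [hπ, this, one_smul]
  -- the set of multiples is preserved, so its sum is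
  have hperm : ∀ j ∈ J ⟨x, hx⟩, ∃ i ∈ J ⟨x, hx⟩, (j : ZMod p) * c ⟨x, hx⟩ = i := by
    intro j hj
    have := hπJ ⟨x, hx⟩ j hj
    rwa [hfix] at this
  set cc := c ⟨x, hx⟩
  set S : Finset (ZMod p) := (J ⟨x, hx⟩).image fun j : ℕ => (j : ZMod p)
  have himg : S.image (· * cc) = S := by
    refine Finset.eq_of_subset_of_card_le (fun z hz => ?_) ?_
    · obtain ⟨_, hy, rfl⟩ := Finset.mem_image.mp hz
      obtain ⟨j, hj, rfl⟩ := Finset.mem_image.mp hy
      obtain ⟨i, hi, he⟩ := hperm j hj
      show (j : ZMod p) * cc ∈ S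
      rw [he]
      exact Finset.mem_image_of_mem _ hi
    · rw [Finset.card_image_of_injective _ (mul_left_injective₀ (hc0 _))]
  have hsum : (∑ z ∈ S, z) * cc = ∑ z ∈ S, z := by
    conv_rhs => rw [← himg, Finset.sum_image fun a _ b _ h => mul_left_injective₀ (hc0 _) h]
    rw [Finset.sum_mul]
  have hS : (∑ z ∈ S, z) ≠ 0 := by
    have e : ∑ z ∈ S, z = ((∑ j ∈ J ⟨x, hx⟩, j : ℕ) : ZMod p) := by
      rw [Finset.sum_image, Nat.cast_sum]
      intro a ha b hb h
      rw [ZMod.natCast_eq_natCast_iff] at h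
      exact Nat.ModEq.eq_of_lt_of_lt h (by have := hJ _ a ha; omega) (by have := hJ _ b hb; omega)
    rw [e, Ne, ZMod.natCast_eq_zero_iff]
    intro hdvd
    have hsmall' : ∀ i : Fin 3, ∑ j ∈ Finset.Icc 1 (i.val + 1), j ∈ [1, 3, 6] := by decide
    have hne : ¬ p ∣ 1 ∧ ¬ p ∣ 3 ∧ ¬ p ∣ 6 := by
      refine ⟨fun h => ?_, fun h => ?_, fun h => ?_⟩
      · have := Nat.le_of_dvd one_pos h; omega
      · have := Nat.le_of_dvd (by norm_num) h; omega
      · have := Nat.le_of_dvd (by norm_num) h
        interval_cases p <;> first | omega | norm_num at hp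
    have hm := hsmall' (idx ⟨x, hx⟩)
    simp only [List.mem_cons, List.not_mem_nil, or_false] at hm
    rcases hm with e | e | e <;> rw [e] at hdvd
    · exact hne.1 hdvd
    · exact hne.2.1 hdvd
    · exact hne.2.2 hdvd
  exact mul_left_cancel₀ hS (hsum.trans (mul_one _).symm)

end CfsgLib.BaseThree
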